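import Cfsg.Agent.Lib.Local.TrapPair

/-!
# Best offenders in `p`-minimal groups: maximal intersections

`P` acts faithfully on the elementary abelian `V`, has no nontrivial normal `p`-subgroup, `M` is the unique
maximal subgroup over the Sylow subgroup `T`, `C_P(C_V(T)) ≤ M`, and `A₀` is a strict minimal offender.
Members are the conjugates of `A₀`. `Q` is a largest `p`-subgroup generated by members in two conjugates of `M`.
-/

set_option autoImplicit false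
set_option linter.style.haveILetI false

namespace Cfsg.Lib.Local.PMinOff

open Subgroup
open scoped commutatorElement
open OffenderPair (fx)
open TrapPair (mem_cj cj_cj cj_one cj_eq_of_mem cj_le)

variable {G : Type*} [Group G] {p : ℕ}

local notation:max "cj" g:max K:max => Subgroup.map (MulEquiv.toMonoidHom (MulAut.conj g)) K

/-- The hypotheses. -/
structure Conf (p : ℕ) (V P T M A₀ : Subgroup G) : Prop where
  hV : Cfsg.IsElementaryAbelian p V
  hPV : P ≤ normalizer (V : Set G)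
  hfaith : P ⊓ centralizer (V : Set G) = ⊥
  hTP : T ≤ P
  hTp : IsPGroup p ↥T
  hsyl : ∀ U : Subgroup G, U ≤ P → IsPGroup p ↥U → ∃ g ∈ P, U ≤ cj g T
  hMP : M < P
  hTM : T ≤ M
  huniq : ∀ K : Subgroup G, K ≤ P → T ≤ K → K ≤ M ∨ K = P
  hTn : ¬ P ≤ normalizer (T : Set G)
  hOp : ∀ U : Subgroup G, U ≤ P → IsPGroup p ↥U → P ≤ normalizer (U : Set G) → U = ⊥
  hCT : P ⊓ centralizer ((fx V T : Subgroup G) : Set G) ≤ M
  hA₀P : A₀ ≤ P
  hA₀ : Cfsg.IsElementaryAbelian p A₀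
  hA₀ne : A₀ ≠ ⊥
  hbound : Nat.card ↥V ≤ Nat.card ↥A₀ * Nat.card ↥(fx V A₀)
  hstrict : ∀ B : Subgroup G, B ≤ A₀ → B ≠ ⊥ → B ≠ A₀ →
    Nat.card ↥B * Nat.card ↥(fx V B) < Nat.card ↥A₀ * Nat.card ↥(fx V A₀)

/-- `A` is a member: a conjugate of `A₀` under `P`. -/
def Mem (P A₀ A : Subgroup G) : Prop := ∃ g ∈ P, A = cj g A₀

/-- The subgroup generated by the members inside `U`. -/
def mgen (P A₀ U : Subgroup G) : Subgroup G := sSup {A | Mem P A₀ A ∧ A ≤ U}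

/-- `U` lies in `M` and in a second conjugate of `M`. -/
def Two (P M U : Subgroup G) : Prop := ∃ g ∈ P, g ∉ M ∧ U ≤ M ∧ U ≤ cj g M

/-- A largest member-generated `p`-subgroup in two conjugates of `M`. -/
structure MaxQ (p : ℕ) (P M A₀ Q : Subgroup G) : Prop where
  two : Two P M Q
  pg : IsPGroup p ↥Q
  gen : mgen P A₀ Q = Q
  max : ∀ U : Subgroup G, mgen P A₀ U = U → IsPGroup p ↥U → Two P M U → Nat.card ↥U ≤ Nat.card ↥Q

/-- A member normalizing `Q` without lying in it. -/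
structure Adm (P A₀ Q A : Subgroup G) : Prop where
  mem : Mem P A₀ A
  norm : A ≤ normalizer (Q : Set G)
  not_le : ¬ A ≤ Q

theorem cj_le_iff {g : G} {K L : Subgroup G} : cj g K ≤ L ↔ K ≤ cj g⁻¹ L := by
  constructor
  · intro h x hx
    rw [mem_cj, inv_inv]
    exact h ⟨x, hx, rfl⟩
  · intro h
    rintro _ ⟨x, hx, rfl⟩
    have := mem_cj.1 (h hx)
    rwa [inv_inv] at this

theorem le_cj_iff {g : G} {K L : Subgroup G} : K ≤ cj g L ↔ cj g⁻¹ K ≤ L := by
  rw [cj_le_iff, inv_inv]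

theorem cj_inv_cj (g : G) (K : Subgroup G) : cj g⁻¹ (cj g K) = K := by rw [cj_cj, inv_mul_cancel, cj_one]

theorem cj_cj_inv (g : G) (K : Subgroup G) : cj g (cj g⁻¹ K) = K := by rw [cj_cj, mul_inv_cancel, cj_one]

theorem card_cj (g : G) (K : Subgroup G) : Nat.card ↥(cj g K) = Nat.card ↥K :=
  Subgroup.card_map_of_injective (MulAut.conj g).injective

theorem cj_normalizer {g : G} {K : Subgroup G} (hg : g ∈ normalizer (K : Set G)) : cj g K = K :=
  Core.map_conj_eq_of_mem_normalizer hg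

theorem cj_le_normalizer {g : G} {K L : Subgroup G} (h : L ≤ normalizer (K : Set G)) :
    cj g L ≤ normalizer ((cj g K : Subgroup G) : Set G) := by
  rintro _ ⟨x, hx, rfl⟩
  rw [Core.mem_normalizer_iff_map_conj]
  show cj (g * x * g⁻¹) (cj g K) = cj g K
  rw [cj_cj, show g * x * g⁻¹ * g = g * x by group, ← cj_cj, cj_normalizer (h hx)]

theorem mgen_le (P A₀ U : Subgroup G) : mgen P A₀ U ≤ U := sSup_le fun _ h => h.2

theorem le_mgen {P A₀ A U : Subgroup G} (hA : Mem P A₀ A) (hAU : A ≤ U) : A ≤ mgen P A₀ U :=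
  le_sSup ⟨hA, hAU⟩

theorem mgen_mono {P A₀ U W : Subgroup G} (h : U ≤ W) : mgen P A₀ U ≤ mgen P A₀ W :=
  sSup_le fun _ hA => le_mgen hA.1 (hA.2.trans h)

theorem mgen_mgen (P A₀ U : Subgroup G) : mgen P A₀ (mgen P A₀ U) = mgen P A₀ U :=
  le_antisymm (mgen_le _ _ _) (sSup_le fun _ hA => le_mgen hA.1 (le_mgen hA.1 hA.2))

theorem mgen_sup {P A₀ A U : Subgroup G} (hU : mgen P A₀ U = U) (hA : Mem P A₀ A) :
    mgen P A₀ (U ⊔ A) = U ⊔ A := by
  refine le_antisymm (mgen_le _ _ _) (sup_le ?_ (le_mgen hA le_sup_right))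
  exact hU.ge.trans (mgen_mono le_sup_left)

theorem Mem.conj {P A₀ A : Subgroup G} (h : Mem P A₀ A) {g : G} (hg : g ∈ P) : Mem P A₀ (cj g A) := by
  obtain ⟨y, hy, rfl⟩ := h
  exact ⟨g * y, mul_mem hg hy, cj_cj g y A₀⟩

theorem mgen_cj {P A₀ : Subgroup G} {g : G} (hg : g ∈ P) (U : Subgroup G) :
    mgen P A₀ (cj g U) = cj g (mgen P A₀ U) := by
  refine le_antisymm (sSup_le fun A hA => ?_) ?_
  · exact le_cj_iff.2 (le_mgen (hA.1.conj (inv_mem hg)) (le_cj_iff.1 hA.2))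
  · exact cj_le_iff.2 (sSup_le fun A hA => cj_le_iff.1 (le_mgen (hA.1.conj hg) (Subgroup.map_mono hA.2)))

theorem mgen_normalizer {P A₀ U : Subgroup G} {g : G} (hg : g ∈ P) (hn : g ∈ normalizer (U : Set G)) :
    g ∈ normalizer ((mgen P A₀ U : Subgroup G) : Set G) := by
  rw [Core.mem_normalizer_iff_map_conj, ← mgen_cj hg, cj_normalizer hn]

variable {V P T M A₀ Q A : Subgroup G}

namespace Conf

theorem comm_V (h : Conf p V P T M A₀) {x y : G} (hx : x ∈ V) (hy : y ∈ V) : x * y = y * x :=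
  haveI := h.hV.1
  congrArg Subtype.val (mul_comm' (⟨x, hx⟩ : ↥V) ⟨y, hy⟩)

theorem conj_mem_V (h : Conf p V P T M A₀) {g v : G} (hg : g ∈ P) (hv : v ∈ V) : g * v * g⁻¹ ∈ V :=
  (mem_normalizer_iff.1 (h.hPV hg) v).1 hv

theorem cj_V (h : Conf p V P T M A₀) {g : G} (hg : g ∈ P) : cj g V = V := cj_normalizer (h.hPV hg)

theorem mem_fx_cj (h : Conf p V P T M A₀) {g : G} (hg : g ∈ P) {K : Subgroup G} {v : G} :
    v ∈ fx V (cj g K) ↔ g⁻¹ * v * g ∈ fx V K := by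
  constructor
  · intro hv
    refine mem_inf.2 ⟨by simpa using h.conj_mem_V (inv_mem hg) hv.1, mem_centralizer_iff.2 fun a ha => ?_⟩
    have := mem_centralizer_iff.1 hv.2 (g * a * g⁻¹) ⟨a, ha, rfl⟩
    calc a * (g⁻¹ * v * g) = g⁻¹ * (g * a * g⁻¹ * v) * g := by group
      _ = g⁻¹ * v * g * a := by rw [this]; group
  · intro hv
    refine mem_inf.2 ⟨by simpa [mul_assoc] using h.conj_mem_V hg hv.1, mem_centralizer_iff.2 ?_⟩
    rintro _ ⟨a, ha, rfl⟩
    have := mem_centralizer_iff.1 hv.2 a ha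
    show g * a * g⁻¹ * v = v * (g * a * g⁻¹)
    calc g * a * g⁻¹ * v = g * (a * (g⁻¹ * v * g)) * g⁻¹ := by group
      _ = v * (g * a * g⁻¹) := by rw [this]; group

theorem fx_cj (h : Conf p V P T M A₀) {g : G} (hg : g ∈ P) (K : Subgroup G) :
    fx V (cj g K) = cj g (fx V K) := by
  ext v
  rw [h.mem_fx_cj hg, mem_cj]

theorem card_fx_cj (h : Conf p V P T M A₀) {g : G} (hg : g ∈ P) (K : Subgroup G) :
    Nat.card ↥(fx V (cj g K)) = Nat.card ↥(fx V K) := by rw [h.fx_cj hg, card_cj]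

theorem mem_le (h : Conf p V P T M A₀) (hA : Mem P A₀ A) : A ≤ P := by
  obtain ⟨g, hg, rfl⟩ := hA
  exact cj_le hg h.hA₀P

theorem mem_elem (h : Conf p V P T M A₀) (hA : Mem P A₀ A) : Cfsg.IsElementaryAbelian p A := by
  obtain ⟨g, hg, rfl⟩ := hA
  refine ⟨⟨⟨fun x y => ?_⟩⟩, ?_⟩
  · obtain ⟨a, ha, ea⟩ := x.2
    obtain ⟨b, hb, eb⟩ := y.2
    haveI := h.hA₀.1
    apply Subtype.ext
    show (x : G) * y = y * x
    have e : a * b = b * a := congrArg Subtype.val (mul_comm' (⟨a, ha⟩ : ↥A₀) ⟨b, hb⟩)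
    rw [← ea, ← eb, ← map_mul, ← map_mul, e]
  · rintro _ ⟨a, ha, rfl⟩
    rw [← map_pow, h.hA₀.2 a ha, map_one]

theorem mem_pgroup [Fact p.Prime] (h : Conf p V P T M A₀) (hA : Mem P A₀ A) : IsPGroup p ↥A :=
  PGroup.isPGroup_of_isElementaryAbelian (h.mem_elem hA)

theorem mem_ne_bot (h : Conf p V P T M A₀) (hA : Mem P A₀ A) : A ≠ ⊥ := by
  obtain ⟨g, hg, rfl⟩ := hA
  rw [ne_eq, Subgroup.map_eq_bot_iff_of_injective _ (MulAut.conj g).injective]
  exact h.hA₀ne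

theorem mem_card (hA : Mem P A₀ A) : Nat.card ↥A = Nat.card ↥A₀ := by
  obtain ⟨g, hg, rfl⟩ := hA
  exact card_cj g A₀

theorem mem_bound (h : Conf p V P T M A₀) (hA : Mem P A₀ A) :
    Nat.card ↥V ≤ Nat.card ↥A * Nat.card ↥(fx V A) := by
  obtain ⟨g, hg, rfl⟩ := hA
  rw [card_cj, h.card_fx_cj hg]
  exact h.hbound

theorem mem_strict (h : Conf p V P T M A₀) (hA : Mem P A₀ A) : ∀ B : Subgroup G, B ≤ A → B ≠ ⊥ → B ≠ A →
    Nat.card ↥B * Nat.card ↥(fx V B) < Nat.card ↥A * Nat.card ↥(fx V A) := by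
  obtain ⟨g, hg, rfl⟩ := hA
  intro B hB h0 h1
  have := h.hstrict (cj g⁻¹ B) ((Subgroup.map_mono hB).trans (cj_inv_cj g A₀).le)
    (fun e => h0 (by rwa [Subgroup.map_eq_bot_iff_of_injective _ (MulAut.conj g⁻¹).injective] at e))
    (fun e => h1 (by rw [← e, cj_cj_inv]))
  rw [card_cj, h.card_fx_cj (inv_mem hg)] at this
  rwa [card_cj, h.card_fx_cj hg]

theorem mgen_le_P (h : Conf p V P T M A₀) (U : Subgroup G) : mgen P A₀ U ≤ P :=
  sSup_le fun _ hA => h.mem_le hA.1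

/-- A `p`-subgroup containing `T` is `T`. -/
theorem sylow_max [Finite G] (h : Conf p V P T M A₀) {U : Subgroup G} (hU : U ≤ P) (hUp : IsPGroup p ↥U)
    (hTU : T ≤ U) : U = T := by
  obtain ⟨g, hg, hle⟩ := h.hsyl U hU hUp
  exact (Subgroup.eq_of_le_of_card_ge hTU ((card_le_of_le hle).trans (card_cj g T).le)).symm

/-- Sylow's theorem inside `M`. -/
theorem sylM [Finite G] [Fact p.Prime] (h : Conf p V P T M A₀) {U : Subgroup G} (hU : U ≤ M)
    (hUp : IsPGroup p ↥U) : ∃ m ∈ M, U ≤ cj m T := by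
  obtain ⟨S, hS⟩ := (h.hTp.comap_of_injective M.subtype M.subtype_injective :
    IsPGroup p ↥(T.subgroupOf M)).exists_le_sylow
  have hST : (S : Subgroup ↥M).map M.subtype = T :=
    h.sylow_max ((map_subtype_le _).trans h.hMP.le) (S.isPGroup'.map _)
      (fun t ht => ⟨⟨t, h.hTM ht⟩, hS (mem_subgroupOf.2 ht), rfl⟩)
  obtain ⟨S', hS'⟩ := (hUp.comap_of_injective M.subtype M.subtype_injective :
    IsPGroup p ↥(U.subgroupOf M)).exists_le_sylow
  obtain ⟨m, hm⟩ := MulAction.exists_smul_eq ↥M S S'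
  refine ⟨m, m.2, fun x hx => ?_⟩
  have h1 : (⟨x, hU hx⟩ : ↥M) ∈ (m • S : Sylow p ↥M) := hm ▸ hS' (mem_subgroupOf.2 hx)
  obtain ⟨s, hs, hsx⟩ := h1
  exact ⟨s, hST.le ⟨s, hs, rfl⟩, congrArg Subtype.val hsx⟩

theorem cj_M_of_mem {g : G} (hg : g ∈ M) : cj g M = M := cj_eq_of_mem hg

/-- The normalizer of `T` lies in `M`. -/
theorem normalizer_T (h : Conf p V P T M A₀) : P ⊓ normalizer (T : Set G) ≤ M :=
  (h.huniq _ inf_le_left (le_inf h.hTP le_normalizer)).resolve_right fun e => h.hTn (e.ge.trans inf_le_right)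

/-- A conjugate of `M` containing `T` is `M`. -/
theorem mem_of_T_le [Finite G] [Fact p.Prime] (h : Conf p V P T M A₀) {g : G} (hg : g ∈ P)
    (hT : cj g T ≤ M) : g ∈ M := by
  obtain ⟨m, hm, hle⟩ := h.sylM hT (h.hTp.map _)
  have hmg : m⁻¹ * g ∈ P := mul_mem (inv_mem (h.hMP.le hm)) hg
  have e : cj (m⁻¹ * g) T = T := by
    refine Subgroup.eq_of_le_of_card_ge ?_ (card_cj _ _).ge
    rw [← cj_cj, cj_le_iff, inv_inv]
    exact hle
  have := h.normalizer_T (mem_inf.2 ⟨hmg, Core.mem_normalizer_iff_map_conj.2 e⟩)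
  simpa using mul_mem hm this

/-- `M` is self-normalizing in `P`. -/
theorem mem_of_cj_M [Finite G] [Fact p.Prime] (h : Conf p V P T M A₀) {g : G} (hg : g ∈ P)
    (e : cj g M = M) : g ∈ M :=
  h.mem_of_T_le hg ((Subgroup.map_mono h.hTM).trans e.le)

/-- The normalizer of a nontrivial `p`-subgroup invariant under a conjugate of `T` in `M` lies in `M`. -/
theorem normalizer_le (h : Conf p V P T M A₀) {U : Subgroup G} (hU : U ≤ P) (hUp : IsPGroup p ↥U)
    (hne : U ≠ ⊥) (hT : T ≤ normalizer (U : Set G)) : P ⊓ normalizer (U : Set G) ≤ M :=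
  (h.huniq _ inf_le_left (le_inf h.hTP hT)).resolve_right fun e => hne (h.hOp U hU hUp (e.ge.trans inf_le_right))

/-- The members inside `T` generate a nontrivial subgroup. -/
theorem J_ne_bot [Fact p.Prime] (h : Conf p V P T M A₀) : mgen P A₀ T ≠ ⊥ := by
  obtain ⟨g, hg, hle⟩ := h.hsyl A₀ h.hA₀P (h.mem_pgroup ⟨1, one_mem _, (cj_one A₀).symm⟩)
  have hA : Mem P A₀ (cj g⁻¹ A₀) := ⟨g⁻¹, inv_mem hg, rfl⟩
  exact fun e => h.mem_ne_bot hA (le_bot_iff.1 ((le_mgen hA (le_cj_iff.1 hle)).trans e.le))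

/-- A conjugate of `M` containing all members of `T` is `M`. -/
theorem J_only [Finite G] [Fact p.Prime] (h : Conf p V P T M A₀) {g : G} (hg : g ∈ P)
    (hJ : mgen P A₀ T ≤ cj g M) : g ∈ M := by
  obtain ⟨m, hm, hle⟩ := h.sylM (le_cj_iff.1 hJ) ((h.hTp.to_le (mgen_le _ _ _)).map _)
  have hmP := h.hMP.le hm
  set k := g * m
  have hk : k ∈ P := mul_mem hg hmP
  have hle' : mgen P A₀ T ≤ cj k T := by
    show mgen P A₀ T ≤ cj (g * m) T
    rw [← cj_cj, le_cj_iff]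
    exact hle
  have e : cj k (mgen P A₀ T) = mgen P A₀ T := by
    refine (Subgroup.eq_of_le_of_card_ge ?_ (card_cj _ _).le).symm
    rw [← mgen_cj hk]
    exact (mgen_mgen P A₀ T).ge.trans (mgen_mono hle')
  have := h.normalizer_le (h.mgen_le_P T) (h.hTp.to_le (mgen_le _ _ _)) h.J_ne_bot
    (fun t ht => mgen_normalizer (h.hTP ht) (le_normalizer ht))
    (mem_inf.2 ⟨hk, Core.mem_normalizer_iff_map_conj.2 e⟩)
  simpa [k] using mul_mem this (inv_mem hm)

theorem exists_maxQ [Finite G] (h : Conf p V P T M A₀) : ∃ Q, MaxQ p P M A₀ Q := by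
  classical
  haveI := Fintype.ofFinite (Subgroup G)
  have hbot : mgen P A₀ (⊥ : Subgroup G) = ⊥ := le_bot_iff.1 (mgen_le _ _ _)
  obtain ⟨g, hg, hgM⟩ := SetLike.exists_of_lt h.hMP
  obtain ⟨Q, hQ, hmax⟩ := (Finset.univ.filter fun U => mgen P A₀ U = U ∧ IsPGroup p ↥U ∧ Two P M U).exists_max_image
    (fun U : Subgroup G => Nat.card ↥U) ⟨⊥, by
      simp only [Finset.mem_filter, Finset.mem_univ, true_and]
      exact ⟨hbot, IsPGroup.of_bot, g, hg, hgM, bot_le, bot_le⟩⟩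
  obtain ⟨h1, h2, h3⟩ := (Finset.mem_filter.1 hQ).2
  exact ⟨Q, h3, h2, h1, fun U u1 u2 u3 => hmax U (Finset.mem_filter.2 ⟨Finset.mem_univ U, u1, u2, u3⟩)⟩

theorem maxQ_conj (h : Conf p V P T M A₀) (hQ : MaxQ p P M A₀ Q) {g : G} (hg : g ∈ P)
    (hle : cj g Q ≤ M) : MaxQ p P M A₀ (cj g Q) := by
  refine ⟨?_, hQ.pg.map _, by rw [mgen_cj hg, hQ.gen], fun U u1 u2 u3 =>
    (hQ.max U u1 u2 u3).trans (card_cj g Q).ge⟩
  obtain ⟨g₀, hg₀, hg₀M, hQM, hQg⟩ := hQ.two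
  by_cases hgM : g ∈ M
  · refine ⟨g * g₀, mul_mem hg hg₀, fun hh => hg₀M ?_, hle, ?_⟩
    · simpa using mul_mem (inv_mem hgM) hh
    · rw [← cj_cj]
      exact Subgroup.map_mono hQg
  · exact ⟨g, hg, hgM, hle, Subgroup.map_mono hQM⟩

theorem exists_maxQ_le_T [Finite G] [Fact p.Prime] (h : Conf p V P T M A₀) :
    ∃ Q, MaxQ p P M A₀ Q ∧ Q ≤ T := by
  obtain ⟨Q, hQ⟩ := h.exists_maxQ
  obtain ⟨g, hg, hgM, hQM, hQg⟩ := hQ.two
  obtain ⟨m, hm, hle⟩ := h.sylM hQM hQ.pg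
  have hle' : cj m⁻¹ Q ≤ T := le_cj_iff.1 hle
  exact ⟨_, h.maxQ_conj hQ (inv_mem (h.hMP.le hm)) (hle'.trans h.hTM), hle'⟩

theorem adm_sup [Fact p.Prime] (h : Conf p V P T M A₀) (hQ : MaxQ p P M A₀ Q) (hA : Adm P A₀ Q A) :
    IsPGroup p ↥(Q ⊔ A : Subgroup G) := by
  rw [sup_comm]
  exact (h.mem_pgroup hA.mem).to_sup_of_normal_right' hQ.pg hA.norm

theorem adm_sup_le (h : Conf p V P T M A₀) (hQ : MaxQ p P M A₀ Q) (hA : Adm P A₀ Q A) : Q ⊔ A ≤ P :=
  sup_le (hQ.gen.ge.trans (h.mgen_le_P Q)) (h.mem_le hA.mem)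

/-- The class of an admissible member. -/
theorem exists_cls [Fact p.Prime] (h : Conf p V P T M A₀) (hQ : MaxQ p P M A₀ Q) (hA : Adm P A₀ Q A) :
    ∃ g ∈ P, Q ⊔ A ≤ cj g M := by
  obtain ⟨g, hg, hle⟩ := h.hsyl _ (h.adm_sup_le hQ hA) (h.adm_sup hQ hA)
  exact ⟨g, hg, hle.trans (Subgroup.map_mono h.hTM)⟩

/-- An admissible member lies with `Q` in only one conjugate of `M`. -/
theorem cls_unique [Finite G] [Fact p.Prime] (h : Conf p V P T M A₀) (hQ : MaxQ p P M A₀ Q)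
    (hA : Adm P A₀ Q A) {g g' : G} (hg : g ∈ P) (hg' : g' ∈ P) (h1 : Q ⊔ A ≤ cj g M)
    (h2 : Q ⊔ A ≤ cj g' M) : g⁻¹ * g' ∈ M := by
  by_contra hnot
  set U := cj g⁻¹ (Q ⊔ A)
  have hU : mgen P A₀ U = U := by rw [mgen_cj (inv_mem hg), mgen_sup hQ.gen hA.mem]
  have h3 := hQ.max U hU ((h.adm_sup hQ hA).map _) ⟨g⁻¹ * g', mul_mem (inv_mem hg) hg', hnot, le_cj_iff.1 h1, by
    rw [← cj_cj]
    exact Subgroup.map_mono h2⟩
  rw [card_cj] at h3
  exact hA.not_le (le_sup_right.trans (Subgroup.eq_of_le_of_card_ge le_sup_left h3).ge)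

theorem maxQ_le_M (hQ : MaxQ p P M A₀ Q) : Q ≤ M := by
  obtain ⟨g, -, -, h1, -⟩ := hQ.two
  exact h1

theorem maxQ_le_P (h : Conf p V P T M A₀) (hQ : MaxQ p P M A₀ Q) : Q ≤ P :=
  (maxQ_le_M hQ).trans h.hMP.le

/-- A conjugate of `M` containing `Q` and an admissible member of `M` is `M`. -/
theorem mem_of_le_cj [Finite G] [Fact p.Prime] (h : Conf p V P T M A₀) (hQ : MaxQ p P M A₀ Q)
    (hA : Adm P A₀ Q A) (hAM : A ≤ M) {g : G} (hg : g ∈ P) (h1 : Q ⊔ A ≤ cj g M) : g ∈ M := by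
  have := h.cls_unique hQ hA (one_mem P) hg (by rw [cj_one]; exact sup_le (maxQ_le_M hQ) hAM) h1
  simpa using this

theorem adm_conj (hA : Adm P A₀ Q A) {g : G} (hg : g ∈ P) : Adm P A₀ (cj g Q) (cj g A) :=
  ⟨hA.mem.conj hg, cj_le_normalizer hA.norm, fun hle =>
    hA.not_le ((Subgroup.map_le_map_iff_of_injective (MulAut.conj g).injective).1 hle)⟩

theorem adm_conj_normalizer (hA : Adm P A₀ Q A) {g : G} (hg : g ∈ P)
    (hn : g ∈ normalizer (Q : Set G)) : Adm P A₀ Q (cj g A) := by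
  have := adm_conj hA hg
  rwa [cj_normalizer hn] at this

/-- An element of `N(Q)` outside `M` moves an admissible member of `M` outside `M`. -/
theorem not_le_of_not_mem [Finite G] [Fact p.Prime] (h : Conf p V P T M A₀) (hQ : MaxQ p P M A₀ Q)
    (hA : Adm P A₀ Q A) (hAM : A ≤ M) {x : G} (hx : x ∈ P) (hn : x ∈ normalizer (Q : Set G)) (hxM : x ∉ M) :
    ¬ cj x A ≤ M := by
  intro hle
  refine hxM (inv_mem_iff.1 (h.mem_of_le_cj hQ hA hAM (inv_mem hx) ?_))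
  rw [sup_le_iff, le_cj_iff, le_cj_iff, inv_inv, cj_normalizer hn]
  exact ⟨maxQ_le_M hQ, hle⟩

/-- Some member of a Sylow subgroup over `Q` is admissible. -/
theorem exists_adm [Finite G] [Fact p.Prime] (h : Conf p V P T M A₀) (hQ : MaxQ p P M A₀ Q)
    (hQT : Q ≤ T) : ∃ A, Adm P A₀ Q A ∧ A ≤ T := by
  set J := mgen P A₀ T
  have hQJ : Q ≤ J := hQ.gen.ge.trans (mgen_mono hQT)
  have hne : Q ≠ J := by
    intro e
    obtain ⟨g, hg, hgM, -, hQg⟩ := hQ.two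
    exact hgM (h.J_only hg (e.symm.le.trans hQg))
  have hJp : IsPGroup p ↥J := h.hTp.to_le (mgen_le _ _ _)
  haveI : Group.IsNilpotent ↥J := hJp.isNilpotent
  set N := (normalizer (Q : Set G)).subgroupOf J with hN
  by_contra hnone
  push Not at hnone
  have hNN : mgen P A₀ (N.map J.subtype) = Q := by
    refine le_antisymm (sSup_le ?_) (hQ.gen.ge.trans (mgen_mono fun x hx =>
      ⟨⟨x, hQJ hx⟩, mem_subgroupOf.2 (le_normalizer hx), rfl⟩))
    rintro A ⟨hA, hAN⟩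
    by_contra hAQ
    refine hnone A ⟨hA, ?_, hAQ⟩ (hAN.trans ((map_subtype_le _).trans (mgen_le _ _ _)))
    intro a ha
    obtain ⟨⟨a', ha'⟩, hm, e⟩ := hAN ha
    rw [← e]
    exact mem_subgroupOf.1 hm
  have htop : N = ⊤ := by
    refine normalizerCondition_iff_only_full_group_self_normalizing.mp
      Group.normalizerCondition_of_isNilpotent _ (le_antisymm ?_ le_normalizer)
    intro x hx
    refine mem_subgroupOf.2 ?_
    rw [← hNN]
    refine mgen_normalizer (h.mgen_le_P T x.2) ?_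
    rw [Core.mem_normalizer_iff_map_conj]
    have := Core.map_conj_eq_of_mem_normalizer hx
    conv_rhs => rw [← this]
    rw [Subgroup.map_map, Subgroup.map_map]
    rfl
  refine hne (le_antisymm hQJ ?_)
  rw [← hNN, htop, ← MonoidHom.range_eq_map, Subgroup.range_subtype, mgen_mgen]

/-- Some admissible member lies outside `M`. -/
theorem exists_adm_outside [Finite G] [Fact p.Prime] (h : Conf p V P T M A₀) (hQ : MaxQ p P M A₀ Q) :
    ∃ A, Adm P A₀ Q A ∧ ¬ A ≤ M := by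
  obtain ⟨g, hg, hgM, hQM, hQg⟩ := hQ.two
  obtain ⟨m, hm, hle⟩ := h.sylM (le_cj_iff.1 hQg) (hQ.pg.map _)
  have hk : g * m ∈ P := mul_mem hg (h.hMP.le hm)
  have hle' : cj (g * m)⁻¹ Q ≤ T := by
    rw [← le_cj_iff, ← cj_cj, le_cj_iff]
    exact hle
  obtain ⟨A, hA, hAT⟩ := h.exists_adm (h.maxQ_conj hQ (inv_mem hk) (hle'.trans h.hTM)) hle'
  have hA' := adm_conj hA hk
  rw [cj_cj_inv] at hA'
  refine ⟨_, hA', fun hM => hgM (h.mem_of_le_cj hQ hA' hM hg (sup_le hQg ?_))⟩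
  rw [← cj_cj]
  exact Subgroup.map_mono ((Subgroup.map_mono hAT).trans ((Subgroup.map_mono h.hTM).trans (cj_M_of_mem hm).le))

/-- `N(Q)` is not inside `M`. -/
theorem exists_mover [Finite G] [Fact p.Prime] (h : Conf p V P T M A₀) (hQ : MaxQ p P M A₀ Q) :
    ∃ x ∈ P, x ∈ normalizer (Q : Set G) ∧ x ∉ M := by
  obtain ⟨A, hA, hAM⟩ := h.exists_adm_outside hQ
  obtain ⟨a, ha, haM⟩ := SetLike.not_le_iff_exists.1 hAM
  exact ⟨a, h.mem_le hA.mem ha, hA.norm ha, haM⟩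

/-- The commutator space of all members. -/
abbrev uu (V P A₀ : Subgroup G) : Subgroup G := ⁅V, mgen P A₀ P⁆

theorem uu_le_V (h : Conf p V P T M A₀) : uu V P A₀ ≤ V :=
  Subgroup.le_normalizer_iff_commutator_le_left.mp ((mgen_le _ _ _).trans h.hPV)

theorem uu_normalizer (h : Conf p V P T M A₀) : P ≤ normalizer (uu V P A₀ : Set G) := fun g hg => by
  rw [Core.mem_normalizer_iff_map_conj, uu, Subgroup.map_commutator, h.cj_V hg, ← mgen_cj hg,
    cj_eq_of_mem hg]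

theorem bracket_le_uu (h : Conf p V P T M A₀) (hA : Mem P A₀ A) : ⁅V, A⁆ ≤ uu V P A₀ :=
  Subgroup.commutator_mono le_rfl (le_mgen hA (h.mem_le hA))

theorem uu_ne_bot (h : Conf p V P T M A₀) : uu V P A₀ ≠ ⊥ := by
  intro e
  have hA : Mem P A₀ A₀ := ⟨1, one_mem _, (cj_one A₀).symm⟩
  have h1 : ⁅V, A₀⁆ = ⊥ := le_bot_iff.1 ((h.bracket_le_uu hA).trans e.le)
  rw [commutator_eq_bot_iff_le_centralizer] at h1
  refine h.hA₀ne (le_bot_iff.1 (?_ : A₀ ≤ ⊥))
  rw [← h.hfaith]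
  exact le_inf h.hA₀P (le_centralizer_iff.1 h1)

/-- An element trivial on the commutator space and on its quotient is trivial. -/
theorem eq_one_of_stab [Fact p.Prime] (h : Conf p V P T M A₀) {g : G} (hg : g ∈ P)
    (h1 : g ∈ centralizer (uu V P A₀ : Set G)) (h2 : ∀ v ∈ V, ⁅v, g⁆ ∈ uu V P A₀) : g = 1 := by
  set U := uu V P A₀
  let K : Subgroup G :=
    { carrier := {l | l ∈ P ∧ l ∈ centralizer (U : Set G) ∧ ∀ v ∈ V, ⁅v, l⁆ ∈ U}
      one_mem' := ⟨one_mem _, one_mem _, fun v _ => by rw [commutatorElement_one_right]; exact one_mem U⟩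
      mul_mem' := fun {l m} hl hm => ⟨mul_mem hl.1 hm.1, mul_mem hl.2.1 hm.2.1, fun v hv => by
        rw [show ⁅v, l * m⁆ = ⁅v, l⁆ * (l * ⁅v, m⁆ * l⁻¹) by simp only [commutatorElement_def]; group,
          ← mem_centralizer_iff.1 hl.2.1 _ (hm.2.2 v hv), mul_inv_cancel_right]
        exact mul_mem (hl.2.2 v hv) (hm.2.2 v hv)⟩
      inv_mem' := fun {l} hl => ⟨inv_mem hl.1, inv_mem hl.2.1, fun v hv => by
        have h0 := hl.2.2 v hv
        have e : ⁅v, l⁻¹⁆ = l⁻¹ * ⁅v, l⁆⁻¹ * l := by simp only [commutatorElement_def]; group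
        rw [e, mul_assoc, mem_centralizer_iff.1 hl.2.1 _ (inv_mem h0), inv_mul_cancel_left]
        exact inv_mem h0⟩ }
  have hKp : IsPGroup p ↥K := by
    intro l
    refine ⟨1, Subtype.ext ?_⟩
    rw [pow_one]
    show ((l ^ p : ↥K) : G) = 1
    rw [SubmonoidClass.coe_pow, ← mem_bot, ← h.hfaith]
    refine mem_inf.2 ⟨pow_mem l.2.1 p, mem_centralizer_iff.2 fun v hv => ?_⟩
    set z := ⁅v, (l : G)⁆⁻¹ with hz
    have hzC : z ∈ U := inv_mem (l.2.2.2 v hv)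
    have hgz : (l : G) * z * (l : G)⁻¹ = z := by
      rw [← mem_centralizer_iff.1 l.2.2.1 z hzC, mul_inv_cancel_right]
    have hgv : (l : G) * v * (l : G)⁻¹ = z * v := by rw [hz, commutatorElement_def]; group
    have hpow : ∀ k : ℕ, (l : G) ^ k * v * ((l : G) ^ k)⁻¹ = z ^ k * v := by
      intro k
      induction k with
      | zero => simp
      | succ k ih =>
        rw [pow_succ' (l : G) k, _root_.mul_inv_rev,
          show (l : G) * (l : G) ^ k * v * (((l : G) ^ k)⁻¹ * (l : G)⁻¹) =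
            (l : G) * ((l : G) ^ k * v * ((l : G) ^ k)⁻¹) * (l : G)⁻¹ by group, ih,
          show (l : G) * (z ^ k * v) * (l : G)⁻¹ =
            ((l : G) * z * (l : G)⁻¹) ^ k * ((l : G) * v * (l : G)⁻¹) by rw [conj_pow]; group,
          hgz, hgv, pow_succ, mul_assoc]
    have := hpow p
    rw [h.hV.2 z (h.uu_le_V hzC), one_mul] at this
    exact (mul_inv_eq_iff_eq_mul.1 this).symm
  have hKn : P ≤ normalizer (K : Set G) := le_normalizer_iff.2 fun y hy l hl => by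
    refine ⟨mul_mem (mul_mem hy hl.1) (inv_mem hy), mem_centralizer_iff.2 fun u hu => ?_, fun v hv => ?_⟩
    · have hu' : y⁻¹ * u * y ∈ U := by
        simpa using (mem_normalizer_iff.1 (h.uu_normalizer (inv_mem hy)) u).1 hu
      have := mem_centralizer_iff.1 hl.2.1 _ hu'
      calc u * (y * l * y⁻¹) = y * (y⁻¹ * u * y * l) * y⁻¹ := by group
        _ = y * l * y⁻¹ * u := by rw [this]; group
    · have hv' : y⁻¹ * v * y ∈ V := by simpa using h.conj_mem_V (inv_mem hy) hv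
      rw [show ⁅v, y * l * y⁻¹⁆ = y * ⁅y⁻¹ * v * y, l⁆ * y⁻¹ by simp only [commutatorElement_def]; group]
      exact (mem_normalizer_iff.1 (h.uu_normalizer hy) _).1 (hl.2.2 _ hv')
  have := h.hOp K (fun l hl => hl.1) hKp hKn
  exact mem_bot.1 (this ▸ (⟨hg, h1, h2⟩ : g ∈ K))

/-- No member outside `M` has its commutator space in `[U, T]`. -/
theorem not_bracket_le [Finite G] [Fact p.Prime] (h : Conf p V P T M A₀) {m : G} (hm : m ∈ M)
    (hA : Mem P A₀ A) (hAM : ¬ A ≤ M) : ¬ ⁅V, A⁆ ≤ ⁅uu V P A₀, cj m T⁆ := by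
  intro hle
  set U := uu V P A₀
  have hmP := h.hMP.le hm
  have hTP : cj m T ≤ P := cj_le hmP h.hTP
  set W := ⁅U, cj m T⁆
  have hWU : W ≤ U := Subgroup.le_normalizer_iff_commutator_le_left.mp (hTP.trans h.uu_normalizer)
  have hlt : W < U :=
    PGroup.commutator_lt_of_isPGroup ((PGroup.isPGroup_of_isElementaryAbelian h.hV).to_le h.uu_le_V)
      (h.hTp.map _) (hTP.trans h.uu_normalizer) h.uu_ne_bot
  set K := P ⊓ normalizer (W : Set G)
  have hTK : cj m T ≤ K := le_inf hTP (Subgroup.normalizer_commutator_ge_right U (cj m T))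
  have hAK : A ≤ K := le_inf (h.mem_le hA) (le_normalizer_iff.2 fun a ha w hw => by
    rw [show a * w * a⁻¹ = ⁅w, a⁆⁻¹ * w by simp only [commutatorElement_def]; group]
    exact mul_mem (inv_mem (hle (commutator_mem_commutator (h.uu_le_V (hWU hw)) ha))) hw)
  rcases h.huniq (cj m⁻¹ K) (cj_le (inv_mem hmP) inf_le_left) (le_cj_iff.2 (by rwa [inv_inv])) with h1 | h1
  · exact hAM (hAK.trans ((cj_le_iff.1 h1).trans (by rw [inv_inv]; exact (cj_M_of_mem hm).le)))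
  · have hKP : K = P := by
      have := congrArg (fun X : Subgroup G => cj m X) h1
      simp only [cj_cj_inv, cj_eq_of_mem hmP] at this
      exact this
    have hPW : P ≤ normalizer (W : Set G) := hKP.ge.trans inf_le_right
    obtain ⟨y, hy, eA⟩ := hA
    refine hlt.not_ge ((Subgroup.commutator_le).2 fun v hv x hx => ?_)
    let S : Subgroup G :=
      { carrier := {l | l ∈ P ∧ ∀ v ∈ V, ⁅v, l⁆ ∈ W}
        one_mem' := ⟨one_mem _, fun v _ => by rw [commutatorElement_one_right]; exact one_mem W⟩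
        mul_mem' := fun {l n} hl hn => ⟨mul_mem hl.1 hn.1, fun v hv => by
          rw [show ⁅v, l * n⁆ = ⁅v, l⁆ * (l * ⁅v, n⁆ * l⁻¹) by simp only [commutatorElement_def]; group]
          exact mul_mem (hl.2 v hv) ((mem_normalizer_iff.1 (hPW hl.1) _).1 (hn.2 v hv))⟩
        inv_mem' := fun {l} hl => ⟨inv_mem hl.1, fun v hv => by
          have e : ⁅v, l⁻¹⁆ = l⁻¹ * ⁅v, l⁆⁻¹ * l⁻¹⁻¹ := by simp only [commutatorElement_def]; group
          rw [e]
          exact (mem_normalizer_iff.1 (hPW (inv_mem hl.1)) _).1 (inv_mem (hl.2 v hv))⟩ }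
    refine ((sSup_le ?_ : mgen P A₀ P ≤ S) hx).2 v hv
    rintro B ⟨⟨z, hz, rfl⟩, -⟩ b hb
    refine ⟨cj_le hz h.hA₀P hb, fun v hv => ?_⟩
    set k := z * y⁻¹
    have hk : k ∈ P := mul_mem hz (inv_mem hy)
    have e : cj z A₀ = cj k A := by rw [eA, cj_cj]; simp [k]
    rw [e] at hb
    obtain ⟨a, ha, rfl⟩ := hb
    have hv' : k⁻¹ * v * k ∈ V := by simpa using h.conj_mem_V (inv_mem hk) hv
    show ⁅v, k * a * k⁻¹⁆ ∈ W
    rw [show ⁅v, k * a * k⁻¹⁆ = k * ⁅k⁻¹ * v * k, a⁆ * k⁻¹ by simp only [commutatorElement_def]; group]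
    exact (mem_normalizer_iff.1 (hPW hk) _).1 (hle (commutator_mem_commutator hv' ha))

end Conf

end Cfsg.Lib.Local.PMinOff
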