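import Cfsg.Agent.Lib.Local.PMinOff.Blocks
import Cfsg.Agent.Lib.Linear.GLTwo

/-!
# Best offenders in `p`-minimal groups: offenders of order at least three

An element of prime order dividing `q - 1` in the Borel subgroup of one block separates the blocks.
-/

set_option autoImplicit false
set_option linter.style.haveILetI false

namespace Cfsg.Lib.Local.PMinOff

open Subgroup
open scoped commutatorElement
open OffenderPair (fx)
open TrapPair (mem_cj cj_cj cj_one cj_eq_of_mem cj_le)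

variable {G : Type*} [Group G] {p : ℕ} {V P T M A₀ Q A X Y : Subgroup G}

local notation:max "cj" g:max K:max => Subgroup.map (MulEquiv.toMonoidHom (MulAut.conj g)) K

/-- An element of `SL₂` fixing a nonzero vector has order dividing `p`. -/
theorem sl2_pow_eq_one {F : Type*} [Field F] (p : ℕ) [Fact p.Prime] [CharP F p]
    (g : Matrix.SpecialLinearGroup (Fin 2) F) {v : Fin 2 → F} (hv : v ≠ 0)
    (hgv : (g : Matrix (Fin 2) (Fin 2) F).mulVec v = v) : g ^ p = 1 := by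
  set N : Matrix (Fin 2) (Fin 2) F := g.1 with hN
  have hdet : N 0 0 * N 1 1 - N 0 1 * N 1 0 = 1 := by
    rw [← Matrix.det_fin_two]; exact g.2
  have h0 : (N - 1).det = 0 := Matrix.exists_mulVec_eq_zero_iff.1
    ⟨v, hv, by rw [Matrix.sub_mulVec, Matrix.one_mulVec, hgv, sub_self]⟩
  rw [Matrix.det_fin_two] at h0
  simp at h0
  have hsq : (N - 1) * (N - 1) = 0 := by
    ext i j
    fin_cases i <;> fin_cases j <;> simp [Matrix.mul_apply, Fin.sum_univ_two]
    · linear_combination (N 0 0 - 1) * (hdet - h0) - h0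
    · linear_combination N 0 1 * (hdet - h0)
    · linear_combination N 1 0 * (hdet - h0)
    · linear_combination (N 1 1 - 1) * (hdet - h0) - h0
  refine Subtype.ext ?_
  rw [Matrix.SpecialLinearGroup.coe_pow, Matrix.SpecialLinearGroup.coe_one]
  show N ^ p = 1
  have hp2 := (Fact.out : p.Prime).two_le
  calc N ^ p = ((N - 1) + 1) ^ p := by rw [sub_add_cancel]
    _ = (N - 1) ^ p + 1 ^ p := add_pow_char_of_commute p (Commute.one_right _)
    _ = 1 := by
      rw [show (N - 1) ^ p = (N - 1) * (N - 1) * (N - 1) ^ (p - 2) by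
        rw [← pow_two, ← pow_add]; congr 1; omega, hsq, zero_mul, one_pow, zero_add]

namespace Conf

/-- An element of `M` normalizing `Q` normalizes its admissible member. -/
theorem fix_M [Finite G] [Fact p.Prime] (h : Conf p V P T M A₀) (hQ : MaxQ p P M A₀ Q)
    (hA : Adm P A₀ Q A) (hAM : A ≤ M) {x : G} (hx : x ∈ P) (hn : x ∈ normalizer (Q : Set G)) (hxM : x ∈ M) :
    cj x A = A :=
  h.rigid hQ hA hAM (adm_conj_normalizer hA hx hn) (cj_le hxM hAM)

theorem mem_M_of_fix [Finite G] [Fact p.Prime] (h : Conf p V P T M A₀) (hQ : MaxQ p P M A₀ Q)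
    (hA : Adm P A₀ Q A) (hAM : A ≤ M) {x : G} (hx : x ∈ P) (hn : x ∈ normalizer (Q : Set G))
    (hfix : cj x A = A) : x ∈ M :=
  by_contra fun hxM => h.not_le_of_not_mem hQ hA hAM hx hn hxM (hfix.le.trans hAM)

theorem exists_partner [Finite G] [Fact p.Prime] (h : Conf p V P T M A₀) (hQ : MaxQ p P M A₀ Q)
    (hA : Adm P A₀ Q A) (hAM : A ≤ M) :
    ∃ y ∈ LQ P A₀ Q, Adm P A₀ Q (cj y A) ∧ cj y A ≠ A := by
  obtain ⟨x, hx, hxn, hxM⟩ := h.exists_mover hQ
  obtain ⟨y, f, -⟩ := h.exists_frame hQ hA hAM hx hxn hxM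
  have hB : Adm P A₀ Q (cj y A) := adm_conj_normalizer hA f.hy f.hyn
  exact ⟨y, sup_le (le_LQ hA) (le_LQ hB) f.hyL, hB, fun e =>
    f.hyM (h.mem_M_of_fix hQ hA hAM f.hy f.hyn e)⟩

/-- The Borel subgroup has index `q + 1`. -/
theorem relIndex_M [Finite G] [Fact p.Prime] (h : Conf p V P T M A₀) (hQ : MaxQ p P M A₀ Q)
    (hA : Adm P A₀ Q A) (hAM : A ≤ M) : M.relIndex (LQ P A₀ Q) = Nat.card ↥A + 1 := by
  obtain ⟨y, hy, hB, hne⟩ := h.exists_partner hQ hA hAM
  set L := LQ P A₀ Q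
  have hLP : L ≤ P := h.LQ_le
  have hLn : L ≤ normalizer (Q : Set G) := LQ_le_normalizer
  have hns : ¬ SameCls P M Q A (cj y A) := fun e => hne (h.same_eq hQ hA hB e)
  let φ : Option ↥A → ↥L ⧸ M.subgroupOf L := fun o => o.elim (QuotientGroup.mk 1)
    fun a => QuotientGroup.mk ⟨(a : G) * y, mul_mem (le_LQ hA a.2) hy⟩
  have hmk : ∀ {u w : G} (hu : u ∈ L) (hw : w ∈ L),
      (QuotientGroup.mk ⟨u, hu⟩ : ↥L ⧸ M.subgroupOf L) = QuotientGroup.mk ⟨w, hw⟩ ↔ cj u A = cj w A := by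
    intro u w hu hw
    rw [QuotientGroup.eq, mem_subgroupOf]
    show u⁻¹ * w ∈ M ↔ _
    have hP := mul_mem (inv_mem (hLP hu)) (hLP hw)
    have hn := mul_mem (inv_mem (hLn hu)) (hLn hw)
    constructor
    · intro hM
      rw [show w = u * (u⁻¹ * w) by group, ← cj_cj, h.fix_M hQ hA hAM hP hn hM]
    · exact fun e => h.mem_M_of_fix hQ hA hAM hP hn (by rw [← cj_cj, ← e, cj_inv_cj])
  have hinj : Function.Injective φ := by
    have key : ∀ a : ↥A, φ (some a) ≠ φ none := fun a e => by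
      have := (hmk (mul_mem (le_LQ hA a.2) hy) (one_mem L)).1 e
      rw [cj_one, ← cj_cj] at this
      refine h.not_same_conj hA hns a.2 ?_
      rw [this]
      exact h.same_refl hQ hA
    rintro (_ | a) (_ | b) e
    · rfl
    · exact absurd e.symm (key b)
    · exact absurd e (key a)
    · have := (hmk (mul_mem (le_LQ hA a.2) hy) (mul_mem (le_LQ hA b.2) hy)).1 e
      have h1 : cj ((a : G)⁻¹ * b) (cj y A) = cj y A := by
        rw [cj_cj, mul_assoc, ← cj_cj, ← this, ← cj_cj, cj_inv_cj]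
      refine congrArg some (Subtype.ext (inv_mul_eq_one.1 (h.trap hQ hA hB hns (mul_mem (inv_mem a.2) b.2) ?_)))
      rw [h1]
      exact h.same_refl hQ hB
  have hsurj : Function.Surjective φ := by
    intro ω
    obtain ⟨⟨g, hg⟩, rfl⟩ := QuotientGroup.mk_surjective ω
    rcases h.adm_lines hQ hA hB (fun e => hne e.symm)
      (adm_conj_normalizer hA (hLP hg) (hLn hg)) with e | ⟨a, ha, e⟩
    · exact ⟨none, (hmk (one_mem L) hg).2 (by rw [cj_one, e])⟩
    · exact ⟨some ⟨a, ha⟩, (hmk (mul_mem (le_LQ hA ha) hy) hg).2 (by rw [e, cj_cj])⟩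
  show Nat.card (↥L ⧸ M.subgroupOf L) = _
  rw [← Nat.card_congr (Equiv.ofBijective φ ⟨hinj, hsurj⟩), Finite.card_option]

/-- An element of the Borel subgroup of prime order dividing `q - 1` fixing only the common fixed space. -/
theorem exists_torus [Finite G] [Fact p.Prime] (h : Conf p V P T M A₀) (hQ : MaxQ p P M A₀ Q)
    (hA : Adm P A₀ Q A) (hAM : A ≤ M) (hq : 3 ≤ Nat.card ↥A) :
    ∃ h₀ ∈ LQ P A₀ Q, h₀ ∈ M ∧ ∃ r : ℕ, r.Prime ∧ r ≠ p ∧ h₀ ^ r = 1 ∧
      ∀ v ∈ V, h₀ * v = v * h₀ → v ∈ fx V (LQ P A₀ Q) := by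
  classical
  set L := LQ P A₀ Q with hLdef
  obtain ⟨F, _, _, hcard, ⟨iso⟩, -, -, ρ, ψ, hR, -, hker, hequ⟩ := h.natural hQ hA hAM
  obtain ⟨n, hn⟩ := (IsPGroup.iff_card).1 (h.mem_pgroup hA.mem)
  set q := Nat.card ↥A with hqdef
  have hn1 : n ≠ 0 := fun e => by rw [e, pow_zero] at hn; omega
  haveI : CharP F p := charP_of_card_eq_prime_pow (f := n) (hcard.trans hn)
  obtain ⟨r, hr, hrd⟩ := Nat.exists_prime_and_dvd (show q - 1 ≠ 1 by omega)
  have hrp : r ≠ p := by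
    rintro rfl
    have h1 : r ∣ q := hn ▸ dvd_pow_self r hn1
    have h2 := Nat.dvd_sub h1 hrd
    rw [show q - (q - 1) = 1 by omega, Nat.dvd_one] at h2
    exact hr.one_lt.ne' h2
  have hcardL : Nat.card ↥L = (q + 1) * (q * (q - 1)) := by
    rw [Nat.card_congr iso.toEquiv, Cfsg.Lib.Linear.Two.card_SL_two, hcard,
      show q ^ 2 - 1 = (q + 1) * (q - 1) by rw [← Nat.sq_sub_sq, one_pow]]
    ring
  have hcardB : Nat.card ↥(M.subgroupOf L) = q * (q - 1) := by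
    have := Subgroup.card_eq_card_quotient_mul_card_subgroup (M.subgroupOf L)
    rw [hcardL, show Nat.card (↥L ⧸ M.subgroupOf L) = q + 1 from h.relIndex_M hQ hA hAM] at this
    exact (Nat.eq_of_mul_eq_mul_left (Nat.succ_pos _) this).symm
  haveI : Fact r.Prime := ⟨hr⟩
  obtain ⟨⟨⟨h₀, hL⟩, hM⟩, hord⟩ :=
    exists_prime_orderOf_dvd_card' (G := ↥(M.subgroupOf L)) r (hcardB ▸ hrd.mul_left q)
  rw [← Subgroup.orderOf_coe] at hord
  refine ⟨h₀, hL, mem_subgroupOf.1 hM, r, hr, hrp, ?_, fun v hv hc => ?_⟩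
  · rw [← hord, ← Subgroup.orderOf_coe ⟨h₀, hL⟩]
    exact pow_orderOf_eq_one h₀
  by_contra hvC
  obtain ⟨w, hw, hwe⟩ := hequ ⟨h₀, hL⟩ ⟨v, hv⟩
  have hwv : w = ⟨v, hv⟩ := Subtype.ext (by rw [hw]; show h₀ * v * h₀⁻¹ = v; rw [hc, mul_inv_cancel_right])
  rw [hwv] at hwe
  have hne : Multiplicative.toAdd (ψ ⟨v, hv⟩) ≠ 0 := fun e => hvC ((hker ⟨v, hv⟩).1 (toAdd_eq_zero.1 e))
  have h1 := sl2_pow_eq_one p _ hne hwe.symm
  have hbij : Function.Bijective ρ := (Nat.bijective_iff_surjective_and_card _).2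
    ⟨MonoidHom.range_eq_top.1 hR, Nat.card_congr iso.toEquiv⟩
  have h2 : orderOf (⟨h₀, hL⟩ : ↥L) ∣ p := by
    refine orderOf_dvd_of_pow_eq_one (hbij.1 ?_)
    rw [map_pow, map_one]
    exact h1
  rw [hord] at h2
  exact hrp ((Nat.prime_dvd_prime_iff_eq hr Fact.out).1 h2)

/-- The commutator spaces of the lines of one member of `T` are fixed by the lines of another. -/
theorem cross_T [Finite G] [Fact p.Prime] (h : Conf p V P T M A₀) (hq : 3 ≤ Nat.card ↥A₀)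
    (hX : Mem P A₀ X) (hXT : X ≤ T) (hY : Mem P A₀ Y) (hYT : Y ≤ T) (hne : Y ≠ X) {Y' : Subgroup G}
    (hY' : Adm P A₀ (others P T A₀ Y) Y') : ⁅V, Y'⁆ ≤ fx V (LQ P A₀ (others P T A₀ X)) := by
  obtain ⟨hQX, -, hAX⟩ := h.member_T hX hXT
  obtain ⟨hQY, -, hAY⟩ := h.member_T hY hYT
  have hXM := hXT.trans h.hTM
  have hYM := hYT.trans h.hTM
  obtain ⟨h₀, hL, hM, r, hr, hrp, hpow, hfix⟩ :=
    h.exists_torus hQX hAX hXM ((mem_card hX).symm ▸ hq)
  have hP : h₀ ∈ P := h.LQ_le hL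
  have hhX : cj h₀ X = X := h.fix_M hQX hAX hXM hP (LQ_le_normalizer hL) hM
  have hcentY : ∀ {Z : Subgroup G}, Mem P A₀ Z → Z ≤ T → Z ≠ X → ∀ z ∈ Z, z * h₀ = h₀ * z :=
    fun hZ hZT hZX z hz => mem_centralizer_iff.1 ((h.member_comm hX hXT hZ hZT hZX).1 hL) z hz
  have hcen : h₀ ∈ centralizer (Y : Set G) := (h.member_comm hX hXT hY hYT hne).1 hL
  have hnQ : h₀ ∈ normalizer (others P T A₀ Y : Set G) := by
    refine Core.mem_normalizer_iff_map_conj.2 (Subgroup.eq_of_le_of_card_ge ?_ (card_cj _ _).ge)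
    refine cj_le_iff.2 (sSup_le fun Z hZ => cj_le_iff.1 ?_)
    by_cases hZX : Z = X
    · rw [hZX, hhX]
      exact le_others hX hXT hne.symm
    · rw [cj_normalizer (centralizer_le_normalizer _
        (mem_centralizer_iff.2 (hcentY hZ.1 hZ.2.1 hZX)))]
      exact le_others hZ.1 hZ.2.1 hZ.2.2
  obtain ⟨y, hyL, hB, hBne⟩ := h.exists_partner hQY hAY hYM
  set B := cj y Y with hBdef
  have hns : ¬ SameCls P M (others P T A₀ Y) Y B := fun e => hBne (h.same_eq hQY hAY hB e)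
  have hhY : cj h₀ Y = Y := cj_normalizer (centralizer_le_normalizer _ hcen)
  have hhB : cj h₀ B = B := by
    rcases h.adm_lines hQY hAY hB (fun e => hBne e.symm) (adm_conj_normalizer hB hP hnQ) with e | ⟨a, ha, e⟩
    · exact absurd ((Subgroup.map_injective (f := (MulAut.conj h₀).toMonoidHom) (MulAut.conj h₀).injective)
        (e.trans hhY.symm)) hBne
    have hca : a * h₀ = h₀ * a := mem_centralizer_iff.1 hcen a ha
    have hk : ∀ k : ℕ, cj (h₀ ^ k) B = cj (a ^ k) B := by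
      intro k
      induction k with
      | zero => rw [pow_zero, pow_zero]
      | succ k ih =>
        rw [pow_succ', ← cj_cj, ih, cj_cj, ← (Commute.pow_left (show Commute a h₀ from hca) k).eq, ← cj_cj, e, cj_cj,
          ← pow_succ]
    have h1 := hk r
    rw [hpow, cj_one] at h1
    have h2 : a ^ r = 1 := h.trap hQY hAY hB hns (pow_mem ha r) (h1 ▸ h.same_refl hQY hB)
    have h3 : a ^ p = 1 := (h.mem_elem hY).2 a ha
    have ha1 : a = 1 := orderOf_eq_one_iff.1 (Nat.eq_one_of_dvd_coprimes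
      ((Nat.coprime_primes hr Fact.out).2 hrp) (orderOf_dvd_of_pow_eq_one h2) (orderOf_dvd_of_pow_eq_one h3))
    rw [e, ha1, cj_one]
  have hcB : ∀ b ∈ B, b * h₀ = h₀ * b := by
    intro b hb
    have hbP := h.mem_le hB.mem hb
    have hbn := hB.norm hb
    have hfixAll : cj h₀ (cj b Y) = cj b Y := by
      rcases h.adm_lines hQY hAY hB (fun e => hBne e.symm) (adm_conj_normalizer hAY hbP hbn) with e | ⟨a, ha, e⟩
      · rw [e, hhY]
      · rw [e, cj_cj, show h₀ * a = a * h₀ from (mem_centralizer_iff.1 hcen a ha).symm, ← cj_cj, hhB]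
    set c := h₀ * b * h₀⁻¹ with hcdef
    have hc : c ∈ B := hhB.le ⟨b, hb, rfl⟩
    have e1 : cj c Y = cj b Y := by
      rw [hcdef, ← cj_cj, show cj h₀⁻¹ Y = Y by conv_lhs => rw [← hhY, cj_inv_cj], ← cj_cj, hfixAll]
    have e2 : cj (b⁻¹ * c) Y = Y := by rw [← cj_cj, e1, cj_inv_cj]
    have e3 := h.trap hQY hB hAY (fun e => hns e.symm) (mul_mem (inv_mem hb) hc)
      (e2.symm ▸ h.same_refl hQY hAY)
    calc b * h₀ = c * h₀ := by rw [inv_mul_eq_one.1 e3]
      _ = h₀ * b := by rw [hcdef, inv_mul_cancel_right]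
  have hLY : LQ P A₀ (others P T A₀ Y) ≤ centralizer (zpowers h₀ : Set G) := by
    rw [h.LQ_eq hQY hAY hB fun e => hBne e.symm]
    exact sup_le (le_centralizer_iff.1 (zpowers_le.2 hcen))
      (le_centralizer_iff.1 (zpowers_le.2 (mem_centralizer_iff.2 hcB)))
  have hcom : ∀ l ∈ LQ P A₀ (others P T A₀ Y), Commute h₀ l := fun l hl =>
    mem_centralizer_iff.1 (hLY hl) h₀ (mem_zpowers h₀)
  have hYb : ∀ v ∈ V, ∀ y ∈ Y, Commute h₀ ⁅v, y⁆ := fun v hv y hy =>
    (mem_centralizer_iff.1 ((h.member_comm hX hXT hY hYT hne).2 (commutator_mem_commutator hv hy)).2 h₀ hL)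
  have hone : ∀ {l : G}, l ∈ LQ P A₀ (others P T A₀ Y) → ∀ v ∈ V, ∀ z ∈ cj l Y, Commute h₀ ⁅v, z⁆ := by
    intro l hl v hv z hz
    rw [mem_cj] at hz
    have hlP := h.LQ_le hl
    have hk := hYb (l⁻¹ * v * l) (by simpa using h.conj_mem_V (inv_mem hlP) hv) _ hz
    rw [show ⁅v, z⁆ = l * ⁅l⁻¹ * v * l, l⁻¹ * z * l⁆ * l⁻¹ by simp only [commutatorElement_def]; group]
    exact ((hcom l hl).mul_right hk).mul_right (hcom l hl).inv_right
  refine commutator_le.2 fun v hv z hz => hfix _ (Subgroup.le_normalizer_iff_commutator_le_left.mp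
    h.hPV (commutator_mem_commutator hv (h.mem_le hY'.mem hz))) ?_
  rcases h.adm_lines hQY hAY hB (fun e => hBne e.symm) hY' with e | ⟨a, ha, e⟩
  · exact hYb v hv z (e ▸ hz)
  · exact hone (mul_mem (le_LQ hAY ha) hyL) v hv z (by rw [← cj_cj]; exact e ▸ hz)

/-- `V` is the fixed space times the commutator space of a block. -/
theorem dec_LQ [Finite G] [Fact p.Prime] (h : Conf p V P T M A₀) (hQ : MaxQ p P M A₀ Q)
    (hA : Adm P A₀ Q A) : V ≤ fx V (LQ P A₀ Q) ⊔ ⁅V, LQ P A₀ Q⁆ := by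
  obtain ⟨B, hB, hns⟩ := h.exists_other hQ hA
  have hne : A ≠ B := fun e => hns (e ▸ h.same_refl hQ hA)
  set L := LQ P A₀ Q
  have key : ∀ {C D : Subgroup G}, Adm P A₀ Q C → PF V C D →
      C ⊔ D = L → fx V C ≤ fx V L ⊔ ⁅V, L⁆ := by
    intro C D hC hf hCD c hc
    obtain ⟨d, hd, hdC⟩ : ∃ d ∈ V, d ∉ fx V C := by
      by_contra hall
      push Not at hall
      obtain ⟨z, hz, hz1⟩ := h.exists_ne_one hC.mem
      obtain ⟨v, hv, hne⟩ := h.exists_bracket_ne (h.mem_le hC.mem hz) hz1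
      exact hne (commutatorElement_eq_one_iff_mul_comm.2
        (mem_centralizer_iff.1 (hall v hv).2 z hz).symm)
    obtain ⟨a, ha, hz⟩ := hf.cover d hd hdC c hc
    rw [hCD] at hz
    have := mul_mem_sup hz (commutator_mem_commutator hd (le_LQ hC ha) : ⁅d, a⁆ ∈ ⁅V, L⁆)
    rwa [inv_mul_cancel_right] at this
  have hL := h.LQ_eq hQ hA hB hne
  exact (h.pf hQ hA hB hns).span.trans (sup_le (key hA (h.pf hQ hA hB hns) hL.symm)
    (key hB (h.pf hQ hB hA fun e => hns e.symm) ((sup_comm _ _).trans hL.symm)))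

/-- The blocks when the offenders have order at least three. -/
theorem blocks_big [Finite G] [Fact p.Prime] (h : Conf p V P T M A₀) (hq : 3 ≤ Nat.card ↥A₀) :
    Blocks p V P T {E | ∃ X, Mem P A₀ X ∧ X ≤ T ∧ E = LQ P A₀ (others P T A₀ X)} := by
  have hconj : ∀ {t : G}, t ∈ T → ∀ X : Subgroup G,
      cj t (LQ P A₀ (others P T A₀ X)) = LQ P A₀ (others P T A₀ (cj t X)) := fun {t} ht X => by
    rw [h.cj_LQ (h.hTP ht), cj_others (h.hTP ht) (le_normalizer ht)]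
  have hcross : ∀ X Y : Subgroup G, Mem P A₀ X → X ≤ T → Mem P A₀ Y → Y ≤ T → Y ≠ X →
      LQ P A₀ (others P T A₀ Y) ≤ centralizer (LQ P A₀ (others P T A₀ X) : Set G) := by
    intro X Y hX hXT hY hYT hne
    refine sSup_le fun Y' hY' y' hy' => ?_
    refine le_centralizer_iff.1 (sSup_le (fun X' hX' x' hx' => ?_) : LQ P A₀ (others P T A₀ X) ≤
      centralizer ((zpowers y' : Subgroup G) : Set G)) (mem_zpowers y')
    refine mem_centralizer_iff.2 fun z hz => ?_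
    obtain ⟨k, rfl⟩ := mem_zpowers_iff.1 hz
    refine ((Commute.zpow_left ?_ k)).eq
    exact h.commute_of_cross (h.mem_le hY'.mem hy') (h.mem_le hX'.mem hx')
      (fun v hv => mem_centralizer_iff.1 (h.cross_T hq hX hXT hY hYT hne hY'
        (commutator_mem_commutator hv hy')).2 x' (le_LQ hX' hx'))
      (fun v hv => mem_centralizer_iff.1 (h.cross_T hq hY hYT hX hXT hne.symm hX'
        (commutator_mem_commutator hv hx')).2 y' (le_LQ hY' hy'))
  refine ⟨?_, ?_, ?_, ?_, ?_, ?_, ?_, ?_⟩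
  · obtain ⟨X, hX, hXT⟩ := h.exists_member_T
    exact ⟨_, X, hX, hXT, rfl⟩
  · rintro E ⟨X, -, -, rfl⟩
    exact h.LQ_le
  · rintro E ⟨X, hX, hXT, rfl⟩ E' ⟨Y, hY, hYT, rfl⟩ hne
    exact hcross Y X hY hYT hX hXT fun e => hne (by rw [e])
  · rintro E ⟨X, hX, hXT, rfl⟩ E' ⟨Y, hY, hYT, rfl⟩ hne
    have hne' : X ≠ Y := fun e => hne (by rw [e])
    refine (h.bracket_sSup_le (K := fx V (LQ P A₀ (others P T A₀ Y))) (fun Z hZ => h.mem_le hZ.mem) ?_
      fun Z hZ => h.cross_T hq hY hYT hX hXT hne' hZ).trans inf_le_right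
    exact fun Z hZ z hz => h.fx_normalizer (h.mem_le hZ.mem hz)
      (centralizer_le_normalizer _ (hcross Y X hY hYT hX hXT hne' (le_LQ hZ hz)))
  · rintro E ⟨X, hX, hXT, rfl⟩
    obtain ⟨hQ, -, hA⟩ := h.member_T hX hXT
    exact h.dec_LQ hQ hA
  · rintro E ⟨X, hX, hXT, rfl⟩ E' ⟨Y, hY, hYT, rfl⟩
    obtain ⟨t, ht, rfl⟩ := h.conj_T hX hXT hY hYT
    exact ⟨t, ht, hconj ht X⟩
  · refine h.gen_eq (sSup_le ?_) ?_ ?_
    · rintro E ⟨X, -, -, rfl⟩
      exact h.LQ_le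
    · refine fun t ht => Core.mem_normalizer_iff_map_conj.2 (Subgroup.eq_of_le_of_card_ge
        (cj_le_iff.2 (sSup_le ?_)) (card_cj _ _).ge)
      rintro E ⟨X, hX, hXT, rfl⟩
      refine cj_le_iff.1 (le_sSup ⟨cj t X, hX.conj (h.hTP ht), cj_le ht hXT, hconj ht X⟩)
    · intro hle
      obtain ⟨X, hX, hXT⟩ := h.exists_member_T
      obtain ⟨hQ, -, hA⟩ := h.member_T hX hXT
      obtain ⟨B, hB, hBM⟩ := h.exists_adm_outside hQ
      exact hBM ((le_LQ hB).trans ((le_sSup (s := {E | ∃ X, Mem P A₀ X ∧ X ≤ T ∧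
        E = LQ P A₀ (others P T A₀ X)}) ⟨X, hX, hXT, rfl⟩).trans hle))
  · rintro E ⟨X, hX, hXT, rfl⟩
    obtain ⟨hQ, -, hA⟩ := h.member_T hX hXT
    obtain ⟨F, i1, i2, hc, hiso, hact⟩ := h.natural hQ hA (hXT.trans h.hTM)
    obtain ⟨n, hn⟩ := (IsPGroup.iff_card).1 (h.mem_pgroup hX)
    refine ⟨n, Nat.pos_of_ne_zero fun e => ?_, .inl ⟨F, i1, i2, hc.trans hn, hiso, ?_⟩⟩
    · rw [e, pow_zero, mem_card hX] at hn
      omega
    exact sl2_restrict h.hV (h.LQ_le.trans h.hPV) (h.dec_LQ hQ hA) hact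

end Conf
end Cfsg.Lib.Local.PMinOff
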