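import Cfsg.Agent.Lib.Local.PMinOff.Sylow

/-!
# Best offenders in `p`-minimal groups: assembling the blocks

Pairwise commuting subgroups permuted transitively by `T`, each acting on `V` as `SL₂` or a symmetric group on its
natural module, give the decomposition of the theorem.
-/

set_option autoImplicit false
set_option linter.style.haveILetI false

namespace Cfsg.Lib.Local.PMinOff

open Subgroup
open scoped commutatorElement
open OffenderPair (fx)
open TrapPair (mem_cj cj_cj cj_one cj_eq_of_mem cj_le)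

variable {G : Type*} [Group G] {p : ℕ} {V P T M A₀ E : Subgroup G}

local notation:max "cj" g:max K:max => Subgroup.map (MulEquiv.toMonoidHom (MulAut.conj g)) K

theorem bracket_self_normalizer (hEV : E ≤ normalizer (V : Set G)) :
    E ≤ normalizer ((⁅V, E⁆ : Subgroup G) : Set G) := fun e he => by
  rw [Core.mem_normalizer_iff_map_conj, Subgroup.map_commutator, cj_normalizer (hEV he), cj_eq_of_mem he]

theorem inf_fx_bracket (hEV : E ≤ normalizer (V : Set G)) :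
    ⁅V, E⁆ ⊓ centralizer (E : Set G) = ⁅V, E⁆ ⊓ fx V E := by
  have : ⁅V, E⁆ ≤ V := Subgroup.le_normalizer_iff_commutator_le_left.mp hEV
  rw [← inf_assoc, inf_eq_left.2 this]

/-- Restricting a natural action on `V` to `[V, E]`. -/
theorem sl2_restrict {F : Type*} [Field F] {R : Subgroup (Matrix.SpecialLinearGroup (Fin 2) F)}
    (hV : Cfsg.IsElementaryAbelian p V) (hEV : E ≤ normalizer (V : Set G)) (hdec : V ≤ fx V E ⊔ ⁅V, E⁆)
    (hact : Cfsg.ActsAsSL2OnSection F R E V (fx V E)) :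
    Cfsg.ActsAsSL2OnSection F R E ⁅V, E⁆ (⁅V, E⁆ ⊓ centralizer (E : Set G)) := by
  obtain ⟨-, -, ρ, ψ, hR, hsurj, hker, hequ⟩ := hact
  haveI := hV.1
  have hUV : ⁅V, E⁆ ≤ V := Subgroup.le_normalizer_iff_commutator_le_left.mp hEV
  refine ⟨bracket_self_normalizer hEV, inf_le_left, ρ, ψ.comp (inclusion hUV), hR, fun x => ?_, fun u => ?_,
    fun e u => ?_⟩
  · obtain ⟨v, rfl⟩ := hsurj x
    have hn : fx V E ≤ normalizer ((⁅V, E⁆ : Subgroup G) : Set G) := le_normalizer_iff.2 fun a ha c hc => by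
      rw [show a * c = c * a from congrArg Subtype.val (mul_comm' (⟨a, ha.1⟩ : ↥V) ⟨c, hUV hc⟩),
        mul_inv_cancel_right]
      exact hc
    have hv := hdec v.2
    rw [← SetLike.mem_coe, Subgroup.coe_mul_of_left_le_normalizer_right _ _ hn] at hv
    obtain ⟨c, hc, u, hu, e⟩ := Set.mem_mul.1 hv
    refine ⟨⟨u, hu⟩, ?_⟩
    have e' : v = (⟨c, hc.1⟩ : ↥V) * ⟨u, hUV hu⟩ := Subtype.ext e.symm
    rw [e', map_mul, (hker ⟨c, hc.1⟩).2 hc, one_mul]
    rfl
  · rw [MonoidHom.comp_apply, hker, inf_fx_bracket hEV]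
    exact ⟨fun h => ⟨u.2, h⟩, fun h => h.2⟩
  · obtain ⟨w, hw, hψ⟩ := hequ e (inclusion hUV u)
    refine ⟨⟨(e : G) * u * (e : G)⁻¹, (mem_normalizer_iff.1 (bracket_self_normalizer hEV e.2) _).1 u.2⟩, rfl, ?_⟩
    rw [MonoidHom.comp_apply, MonoidHom.comp_apply, show inclusion hUV ⟨(e : G) * u * (e : G)⁻¹, _⟩ = w from Subtype.ext hw.symm]
    exact hψ

/-- The isomorphism type and action of a block. -/
def IsBlock (p : ℕ) (V E : Subgroup G) : Prop :=
  ∃ n : ℕ, 1 ≤ n ∧ ((∃ (F : Type) (_ : Field F) (_ : Fintype F), Fintype.card F = p ^ n ∧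
      Nonempty (↥E ≃* Matrix.SpecialLinearGroup (Fin 2) F) ∧
      Cfsg.ActsAsSL2OnSection F ⊤ E ⁅V, E⁆ (⁅V, E⁆ ⊓ centralizer (E : Set G))) ∨
    (p = 2 ∧ Nonempty (↥E ≃* Equiv.Perm (Fin (2 ^ n + 1))) ∧
      Cfsg.ActsAsOddPermModuleOnSection (2 ^ n + 1) ⊤ E ⁅V, E⁆ (⁅V, E⁆ ⊓ centralizer (E : Set G))))

/-- The blocks. -/
structure Blocks (p : ℕ) (V P T : Subgroup G) (𝔅 : Set (Subgroup G)) : Prop where
  nonempty : 𝔅.Nonempty
  le : ∀ E ∈ 𝔅, E ≤ P
  comm : ∀ E ∈ 𝔅, ∀ E' ∈ 𝔅, E ≠ E' → E ≤ centralizer (E' : Set G)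
  cross : ∀ E ∈ 𝔅, ∀ E' ∈ 𝔅, E ≠ E' → ⁅V, E⁆ ≤ centralizer (E' : Set G)
  dec : ∀ E ∈ 𝔅, V ≤ fx V E ⊔ ⁅V, E⁆
  conj : ∀ E ∈ 𝔅, ∀ E' ∈ 𝔅, ∃ t ∈ T, cj t E = E'
  gen : sSup 𝔅 ⊔ T = P
  block : ∀ E ∈ 𝔅, IsBlock p V E

theorem Blocks.result [Finite G] {𝔅 : Set (Subgroup G)} (hb : Blocks p V P T 𝔅)
    (hV : Cfsg.IsElementaryAbelian p V) (hPV : P ≤ normalizer (V : Set G))
    (hfaith : P ⊓ centralizer (V : Set G) = ⊥) :
    ∃ (r : ℕ) (E : Fin r → Subgroup G), 1 ≤ r ∧ (∀ i, E i ≤ P) ∧ (∀ i j, i ≠ j → ⁅E i, E j⁆ = ⊥) ∧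
      (∀ i, E i ⊓ (⨆ j ∈ {j | j ≠ i}, E j) = ⊥) ∧ ((⨆ i, E i) = sSup 𝔅 ∧ (⨆ i, E i) ⊔ T = P) ∧
      (∀ i j, ∃ t ∈ T, (E i).map (MulAut.conj t).toMonoidHom = E j) ∧
      (V ⊓ centralizer (((⨆ i, E i) : Subgroup G) : Set G)) ⊔ (⨆ i, ⁅V, E i⁆) = V ∧
      (∀ i j, i ≠ j → ⁅⁅V, E i⁆, E j⁆ = ⊥) ∧ ∀ i, IsBlock p V (E i) := by
  classical
  haveI : Fintype (Subgroup G) := Fintype.ofFinite _
  let e := (Fintype.equivFin ↥𝔅).symm
  refine ⟨Fintype.card ↥𝔅, fun i => (e i : Subgroup G), ?_, fun i => hb.le _ (e i).2, ?_, ?_, ?_, ?_, ?_, ?_,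
    fun i => hb.block _ (e i).2⟩
  · exact Fintype.card_pos_iff.2 hb.nonempty.to_subtype
  · exact fun i j hij => commutator_eq_bot_iff_le_centralizer.2
      (hb.comm _ (e i).2 _ (e j).2 fun he => hij (e.injective (Subtype.ext he)))
  · intro i
    refine le_bot_iff.1 fun g hg => ?_
    rw [← hfaith]
    refine mem_inf.2 ⟨hb.le _ (e i).2 hg.1, ?_⟩
    have h1 : (⨆ j ∈ {j | j ≠ i}, (e j : Subgroup G)) ≤ centralizer ((⁅V, (e i : Subgroup G)⁆ : Subgroup G) : Set G) :=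
      iSup₂_le fun j hj => le_centralizer_iff.1
        (hb.cross _ (e i).2 _ (e j).2 fun he => hj (e.injective (Subtype.ext he.symm)))
    have h2 : V ≤ centralizer (zpowers g : Set G) := (hb.dec _ (e i).2).trans (sup_le
      (le_centralizer_iff.1 (zpowers_le.2 (le_centralizer_iff.1 inf_le_right hg.1)))
      (le_centralizer_iff.1 (zpowers_le.2 (h1 hg.2))))
    exact le_centralizer_iff.1 h2 (mem_zpowers g)
  · have : (⨆ i, (e i : Subgroup G)) = sSup 𝔅 := by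
      rw [sSup_eq_iSup']
      exact Equiv.iSup_comp (g := fun x : ↥𝔅 => (x : Subgroup G)) e
    exact ⟨this, by rw [this]; exact hb.gen⟩
  · exact fun i j => hb.conj _ (e i).2 _ (e j).2
  · have hle : ∀ i, ⁅V, (e i : Subgroup G)⁆ ≤ V := fun i =>
      Subgroup.le_normalizer_iff_commutator_le_left.mp ((hb.le _ (e i).2).trans hPV)
    haveI := hV.1
    refine le_antisymm (sup_le inf_le_left (iSup_le hle)) ?_
    suffices key : ∀ s : Finset (Fin (Fintype.card ↥𝔅)),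
        V ≤ fx V (⨆ i ∈ s, (e i : Subgroup G)) ⊔ ⨆ i, ⁅V, (e i : Subgroup G)⁆ by
      simpa using key Finset.univ
    intro s
    induction s using Finset.induction_on with
    | empty =>
      refine le_sup_of_le_left (le_inf le_rfl ?_)
      simp only [Finset.notMem_empty, iSup_false, iSup_bot, Subgroup.coe_bot]
      exact fun v _ => mem_centralizer_iff.2 fun y hy => by
        rw [Set.mem_singleton_iff] at hy
        rw [hy, one_mul, mul_one]
    | insert j s hj ih =>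
      refine ih.trans (sup_le (fun c hc => ?_) le_sup_right)
      have hn : fx V (e j : Subgroup G) ≤ normalizer ((⁅V, (e j : Subgroup G)⁆ : Subgroup G) : Set G) :=
        le_normalizer_iff.2 fun a ha d hd => by
          rw [show a * d = d * a from congrArg Subtype.val (mul_comm' (⟨a, ha.1⟩ : ↥V) ⟨d, hle j hd⟩),
            mul_inv_cancel_right]
          exact hd
      have hc' := hb.dec _ (e j).2 hc.1
      rw [← SetLike.mem_coe, Subgroup.coe_mul_of_left_le_normalizer_right _ _ hn] at hc'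
      obtain ⟨d, hd, w, hw, hdw⟩ := Set.mem_mul.1 hc'
      rw [← hdw]
      refine mul_mem_sup ?_ (le_iSup (fun i => ⁅V, (e i : Subgroup G)⁆) j hw)
      have hwc : w ∈ centralizer ((⨆ i ∈ s, (e i : Subgroup G) : Subgroup G) : Set G) :=
        le_centralizer_iff.1 (iSup₂_le fun i hi => le_centralizer_iff.1 ((zpowers_le.2 hw).trans
          (hb.cross _ (e j).2 _ (e i).2 fun he => hj (by rwa [e.injective (Subtype.ext he)]))))
          (mem_zpowers w)
      have hds : d ∈ centralizer ((⨆ i ∈ s, (e i : Subgroup G) : Subgroup G) : Set G) := by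
        rw [show d = c * w⁻¹ by rw [← hdw, mul_inv_cancel_right]]
        exact mul_mem hc.2 (inv_mem hwc)
      refine mem_inf.2 ⟨hd.1, ?_⟩
      rw [Finset.iSup_insert]
      exact le_centralizer_iff.1 (sup_le (le_centralizer_iff.1 (zpowers_le.2 hd.2))
        (le_centralizer_iff.1 (zpowers_le.2 hds))) (mem_zpowers d)
  · exact fun i j hij => commutator_eq_bot_iff_le_centralizer.2
      (hb.cross _ (e i).2 _ (e j).2 fun he => hij (e.injective (Subtype.ext he)))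

namespace Conf

/-- A bracket with a join. -/
theorem bracket_sSup_le (h : Conf p V P T M A₀) {S : Set (Subgroup G)} {K : Subgroup G}
    (hP : ∀ X ∈ S, X ≤ P) (hn : ∀ X ∈ S, X ≤ normalizer (K : Set G)) (hb : ∀ X ∈ S, ⁅V, X⁆ ≤ K) :
    ⁅V, sSup S⁆ ≤ K := by
  let L : Subgroup G :=
    { carrier := {l | l ∈ P ∧ l ∈ normalizer (K : Set G) ∧ ∀ v ∈ V, ⁅v, l⁆ ∈ K}
      one_mem' := ⟨one_mem _, one_mem _, fun v _ => by rw [commutatorElement_one_right]; exact one_mem K⟩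
      mul_mem' := fun {l m} hl hm => ⟨mul_mem hl.1 hm.1, mul_mem hl.2.1 hm.2.1, fun v hv => by
        rw [show ⁅v, l * m⁆ = ⁅v, l⁆ * (l * ⁅v, m⁆ * l⁻¹) by simp only [commutatorElement_def]; group]
        exact mul_mem (hl.2.2 v hv) ((mem_normalizer_iff.1 hl.2.1 _).1 (hm.2.2 v hv))⟩
      inv_mem' := fun {l} hl => ⟨inv_mem hl.1, inv_mem hl.2.1, fun v hv => by
        rw [show ⁅v, l⁻¹⁆ = l⁻¹ * ⁅v, l⁆⁻¹ * l⁻¹⁻¹ by simp only [commutatorElement_def]; group]
        exact (mem_normalizer_iff.1 (inv_mem hl.2.1) _).1 (inv_mem (hl.2.2 v hv))⟩ }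
  have hle : sSup S ≤ L := sSup_le fun X hX x hx =>
    ⟨hP X hX hx, hn X hX hx, fun v hv => hb X hX (commutator_mem_commutator hv hx)⟩
  exact commutator_le.2 fun v hv x hx => (hle hx).2.2 v hv

/-- Subgroups containing the members of `T` and their partners generate `P` with `T`. -/
theorem gen_eq [Finite G] [Fact p.Prime] (h : Conf p V P T M A₀) {K : Subgroup G} (hK : K ≤ P)
    (hT : T ≤ normalizer (K : Set G)) (hout : ¬ K ≤ M) : K ⊔ T = P :=
  (h.huniq _ (sup_le hK h.hTP) le_sup_right).resolve_left fun e => hout (le_sup_left.trans e)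

theorem exists_member_T [Finite G] [Fact p.Prime] (h : Conf p V P T M A₀) :
    ∃ X, Mem P A₀ X ∧ X ≤ T := by
  obtain ⟨Q, hQ, hQT⟩ := h.exists_maxQ_le_T
  obtain ⟨A, hA, hAT⟩ := h.exists_adm hQ hQT
  exact ⟨A, hA.mem, hAT⟩

/-- Members of `T` centralize each other. -/
theorem member_comm [Finite G] [Fact p.Prime] (h : Conf p V P T M A₀) {X Y : Subgroup G} (hX : Mem P A₀ X)
    (hXT : X ≤ T) (hY : Mem P A₀ Y) (hYT : Y ≤ T) (hne : Y ≠ X) :
    LQ P A₀ (others P T A₀ X) ≤ centralizer (Y : Set G) ∧ ⁅V, Y⁆ ≤ fx V (LQ P A₀ (others P T A₀ X)) := by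
  obtain ⟨hQ, -, hA⟩ := h.member_T hX hXT
  have hYQ : Y ≤ others P T A₀ X := le_others hY hYT hne
  exact ⟨(h.LQ_le_centralizer hQ hA (hXT.trans h.hTM)).trans (centralizer_le (by exact_mod_cast hYQ)),
    h.bracket_Q_le hQ hA (hXT.trans h.hTM) hY hYQ⟩

end Conf
end Cfsg.Lib.Local.PMinOff
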