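import Cfsg.Agent.Lib.Local.PMinOff.Pair

/-!
# Best offenders in `p`-minimal groups: pairs in different classes

Two admissible members lie in one class if they lie with `Q` in one conjugate of `M`. Two members of different
classes form a pair; the members of a pair's lines cover `V`, so every line meets every class.
-/

set_option autoImplicit false
set_option linter.style.haveILetI false

namespace Cfsg.Lib.Local.PMinOff

open Subgroup
open scoped commutatorElement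
open OffenderPair (fx)
open TrapPair (mem_cj cj_cj cj_one cj_eq_of_mem cj_le)

variable {G : Type*} [Group G] {p : ℕ} {V P T M A₀ Q A B X Y : Subgroup G} {y : G}

local notation:max "cj" g:max K:max => Subgroup.map (MulEquiv.toMonoidHom (MulAut.conj g)) K

/-- `A` and `X` lie with `Q` in the same conjugate of `M`. -/
def SameCls (P M Q A X : Subgroup G) : Prop := ∃ g ∈ P, Q ⊔ A ≤ cj g M ∧ Q ⊔ X ≤ cj g M

theorem SameCls.symm (h : SameCls P M Q A X) : SameCls P M Q X A := by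
  obtain ⟨g, hg, h1, h2⟩ := h
  exact ⟨g, hg, h2, h1⟩

theorem mem_fx_sSup {V : Subgroup G} {S : Set (Subgroup G)} {v : G} (hv : v ∈ V)
    (hall : ∀ X ∈ S, v ∈ fx V X) : v ∈ fx V (sSup S) :=
  mem_inf.2 ⟨hv, le_centralizer_iff.1 (sSup_le fun X hX => le_centralizer_iff.1
    (zpowers_le.2 (hall X hX).2)) (mem_zpowers v)⟩

namespace Frame

theorem le_P (h : Conf p V P T M A₀) (f : Frame p V P T M A₀ Q A y) : A ⊔ cj y A ≤ P :=
  sup_le (h.mem_le f.hA.mem) (cj_le f.hy (h.mem_le f.hA.mem))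

theorem pf [Finite G] [Fact p.Prime] (h : Conf p V P T M A₀) (f : Frame p V P T M A₀ Q A y) :
    PF V A (cj y A) := by
  obtain ⟨T₀, R, hd, -⟩ := f.data
  have hx := f.hyL
  have hxM : y ∉ (A ⊔ cj y A) ⊓ M := fun e => f.hyM (mem_inf.1 e).2
  obtain ⟨eC, eV⟩ := hd.cards
  have hspan : V ≤ fx V A ⊔ fx V (cj y A) := fun v hv => by
    obtain ⟨c, hc, d, hd', rfl⟩ := hd.exists_decomp hx hxM hv
    exact mul_mem_sup hc hd'
  refine ⟨eV, eC, hspan, fun v hv a ha => hd.quadratic hv ha, fun v hv hvA c hc => ?_,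
    fun v hv a ha ha1 hz => ?_⟩
  · obtain ⟨c₀, hc₀, d, hd', rfl⟩ := hd.exists_decomp hx hxM hv
    obtain ⟨a, ha, hz⟩ := hd.exists_bracket hx hxM hd' (fun e => hvA (mul_mem hc₀ (hd.Z_le e))) hc
    exact ⟨a, ha, by rwa [hd.bracket_left hc₀ hd'.1 ha]⟩
  · obtain ⟨c₀, hc₀, d, hd', rfl⟩ := hd.exists_decomp hx hxM hv
    rw [hd.bracket_left hc₀ hd'.1 ha] at hz
    exact mul_mem hc₀ (hd.Z_le ((hd.bracket_eq hx hxM hd' ha hz).resolve_right ha1))

end Frame

namespace Conf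

theorem cls_eq [Finite G] [Fact p.Prime] (h : Conf p V P T M A₀) (hQ : MaxQ p P M A₀ Q)
    (hA : Adm P A₀ Q A) {g g' : G} (hg : g ∈ P) (hg' : g' ∈ P) (h1 : Q ⊔ A ≤ cj g M)
    (h2 : Q ⊔ A ≤ cj g' M) : cj g' M = cj g M := by
  rw [show g' = g * (g⁻¹ * g') by group, ← cj_cj, cj_eq_of_mem (h.cls_unique hQ hA hg hg' h1 h2)]

theorem same_refl [Fact p.Prime] (h : Conf p V P T M A₀) (hQ : MaxQ p P M A₀ Q)
    (hA : Adm P A₀ Q A) : SameCls P M Q A A := by
  obtain ⟨g, hg, hle⟩ := h.exists_cls hQ hA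
  exact ⟨g, hg, hle, hle⟩

theorem same_trans [Finite G] [Fact p.Prime] (h : Conf p V P T M A₀) (hQ : MaxQ p P M A₀ Q)
    (hX : Adm P A₀ Q X) (h1 : SameCls P M Q A X) (h2 : SameCls P M Q X B) : SameCls P M Q A B := by
  obtain ⟨g, hg, a1, a2⟩ := h1
  obtain ⟨g', hg', b1, b2⟩ := h2
  exact ⟨g, hg, a1, b2.trans (h.cls_eq hQ hX hg hg' a2 b1).le⟩

theorem same_of_le (hQ : MaxQ p P M A₀ Q) (hA : A ≤ M) (hX : X ≤ M) : SameCls P M Q A X :=
  ⟨1, one_mem P, by rw [cj_one]; exact sup_le (maxQ_le_M hQ) hA, by rw [cj_one]; exact sup_le (maxQ_le_M hQ) hX⟩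

theorem le_of_same [Finite G] [Fact p.Prime] (h : Conf p V P T M A₀) (hQ : MaxQ p P M A₀ Q)
    (hA : Adm P A₀ Q A) (hAM : A ≤ M) (hs : SameCls P M Q A X) : X ≤ M := by
  obtain ⟨g, hg, h1, h2⟩ := hs
  exact (le_sup_right.trans h2).trans (cj_M_of_mem (h.mem_of_le_cj hQ hA hAM hg h1)).le

theorem same_conj {x : G} (hx : x ∈ P) (hn : x ∈ normalizer (Q : Set G)) (hs : SameCls P M Q A X) :
    SameCls P M Q (cj x A) (cj x X) := by
  obtain ⟨g, hg, h1, h2⟩ := hs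
  refine ⟨x * g, mul_mem hx hg, ?_, ?_⟩ <;> rw [← cj_cj]
  · exact (sup_le_sup_right (cj_normalizer hn).ge _).trans
      ((Subgroup.map_sup _ _ _).ge.trans (Subgroup.map_mono h1))
  · exact (sup_le_sup_right (cj_normalizer hn).ge _).trans
      ((Subgroup.map_sup _ _ _).ge.trans (Subgroup.map_mono h2))

/-- A member of `M` and one outside form a pair. -/
theorem pf_of_outside [Finite G] [Fact p.Prime] (h : Conf p V P T M A₀) (hQ : MaxQ p P M A₀ Q)
    (hA : Adm P A₀ Q A) (hAM : A ≤ M) (hB : Adm P A₀ Q B) (hBM : ¬ B ≤ M) : PF V A B := by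
  obtain ⟨b, hb, hbM⟩ := SetLike.not_le_iff_exists.1 hBM
  obtain ⟨y, f, hle⟩ := h.exists_frame hQ hA hAM (h.mem_le hB.mem hb) (hB.norm hb) hbM
  have hf := f.pf h
  have hle' : A ⊔ cj y A ≤ A ⊔ B :=
    hle.trans (sup_le le_sup_left (cj_le (mem_sup_right hb) le_sup_left))
  have hAB : Nat.card ↥(fx V B) = Nat.card ↥(fx V A) := by
    obtain ⟨g, hg, rfl⟩ := hA.mem
    obtain ⟨g', hg', rfl⟩ := hB.mem
    rw [h.card_fx_cj hg, h.card_fx_cj hg']
  have hcnt := Timmesfeld.card_mul_card_le (fx V A) (fx V B)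
  rw [← fx_sup, hAB] at hcnt
  set C := Nat.card ↥(fx V (A ⊔ cj y A)) with hC
  set H := Nat.card ↥(fx V A) with hH
  set C' := Nat.card ↥(fx V (A ⊔ B)) with hC'
  set W := Nat.card ↥(fx V A ⊔ fx V B : Subgroup G) with hW
  have hWV : W ≤ Nat.card ↥V := card_le_of_le (sup_le inf_le_left inf_le_left)
  have hC'C : C' ≤ C := card_le_of_le (fx_mono hle')
  have eV := hf.eV
  have eH := hf.eH
  have hqpos : 0 < Nat.card ↥A := Nat.card_pos
  have hCpos : 0 < C := Nat.card_pos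
  rw [← hH, ← hC] at eH
  rw [← hH] at eV
  rw [eH] at hcnt eV
  have k1 : C ≤ C' := by
    refine Nat.le_of_mul_le_mul_right ?_ (Nat.mul_pos (Nat.mul_pos hqpos hqpos) hCpos)
    calc C * (Nat.card ↥A * Nat.card ↥A * C) = Nat.card ↥A * C * (Nat.card ↥A * C) := by ring
      _ ≤ C' * W := hcnt
      _ ≤ C' * (Nat.card ↥A * (Nat.card ↥A * C)) := Nat.mul_le_mul_left _ (hWV.trans eV.le)
      _ = C' * (Nat.card ↥A * Nat.card ↥A * C) := by ring
  have e : fx V (A ⊔ B) = fx V (A ⊔ cj y A) := Subgroup.eq_of_le_of_card_ge (fx_mono hle') k1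
  refine ⟨hf.eV, e ▸ hf.eH, ?_, hf.quad, e ▸ hf.cover, e ▸ hf.free⟩
  refine (Subgroup.eq_of_le_of_card_ge (sup_le inf_le_left inf_le_left) ?_).ge
  refine Nat.le_of_mul_le_mul_left ?_ hCpos
  calc C * Nat.card ↥V = Nat.card ↥A * C * (Nat.card ↥A * C) := by rw [eV]; ring
    _ ≤ C' * W := hcnt
    _ ≤ C * W := Nat.mul_le_mul_right _ hC'C

/-- Two members of different classes form a pair. -/
theorem pf [Finite G] [Fact p.Prime] (h : Conf p V P T M A₀) (hQ : MaxQ p P M A₀ Q)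
    (hA : Adm P A₀ Q A) (hB : Adm P A₀ Q B) (hns : ¬ SameCls P M Q A B) : PF V A B := by
  obtain ⟨g, hg, hle⟩ := h.exists_cls hQ hA
  have hQ' := h.maxQ_conj hQ (inv_mem hg) (le_cj_iff.1 (le_sup_left.trans hle))
  have hB' : ¬ cj g⁻¹ B ≤ M := fun e => hns ⟨g, hg, hle, sup_le (le_sup_left.trans hle) (le_cj_iff.2 e)⟩
  have := h.pf_conj (h.pf_of_outside hQ' (adm_conj hA (inv_mem hg)) (le_cj_iff.1 (le_sup_right.trans hle))
    (adm_conj hB (inv_mem hg)) hB') hg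
  rwa [cj_cj_inv, cj_cj_inv] at this

/-- Some admissible member lies in another class. -/
theorem exists_other [Finite G] [Fact p.Prime] (h : Conf p V P T M A₀) (hQ : MaxQ p P M A₀ Q)
    (hA : Adm P A₀ Q A) : ∃ B, Adm P A₀ Q B ∧ ¬ SameCls P M Q A B := by
  obtain ⟨g, hg, hle⟩ := h.exists_cls hQ hA
  obtain ⟨B, hB, hBM⟩ :=
    h.exists_adm_outside (h.maxQ_conj hQ (inv_mem hg) (le_cj_iff.1 (le_sup_left.trans hle)))
  have hB' := adm_conj hB hg
  rw [cj_cj_inv] at hB'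
  refine ⟨_, hB', fun ⟨g', hg', h1, h2⟩ => hBM ?_⟩
  have := (le_sup_right.trans h2).trans (h.cls_eq hQ hA hg hg' hle h1).le
  exact (Subgroup.map_le_map_iff_of_injective (MulAut.conj g).injective).1 this

theorem quad [Finite G] [Fact p.Prime] (h : Conf p V P T M A₀) (hQ : MaxQ p P M A₀ Q)
    (hA : Adm P A₀ Q A) {v a : G} (hv : v ∈ V) (ha : a ∈ A) : ⁅v, a⁆ ∈ fx V A := by
  obtain ⟨B, hB, hns⟩ := h.exists_other hQ hA
  exact (h.pf hQ hA hB hns).quad v hv a ha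

/-- A nontrivial element of a member fixes only what the member fixes. -/
theorem fix_eq [Finite G] [Fact p.Prime] (h : Conf p V P T M A₀) (hX : Mem P A₀ X) {v x : G} (hv : v ∈ V)
    (hx : x ∈ X) (hx1 : x ≠ 1) (hc : x * v = v * x) : v ∈ fx V X := by
  obtain ⟨Q, hQ, hQT⟩ := h.exists_maxQ_le_T
  obtain ⟨A, hA, hAT⟩ := h.exists_adm hQ hQT
  obtain ⟨B, hB, hns⟩ := h.exists_other hQ hA
  obtain ⟨g, hg, eA⟩ := hA.mem
  obtain ⟨g', hg', eX⟩ := hX
  set k := g' * g⁻¹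
  have hk : k ∈ P := mul_mem hg' (inv_mem hg)
  have e : X = cj k A := by rw [eX, eA, cj_cj]; simp [k]
  rw [e] at hx ⊢
  rw [mem_cj] at hx
  rw [h.mem_fx_cj hk]
  refine (h.pf hQ hA hB hns).free _ (by simpa using h.conj_mem_V (inv_mem hk) hv) _ hx (fun e1 => hx1 ?_) ?_
  · calc x = k * (k⁻¹ * x * k) * k⁻¹ := by group
      _ = 1 := by rw [e1]; group
  · rw [show ⁅k⁻¹ * v * k, k⁻¹ * x * k⁆ = k⁻¹ * ⁅v, x⁆ * k by simp only [commutatorElement_def]; group,
      commutatorElement_eq_one_iff_mul_comm.2 hc.symm, mul_one, inv_mul_cancel]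
    exact one_mem _

theorem exists_ne_one (h : Conf p V P T M A₀) (hX : Mem P A₀ X) : ∃ x ∈ X, x ≠ 1 := by
  by_contra hall
  push Not at hall
  exact h.mem_ne_bot hX (le_bot_iff.1 fun x hx => mem_bot.2 (hall x hx))

theorem exists_bracket_ne (h : Conf p V P T M A₀) {x : G} (hx : x ∈ P) (hx1 : x ≠ 1) :
    ∃ v ∈ V, ⁅v, x⁆ ≠ 1 := by
  by_contra hall
  push Not at hall
  refine hx1 (mem_bot.1 (h.hfaith ▸ mem_inf.2 ⟨hx, mem_centralizer_iff.2 fun v hv => ?_⟩))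
  exact commutatorElement_eq_one_iff_mul_comm.1 (hall v hv)

/-- A commutator of a member fixed by a member of another class is trivial. -/
theorem free_cls [Finite G] [Fact p.Prime] (h : Conf p V P T M A₀) (hQ : MaxQ p P M A₀ Q)
    (hX : Adm P A₀ Q X) (hY : Adm P A₀ Q Y) (hns : ¬ SameCls P M Q X Y) {v x : G} (hv : v ∈ V) (hx : x ∈ X)
    (he : ⁅v, x⁆ ∈ fx V Y) : ⁅v, x⁆ = 1 := by
  rcases eq_or_ne x 1 with rfl | hx1
  · exact commutatorElement_one_right v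
  have hv' := (h.pf hQ hX hY hns).free v hv x hx hx1
    (by rw [fx_sup]; exact mem_inf.2 ⟨h.quad hQ hX hv hx, he⟩)
  exact commutatorElement_eq_one_iff_mul_comm.2 (mem_centralizer_iff.1 hv'.2 x hx).symm

/-- Every vector is fixed by some member of a line. -/
theorem cover_line [Finite G] [Fact p.Prime] (h : Conf p V P T M A₀) (hQ : MaxQ p P M A₀ Q)
    (hA : Adm P A₀ Q A) (hB : Adm P A₀ Q B) (hns : ¬ SameCls P M Q A B) {v : G} (hv : v ∈ V) :
    v ∈ fx V A ∨ ∃ a ∈ A, v ∈ fx V (cj a B) := by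
  refine or_iff_not_imp_left.2 fun hvA => ?_
  have hf := h.pf hQ hA hB hns
  haveI := h.hV.1
  have hAB : fx V A ≤ normalizer ((fx V B : Subgroup G) : Set G) := le_normalizer_iff.2 fun x hx z hz => by
    rw [h.comm_V hx.1 hz.1, mul_inv_cancel_right]
    exact hz
  have hsum := hf.span hv
  rw [← SetLike.mem_coe, Subgroup.coe_mul_of_left_le_normalizer_right _ _ hAB] at hsum
  obtain ⟨c, hc, d, hd, rfl⟩ := Set.mem_mul.1 hsum
  have hdA : d ∉ fx V A := fun e => hvA (mul_mem hc e)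
  obtain ⟨a, ha, hz⟩ := hf.cover d hd.1 hdA c⁻¹ (inv_mem hc)
  refine ⟨a, ha, ?_⟩
  have haP := h.mem_le hA.mem ha
  set z := c⁻¹ * ⁅d, a⁆⁻¹ with hzdef
  have e : c * d = z⁻¹ * (a * d * a⁻¹) := by
    have hcomm : c * ⁅d, a⁆ = ⁅d, a⁆ * c := h.comm_V hc.1 (h.quad hQ hA hd.1 ha).1
    rw [hzdef, mul_inv_rev, inv_inv, inv_inv, ← hcomm]
    simp only [commutatorElement_def]; group
  have h3 : a * d * a⁻¹ ∈ fx V (cj a B) := by
    rw [h.fx_cj haP]; exact ⟨d, hd, rfl⟩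
  have h4 : fx V (A ⊔ B) ≤ fx V (cj a B) :=
    fx_mono (cj_le (mem_sup_left ha) le_sup_right)
  show c * d ∈ fx V (cj a B)
  rw [e]
  exact mul_mem (inv_mem (h4 hz)) h3

/-- The class of `cj a B` differs from that of `A`. -/
theorem not_same_conj (h : Conf p V P T M A₀) (hA : Adm P A₀ Q A) (hns : ¬ SameCls P M Q A B) {a : G}
    (ha : a ∈ A) : ¬ SameCls P M Q A (cj a B) := fun hs => hns (by
  have := same_conj (inv_mem (h.mem_le hA.mem ha)) (inv_mem (hA.norm ha)) hs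
  rwa [cj_inv_cj, cj_eq_of_mem (inv_mem ha)] at this)

/-- Every line meets every class. -/
theorem meet [Finite G] [Fact p.Prime] (h : Conf p V P T M A₀) (hQ : MaxQ p P M A₀ Q)
    (hA : Adm P A₀ Q A) (hB : Adm P A₀ Q B) (hns : ¬ SameCls P M Q A B) (hX : Adm P A₀ Q X) :
    SameCls P M Q A X ∨ ∃ a ∈ A, SameCls P M Q (cj a B) X := by
  obtain ⟨x, hx, hx1⟩ := h.exists_ne_one hX.mem
  obtain ⟨v, hv, he⟩ := h.exists_bracket_ne (h.mem_le hX.mem hx) hx1
  rcases h.cover_line hQ hA hB hns (h.quad hQ hX hv hx).1 with h1 | ⟨a, ha, h1⟩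
  · exact .inl (by_contra fun hn => he (h.free_cls hQ hX hA (fun e => hn e.symm) hv hx h1))
  · exact .inr ⟨a, ha, by_contra fun hn => he (h.free_cls hQ hX
      (adm_conj_normalizer hB (h.mem_le hA.mem ha) (hA.norm ha)) (fun e => hn e.symm) hv hx h1)⟩

/-- A commutator of a member is fixed by all members of its class. -/
theorem classfix [Finite G] [Fact p.Prime] (h : Conf p V P T M A₀) (hQ : MaxQ p P M A₀ Q)
    (hX : Adm P A₀ Q X) (hY : Adm P A₀ Q Y) (hs : SameCls P M Q X Y) {v x : G} (hv : v ∈ V) (hx : x ∈ X) :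
    ⁅v, x⁆ ∈ fx V Y := by
  obtain ⟨B, hB, hns⟩ := h.exists_other hQ hY
  rcases h.cover_line hQ hY hB hns (h.quad hQ hX hv hx).1 with h1 | ⟨a, ha, h1⟩
  · exact h1
  · rw [h.free_cls hQ hX (adm_conj_normalizer hB (h.mem_le hY.mem ha) (hY.norm ha))
      (fun e => h.not_same_conj hY hns ha (h.same_trans hQ hX hs.symm e)) hv hx h1]
    exact one_mem _

/-- The classes of the conjugates of `B` under `A` are distinct. -/
theorem trap [Finite G] [Fact p.Prime] (h : Conf p V P T M A₀) (hQ : MaxQ p P M A₀ Q)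
    (hA : Adm P A₀ Q A) (hB : Adm P A₀ Q B) (hns : ¬ SameCls P M Q A B) {a : G} (ha : a ∈ A)
    (hs : SameCls P M Q B (cj a B)) : a = 1 := by
  by_contra ha1
  have haP := h.mem_le hA.mem ha
  obtain ⟨b, hb, hb1⟩ := h.exists_ne_one hB.mem
  obtain ⟨v, hv, hne⟩ := h.exists_bracket_ne (h.mem_le hB.mem hb) hb1
  set e := ⁅v, b⁆ with he
  have heB : e ∈ fx V B := h.quad hQ hB hv hb
  have h1 : a⁻¹ * e * a ∈ fx V B :=
    (h.mem_fx_cj haP).1 (h.classfix hQ hB (adm_conj_normalizer hB haP (hA.norm ha)) hs hv hb)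
  have h2 : ⁅e, a⁻¹⁆ ∈ fx V (A ⊔ B) := by
    rw [fx_sup]
    refine mem_inf.2 ⟨h.quad hQ hA heB.1 (inv_mem ha), ?_⟩
    rw [show ⁅e, a⁻¹⁆ = e * (a⁻¹ * e * a)⁻¹ by simp only [commutatorElement_def]; group]
    exact mul_mem heB (inv_mem h1)
  have h3 : e ∈ fx V A := (h.pf hQ hA hB hns).free e heB.1 a⁻¹ (inv_mem ha) (inv_ne_one.2 ha1) h2
  exact hne (h.free_cls hQ hB hA (fun hh => hns hh.symm) hv hb h3)

/-- A vector fixed by a whole class and one further member is fixed by all admissible members. -/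
theorem inter [Finite G] [Fact p.Prime] (h : Conf p V P T M A₀) (hQ : MaxQ p P M A₀ Q)
    (hA : Adm P A₀ Q A) (hB : Adm P A₀ Q B) (hns : ¬ SameCls P M Q A B) {v : G}
    (hvA : ∀ Y, Adm P A₀ Q Y → SameCls P M Q A Y → v ∈ fx V Y) (hvB : v ∈ fx V B) (hX : Adm P A₀ Q X) :
    v ∈ fx V X := by
  have key : ∀ {B X : Subgroup G}, Adm P A₀ Q B → Adm P A₀ Q X → ¬ SameCls P M Q A B → v ∈ fx V B →
      ¬ SameCls P M Q A X → ¬ SameCls P M Q X B → v ∈ fx V X := by
    intro B X hB hX hAB hvB hAX hXB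
    rcases h.meet hQ hX hB hXB hA with hs | ⟨x, hx, hs⟩
    · exact absurd hs.symm hAX
    set D := cj x B
    have hD : Adm P A₀ Q D := adm_conj_normalizer hB (h.mem_le hX.mem hx) (hX.norm hx)
    have hDB : ¬ SameCls P M Q B D := fun e => hAB (h.same_trans hQ hD hs.symm e.symm)
    have h1 := h.pf hQ hB hX (fun e => hXB e.symm)
    have h2 := h.pf hQ hB hD hDB
    have hle : fx V (B ⊔ X) ≤ fx V (B ⊔ D) :=
      fx_mono (sup_le le_sup_left (cj_le (mem_sup_right hx) le_sup_left))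
    have e : fx V (B ⊔ X) = fx V (B ⊔ D) :=
      Subgroup.eq_of_le_of_card_ge hle (Nat.le_of_mul_le_mul_left (h2.eH.symm.trans h1.eH).le Nat.card_pos)
    have hv2 : v ∈ fx V (B ⊔ X) := by
      rw [e, fx_sup]
      exact mem_inf.2 ⟨hvB, hvA D hD hs.symm⟩
    exact fx_mono le_sup_right hv2
  by_cases hAX : SameCls P M Q A X
  · exact hvA X hX hAX
  by_cases hXB : SameCls P M Q X B
  · obtain ⟨a, ha, ha1⟩ := h.exists_ne_one hA.mem
    have hB' : Adm P A₀ Q (cj a B) := adm_conj_normalizer hB (h.mem_le hA.mem ha) (hA.norm ha)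
    have hBB : ¬ SameCls P M Q B (cj a B) := fun e => ha1 (h.trap hQ hA hB hns ha e)
    have hAB' := h.not_same_conj hA hns ha
    have hv' := key hB hB' hns hvB hAB' (fun e => hBB e.symm)
    exact key hB' hX hAB' hv' hAX (fun e => hBB (h.same_trans hQ hX hXB.symm e))
  · exact key hB hX hns hvB hAX hXB

end Conf
end Cfsg.Lib.Local.PMinOff
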