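import Cfsg.Agent.Lib.Local.PMinOff.TwoAct

/-!
# Best offenders in `p`-minimal groups: offenders of order two

The closed families meeting `T` give the symmetric blocks; their degree is `2 ^ k + 1`.
-/

set_option autoImplicit false
set_option linter.style.haveILetI false

namespace Cfsg.Lib.Local.PMinOff

open Subgroup
open scoped commutatorElement
open OffenderPair (fx)
open TrapPair (mem_cj cj_cj cj_one cj_eq_of_mem cj_le)

variable {G : Type*} [Group G] {p : ℕ} {V P T M A₀ : Subgroup G}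

local notation:max "cj" g:max K:max => Subgroup.map (MulEquiv.toMonoidHom (MulAut.conj g)) K

/-- The subgroups generated by the closed families meeting `T`. -/
def twoBlocks (V P A₀ T : Subgroup G) : Set (Subgroup G) :=
  {E | ∃ (n : ℕ) (u : Fin n → G) (x : Fin n → Fin n → G), Fam V P A₀ n u x ∧ Closed P A₀ x ∧
    (∃ t ∈ famSet x, t ∈ T) ∧ E = famGrp x}

namespace Conf

variable [Finite G] [Fact p.Prime]

/-- The conjugate of a family. -/
theorem fam_conj (h : Conf p V P T M A₀) (h2 : Nat.card ↥A₀ = 2) {n : ℕ} {u : Fin n → G}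
    {x : Fin n → Fin n → G} (hf : Fam V P A₀ n u x) (hc : Closed P A₀ x) {g : G} (hg : g ∈ P) :
    Fam V P A₀ n (fun i => g * u i * g⁻¹) (fun i j => g * x i j * g⁻¹) ∧
      Closed P A₀ (fun i j => g * x i j * g⁻¹) ∧
      famSet (fun i j => g * x i j * g⁻¹) = (fun t => g * t * g⁻¹) '' famSet x := by
  have hset : famSet (fun i j => g * x i j * g⁻¹) = (fun t => g * t * g⁻¹) '' famSet x := by
    ext t
    constructor
    · rintro ⟨i, j, hij, rfl⟩; exact ⟨_, ⟨i, j, hij, rfl⟩, rfl⟩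
    · rintro ⟨_, ⟨i, j, hij, rfl⟩, rfl⟩; exact ⟨i, j, hij, rfl⟩
  refine ⟨⟨hf.hn, fun i => h.conj_mem_V hg (hf.mem i), fun i j hij => conj_isTv_iff hg (hf.tv i j hij),
    fun i j hij => ?_, fun i j hij => ?_, fun i j k l a b c d e f eq => ?_⟩, fun t ht => ?_, hset⟩
  · rw [h.tvE_conj h2 hg (hf.tv i j hij), hf.centre i j hij]; group
  · obtain ⟨c, hc'⟩ := hf.form i j hij
    refine ⟨c, fun k => ?_⟩
    rw [tvF_conj, show g⁻¹ * (g * u k * g⁻¹) * g = u k by group]
    exact hc' k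
  · exact hf.disj i j k l a b c d e f (by simpa using eq)
  · have ht' : IsTv P A₀ (g⁻¹ * t * g) := by simpa using conj_isTv_iff (inv_mem hg) ht
    rw [hset]
    rcases hc _ ht' with hm | hall
    · exact .inl ⟨_, hm, by group⟩
    · refine .inr ?_
      rintro _ ⟨s, hs, rfl⟩
      calc t * (g * s * g⁻¹) = g * (g⁻¹ * t * g * s) * g⁻¹ := by group
        _ = g * s * g⁻¹ * t := by rw [hall s hs]; group

/-- The transvection of a member. -/
theorem exists_tv (h : Conf p V P T M A₀) {X : Subgroup G} (hX : Mem P A₀ X) :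
    ∃ t ∈ X, IsTv P A₀ t := by
  obtain ⟨t, ht, ht1⟩ := h.exists_ne_one hX
  exact ⟨t, ht, ht1, X, hX, ht⟩

/-- Every transvection of `T` has a noncommuting partner outside `M`. -/
theorem tv_partner (h : Conf p V P T M A₀) (h2 : Nat.card ↥A₀ = 2) {t : G} (ht : IsTv P A₀ t) (htT : t ∈ T) :
    ∃ b, IsTv P A₀ b ∧ b ∉ M ∧ tvF t (tvE V b) = 1 := by
  obtain ⟨ht1, X, hX, htX⟩ := ht
  have hXT : X ≤ T := fun x hx => by
    rcases mem_two h2 hX htX ht1 hx with rfl | rfl
    · exact one_mem T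
    · exact htT
  obtain ⟨hQ, -, hA⟩ := h.member_T hX hXT
  obtain ⟨B, hB, hBM⟩ := h.exists_adm_outside hQ
  have hns : ¬ SameCls P M (others P T A₀ X) X B := fun e => hBM (h.le_of_same hQ hA (hXT.trans h.hTM) e)
  obtain ⟨b, hb, hbM⟩ := SetLike.not_le_iff_exists.1 hBM
  have hbt : IsTv P A₀ b := ⟨fun e => hbM (e ▸ one_mem M), B, hB.mem, hb⟩
  refine ⟨b, hbt, hbM, (z2_cases _).resolve_left fun e => ?_⟩
  obtain ⟨-, hne, v, hv, he⟩ := h.tvE_spec hbt
  rw [← he] at hne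
  refine hne (h.free_cls hQ hB hA (fun hh => hns hh.symm) hv hb ?_)
  exact h.fix_eq hX (h.quad hQ hB hv hb).1 htX ht1 (he ▸ tvF_eq_zero.1 e)

theorem exists_block (h : Conf p V P T M A₀) (h2 : Nat.card ↥A₀ = 2) {t : G} (ht : IsTv P A₀ t) (htT : t ∈ T) :
    ∃ E ∈ twoBlocks V P A₀ T, t ∈ E ∧ ¬ E ≤ M := by
  obtain ⟨b, hb, hbM, htb⟩ := h.tv_partner h2 ht htT
  obtain ⟨n, u, x, hf, hc, hta, hbx⟩ := h.exists_closed h2 ht hb htb
  exact ⟨famGrp x, ⟨n, u, x, hf, hc, ⟨t, hta, htT⟩, rfl⟩, subset_closure hta,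
    fun e => hbM (e (subset_closure hbx))⟩

/-- Two different blocks centralize each other and each other's commutator spaces. -/
theorem twoBlocks_cross (h : Conf p V P T M A₀) (h2 : Nat.card ↥A₀ = 2) {E E' : Subgroup G}
    (hE : E ∈ twoBlocks V P A₀ T) (hE' : E' ∈ twoBlocks V P A₀ T) (hne : E ≠ E') :
    E ≤ centralizer (E' : Set G) ∧ ⁅V, E⁆ ≤ centralizer (E' : Set G) := by
  obtain ⟨n, u, x, hf, hc, -, rfl⟩ := hE
  obtain ⟨n', u', x', hf', hc', -, rfl⟩ := hE'
  have hcm : ∀ a ∈ famSet x, ∀ b ∈ famSet x', b * a = a * b := fun a ha b hb =>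
    ((hc b (famSet_tv hf' hb)).resolve_left fun hm =>
      hne (congrArg Subgroup.closure (h.closed_eq h2 hf hc hf' hc' hm hb))) a ha
  refine ⟨(closure_le _).2 fun a ha => le_centralizer_iff.1 ((closure_le _).2 fun b hb => ?_ :
    famGrp x' ≤ centralizer ((zpowers a : Subgroup G) : Set G)) (mem_zpowers a), ?_⟩
  · refine mem_centralizer_iff.2 fun z hz => ?_
    obtain ⟨k, rfl⟩ := mem_zpowers_iff.1 hz
    exact (Commute.zpow_left (hcm a ha b hb).symm k).eq
  rw [h.fam_bracket h2 hf]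
  refine (closure_le _).2 ?_
  rintro _ ⟨i, j, rfl⟩
  by_cases hij : i = j
  · subst hij
    rw [h.V_sq h2 (hf.mem i)]
    exact one_mem _
  refine le_centralizer_iff.1 ((closure_le _).2 fun b hb => ?_ :
    famGrp x' ≤ centralizer ((zpowers (u i * u j) : Subgroup G) : Set G)) (mem_zpowers _)
  refine mem_centralizer_iff.2 fun z hz => ?_
  obtain ⟨k, rfl⟩ := mem_zpowers_iff.1 hz
  have := (h.tv_comm_iff h2 (famSet_tv hf' hb) (hf.tv i j hij)).1 (hcm _ ⟨i, j, hij, rfl⟩ b hb)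
  rw [hf.centre i j hij] at this
  exact (Commute.zpow_left (tvF_eq_zero.1 this).symm k).eq

/-- A transvection centralizing all those of `T` lies in `T`. -/
theorem tv_max (h : Conf p V P T M A₀) {d : G} (hd : IsTv P A₀ d)
    (hc : ∀ s, IsTv P A₀ s → s ∈ T → d * s = s * d) (hT : ∀ s s', IsTv P A₀ s → s ∈ T → IsTv P A₀ s' →
      s' ∈ T → s * s' = s' * s) : d ∈ T := by
  classical
  haveI := Fintype.ofFinite G
  by_contra hdT
  set S := Finset.univ.filter fun s => IsTv P A₀ s ∧ s ∈ T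
  obtain ⟨g, hg, hgT⟩ := h.tv_sylow (S := ↑(insert d S)) (fun s hs => by
      simp only [Finset.coe_insert, Set.mem_insert_iff] at hs
      rcases hs with rfl | hs
      · exact hd
      · exact (Finset.mem_filter.1 hs).2.1)
    (fun s hs s' hs' => by
      simp only [Finset.coe_insert, Set.mem_insert_iff] at hs hs'
      rcases hs with rfl | hs <;> rcases hs' with rfl | hs'
      · rfl
      · exact hc s' (Finset.mem_filter.1 hs').2.1 (Finset.mem_filter.1 hs').2.2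
      · exact (hc s (Finset.mem_filter.1 hs).2.1 (Finset.mem_filter.1 hs).2.2).symm
      · exact hT s s' (Finset.mem_filter.1 hs).2.1 (Finset.mem_filter.1 hs).2.2
          (Finset.mem_filter.1 hs').2.1 (Finset.mem_filter.1 hs').2.2)
  have hsub : (insert d S).image (fun s => g⁻¹ * s * g) ⊆ S := by
    intro z hz
    obtain ⟨s, hs, rfl⟩ := Finset.mem_image.1 hz
    have htv : IsTv P A₀ s := by
      rcases Finset.mem_insert.1 hs with rfl | hs'
      · exact hd
      · exact (Finset.mem_filter.1 hs').2.1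
    exact Finset.mem_filter.2 ⟨Finset.mem_univ _, by simpa using conj_isTv_iff (inv_mem hg) htv,
      hgT s (Finset.mem_coe.2 hs)⟩
  have := Finset.card_le_card hsub
  rw [Finset.card_image_of_injective _ (fun a b e => by simpa using e),
    Finset.card_insert_of_notMem (fun hh => hdT (Finset.mem_filter.1 hh).2.2)] at this
  omega

theorem tv_comm_T (h : Conf p V P T M A₀) (h2 : Nat.card ↥A₀ = 2) {s s' : G} (hs : IsTv P A₀ s) (hsT : s ∈ T)
    (hs' : IsTv P A₀ s') (hs'T : s' ∈ T) : s * s' = s' * s := by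
  rcases eq_or_ne s' s with rfl | hne
  · rfl
  obtain ⟨K, -, k2, k3, -⟩ := h.tv_sep_T h2 hs hsT
  exact (h.tv_comm_iff h2 hs hs').2 (k2 _ (k3 s' hs' hs'T hne))

/-- The degree of a block. -/
theorem fam_degree (h : Conf p V P T M A₀) (h2 : Nat.card ↥A₀ = 2) {n : ℕ} {u : Fin n → G}
    {x : Fin n → Fin n → G} (hf : Fam V P A₀ n u x) (hc : Closed P A₀ x) {t₀ : G} (ht₀ : t₀ ∈ famSet x)
    (ht₀T : t₀ ∈ T) : ∃ k : ℕ, n = 2 ^ (k + 1) + 1 := by
  classical
  haveI := Fintype.ofFinite G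
  set S := Finset.univ.filter fun s => s ∈ famSet x ∧ s ∈ T with hS
  let D : G → Finset (Fin n) := fun s =>
    if hs : s ∈ famSet x then {hs.choose, hs.choose_spec.choose} else ∅
  have hD : ∀ s ∈ S, ∃ i j, i ≠ j ∧ s = x i j ∧ D s = {i, j} := by
    intro s hs
    have hs' := (Finset.mem_filter.1 hs).2.1
    exact ⟨_, _, hs'.choose_spec.choose_spec.1, hs'.choose_spec.choose_spec.2, dif_pos hs'⟩
  have hdisj : ∀ s ∈ S, ∀ s' ∈ S, s ≠ s' → Disjoint (D s) (D s') := by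
    intro s hs s' hs' hne
    obtain ⟨i, j, hij, es, eD⟩ := hD s hs
    obtain ⟨i', j', hij', es', eD'⟩ := hD s' hs'
    have hcomm := h.tv_comm_T h2 (famSet_tv hf (Finset.mem_filter.1 hs).2.1) (Finset.mem_filter.1 hs).2.2
      (famSet_tv hf (Finset.mem_filter.1 hs').2.1) (Finset.mem_filter.1 hs').2.2
    subst es es'
    rw [eD, eD', Finset.disjoint_left]
    have share : ∀ {a b c : Fin n}, a ≠ b → c ≠ a → x a b * x a c = x a c * x a b → x a b = x a c := by
      intro a b c hab hca e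
      by_contra hnd
      have hbc : b ≠ c := fun q => hnd (q ▸ rfl)
      exact h.fam_share h2 hf hab.symm hbc hca.symm (by rwa [h.fam_symm h2 hf hab])
    intro a ha ha'
    simp only [Finset.mem_insert, Finset.mem_singleton] at ha ha'
    have e1 : ∃ b, a ≠ b ∧ x i j = x a b := by
      rcases ha with rfl | rfl
      · exact ⟨j, hij, rfl⟩
      · exact ⟨i, hij.symm, (h.fam_symm h2 hf hij).symm⟩
    have e2 : ∃ c, a ≠ c ∧ x i' j' = x a c := by
      rcases ha' with rfl | rfl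
      · exact ⟨j', hij', rfl⟩
      · exact ⟨i', hij'.symm, (h.fam_symm h2 hf hij').symm⟩
    obtain ⟨b, hb, eb⟩ := e1
    obtain ⟨c, hc', ec⟩ := e2
    rw [eb, ec] at hcomm hne
    exact hne (share hb hc'.symm hcomm)
  set C := S.biUnion D with hC
  have hcardC : C.card = 2 * S.card := by
    rw [hC, Finset.card_biUnion hdisj, Finset.sum_const_nat (m := 2) ?_, mul_comm]
    intro s hs
    obtain ⟨i, j, hij, -, eD⟩ := hD s hs
    rw [eD, Finset.card_pair hij]
  have hcover : Cᶜ.card ≤ 1 := by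
    rw [Finset.card_le_one]
    intro i hi j hj
    by_contra hij
    rw [Finset.mem_compl] at hi hj
    have hd := hf.tv i j hij
    have hall : ∀ s, IsTv P A₀ s → s ∈ T → x i j * s = s * x i j := by
      intro s hs hsT
      rcases hc s hs with hm | hall
      · have hsS : s ∈ S := Finset.mem_filter.2 ⟨Finset.mem_univ _, hm, hsT⟩
        obtain ⟨a, b, hab, rfl, eD⟩ := hD s hsS
        have hin : ∀ c ∈ ({a, b} : Finset (Fin n)), c ∈ C := fun c hc' =>
          Finset.mem_biUnion.2 ⟨_, hsS, eD ▸ hc'⟩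
        refine (h.tv_comm_iff h2 hd hs).2 ?_
        have hia : i ≠ a := fun q => hi (by rw [q]; exact hin a (by simp))
        have hja : j ≠ a := fun q => hj (by rw [q]; exact hin a (by simp))
        have hib : i ≠ b := fun q => hi (by rw [q]; exact hin b (by simp))
        have hjb : j ≠ b := fun q => hj (by rw [q]; exact hin b (by simp))
        rw [h.fam_pair h2 hf hij hab, dl_ne hia, dl_ne hja, dl_ne hib, dl_ne hjb]
        rfl
      · exact (hall _ ⟨i, j, hij, rfl⟩).symm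
    have hT' := h.tv_max hd hall (fun s s' a b c d => h.tv_comm_T h2 a b c d)
    have hsS : x i j ∈ S := Finset.mem_filter.2 ⟨Finset.mem_univ _, ⟨i, j, hij, rfl⟩, hT'⟩
    obtain ⟨a, b, hab, e, eD⟩ := hD _ hsS
    have hmem : i ∈ ({a, b} : Finset (Fin n)) := by
      by_contra hno
      simp only [Finset.mem_insert, Finset.mem_singleton, not_or] at hno
      by_cases hja : j = a
      · exact hno.2 (h.fam_inj_left h2 hf (Ne.symm hno.1) hab (by
          rw [← e, ← hja, h.fam_symm h2 hf hij]))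
      by_cases hjb : j = b
      · exact hno.1 (h.fam_inj_left h2 hf (Ne.symm hno.2) hab.symm (by
          rw [h.fam_symm h2 hf hab, ← e, ← hjb, h.fam_symm h2 hf hij]))
      exact hf.disj i j a b hij hab hno.1 hno.2 hja hjb e
    exact hi (Finset.mem_biUnion.2 ⟨_, hsS, eD ▸ hmem⟩)
  -- the stabilizer of the family acts transitively
  let H : Subgroup G :=
    { carrier := {g | g ∈ T ∧ ∀ s, s ∈ famSet x ↔ g * s * g⁻¹ ∈ famSet x}
      one_mem' := ⟨one_mem T, fun s => by simp⟩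
      mul_mem' := fun {a b} ha hb => ⟨mul_mem ha.1 hb.1, fun s => by
        rw [hb.2 s, ha.2 (b * s * b⁻¹), show a * (b * s * b⁻¹) * a⁻¹ = a * b * s * (a * b)⁻¹ by group]⟩
      inv_mem' := fun {a} ha => ⟨inv_mem ha.1, fun s => by
        rw [ha.2 (a⁻¹ * s * a⁻¹⁻¹), show a * (a⁻¹ * s * a⁻¹⁻¹) * a⁻¹ = s by group]⟩ }
  letI : MulAction ↥H G := MulAction.compHom G ((MulAut.conj : G →* MulAut G).comp H.subtype)
  have horb : MulAction.orbit ↥H t₀ = (S : Set G) := by
    ext s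
    constructor
    · rintro ⟨g, rfl⟩
      refine Finset.mem_coe.2 (Finset.mem_filter.2 ⟨Finset.mem_univ _, ?_, ?_⟩)
      · exact (g.2.2 t₀).1 ht₀
      · exact mul_mem (mul_mem g.2.1 ht₀T) (inv_mem g.2.1)
    · intro hs
      obtain ⟨-, hsF, hsT⟩ := Finset.mem_filter.1 (Finset.mem_coe.1 hs)
      obtain ⟨ht1, X, hX, htX⟩ := famSet_tv hf ht₀
      obtain ⟨hs1, Y, hY, hsY⟩ := famSet_tv hf hsF
      have hle : ∀ {Z : Subgroup G} {z : G}, Mem P A₀ Z → z ∈ Z → z ≠ 1 → z ∈ T → Z ≤ T :=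
        fun hZ hz hz1 hzT w hw => by
          rcases mem_two h2 hZ hz hz1 hw with rfl | rfl
          · exact one_mem T
          · exact hzT
      obtain ⟨t, ht, e⟩ := h.conj_T hX (hle hX htX ht1 ht₀T) hY (hle hY hsY hs1 hsT)
      have est : t * t₀ * t⁻¹ = s := by
        have hm : t * t₀ * t⁻¹ ∈ Y := e ▸ ⟨t₀, htX, rfl⟩
        refine (mem_two h2 hY hsY hs1 hm).resolve_left fun q => ht1 ?_
        exact conj_eq_one_iff.1 q
      obtain ⟨hf', hc', hset⟩ := h.fam_conj h2 hf hc (h.hTP ht)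
      have heq := h.closed_eq h2 hf hc hf' hc' hsF (by rw [hset]; exact ⟨t₀, ht₀, est⟩)
      refine ⟨⟨t, ht, fun z => ?_⟩, est⟩
      constructor
      · intro hz; rw [heq, hset]; exact ⟨z, hz, rfl⟩
      · intro hz
        rw [heq, hset] at hz
        obtain ⟨z', hz', ez⟩ := hz
        have : z' = z := by simpa using ez
        exact this ▸ hz'
  have hHp : IsPGroup p ↥H := h.hTp.to_le fun g hg => hg.1
  obtain ⟨k, hk⟩ := hHp.card_orbit t₀
  rw [horb, h.p_eq_two h2, Nat.card_coe_set_eq, Set.ncard_coe_finset] at hk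
  refine ⟨k, ?_⟩
  obtain ⟨m, hm⟩ := h.fam_odd h2 hf hc
  rw [Finset.card_compl, Fintype.card_fin] at hcover
  have hle : C.card ≤ n := (Finset.card_le_univ _).trans_eq (Fintype.card_fin n)
  rw [pow_succ, ← hk]
  omega

/-- The blocks when the offenders have order two. -/
theorem blocks_two (h : Conf p V P T M A₀) (h2 : Nat.card ↥A₀ = 2) :
    Blocks p V P T (twoBlocks V P A₀ T) := by
  obtain ⟨X, hX, hXT⟩ := h.exists_member_T
  obtain ⟨t, htX, ht⟩ := h.exists_tv hX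
  obtain ⟨E₀, hE₀, -, hE₀M⟩ := h.exists_block h2 ht (hXT htX)
  have hgrp : ∀ {n : ℕ} (x : Fin n → Fin n → G) (g : G),
      cj g (famGrp x) = closure ((fun t => g * t * g⁻¹) '' famSet x) := fun x g => MonoidHom.map_closure _ _
  have hconj : ∀ {g : G}, g ∈ T → ∀ E ∈ twoBlocks V P A₀ T, cj g E ∈ twoBlocks V P A₀ T := by
    rintro g hg E ⟨n, u, x, hf, hc, ⟨s, hs, hsT⟩, rfl⟩
    obtain ⟨hf', hc', hset⟩ := h.fam_conj h2 hf hc (h.hTP hg)
    exact ⟨n, _, _, hf', hc', ⟨g * s * g⁻¹, hset ▸ ⟨s, hs, rfl⟩, mul_mem (mul_mem hg hsT) (inv_mem hg)⟩,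
      by rw [hgrp, famGrp, hset]⟩
  refine ⟨⟨E₀, hE₀⟩, ?_, fun E hE E' hE' hne => (h.twoBlocks_cross h2 hE hE' hne).1,
    fun E hE E' hE' hne => (h.twoBlocks_cross h2 hE hE' hne).2, ?_, ?_, ?_, ?_⟩
  · rintro E ⟨n, u, x, hf, -, -, rfl⟩
    exact h.famGrp_le hf
  · rintro E ⟨n, u, x, hf, hc, -, rfl⟩
    rw [h.fam_bracket h2 hf]
    exact h.fam_dec h2 hf (h.fam_odd h2 hf hc)
  · rintro E ⟨n, u, x, hf, hc, ⟨s, hs, hsT⟩, rfl⟩ E' ⟨n', u', x', hf', hc', ⟨s', hs', hs'T⟩, rfl⟩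
    obtain ⟨hs1, X, hX, hsX⟩ := famSet_tv hf hs
    obtain ⟨hs'1, Y, hY, hsY⟩ := famSet_tv hf' hs'
    have hle : ∀ {Z : Subgroup G} {z : G}, Mem P A₀ Z → z ∈ Z → z ≠ 1 → z ∈ T → Z ≤ T :=
      fun hZ hz hz1 hzT w hw => by
        rcases mem_two h2 hZ hz hz1 hw with rfl | rfl
        · exact one_mem T
        · exact hzT
    obtain ⟨g, hg, e⟩ := h.conj_T hX (hle hX hsX hs1 hsT) hY (hle hY hsY hs'1 hs'T)
    have est : g * s * g⁻¹ = s' :=
      (mem_two h2 hY hsY hs'1 (e ▸ ⟨s, hsX, rfl⟩ : g * s * g⁻¹ ∈ Y)).resolve_left fun q =>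
        hs1 (conj_eq_one_iff.1 q)
    obtain ⟨hf'', hc'', hset⟩ := h.fam_conj h2 hf hc (h.hTP hg)
    refine ⟨g, hg, ?_⟩
    rw [hgrp, ← hset, h.closed_eq h2 hf'' hc'' hf' hc' (by rw [hset]; exact ⟨s, hs, est⟩) hs']
    rfl
  · refine h.gen_eq (sSup_le ?_) ?_ fun e => hE₀M ((le_sSup hE₀).trans e)
    · rintro E ⟨n, u, x, hf, -, -, rfl⟩
      exact h.famGrp_le hf
    · exact fun g hg => Core.mem_normalizer_iff_map_conj.2 (Subgroup.eq_of_le_of_card_ge
        (cj_le_iff.2 (sSup_le fun E hE => cj_le_iff.1 (le_sSup (hconj hg E hE)))) (card_cj _ _).ge)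
  · rintro E ⟨n, u, x, hf, hc, ⟨s, hs, hsT⟩, rfl⟩
    obtain ⟨k, rfl⟩ := h.fam_degree h2 hf hc hs hsT
    obtain ⟨hiso, hact⟩ := h.fam_block h2 hf (h.fam_odd h2 hf hc)
    exact ⟨k + 1, Nat.succ_pos k, .inr ⟨h.p_eq_two h2, hiso, hact⟩⟩

end Conf
end Cfsg.Lib.Local.PMinOff
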