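import Cfsg.Agent.Lib.Local.PMinOff.Big
import Cfsg.Agent.Lib.Local.PMinOff.Two

/-!
# Best offenders in `p`-minimal groups: the structure theorem
-/

set_option autoImplicit false
set_option linter.style.haveILetI false

namespace Cfsg.Lib.Local.PMinOff

open Subgroup
open scoped commutatorElement
open OffenderPair (fx)

variable {G : Type*} [Group G] [Finite G] {p : ℕ} [Fact p.Prime]

/-- The configuration of a `p`-minimal group with a best offender. -/
theorem exists_conf (V P : Subgroup G) (hV : Cfsg.IsElementaryAbelian p V)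
    (hPV : P ≤ normalizer (V : Set G)) (hfaith : P ⊓ centralizer (V : Set G) = ⊥)
    (hmin : Cfsg.IsPMinimal p ↥P) (T : Sylow p ↥P) (M : Subgroup ↥P) (hM : IsCoatom M)
    (hTM : (T : Subgroup ↥P) ≤ M) (hOp : Cfsg.pCore p ↥P = ⊥)
    (hoff : ∃ A : Subgroup G, A ≤ P ∧ ¬ A ≤ centralizer (V : Set G) ∧ Cfsg.IsBestOffenderOn p V A)
    (hCT : P ⊓ centralizer ((fx V ((T : Subgroup ↥P).map P.subtype) : Subgroup G) : Set G) ≤ M.map P.subtype) :
    ∃ A₀, Conf p V P ((T : Subgroup ↥P).map P.subtype) (M.map P.subtype) A₀ := by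
  classical
  haveI := Fintype.ofFinite (Subgroup G)
  obtain ⟨A, hAP, hAne, hbest, hcomm, hpow⟩ := hoff
  have hfA : ∀ a ∈ A, a ∈ centralizer (V : Set G) → a = 1 := fun a ha hc =>
    mem_bot.1 (hfaith ▸ mem_inf.2 ⟨hAP ha, hc⟩)
  have hA : Cfsg.IsElementaryAbelian p A := by
    refine ⟨⟨⟨fun a b => Subtype.ext ?_⟩⟩, fun a ha => hfA _ (pow_mem ha p) (hpow a ha)⟩
    exact commutatorElement_eq_one_iff_mul_comm.1 (hfA _
      (mul_mem (mul_mem (mul_mem a.2 b.2) (inv_mem a.2)) (inv_mem b.2)) (hcomm (commutator_mem_commutator a.2 b.2)))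
  obtain ⟨A₀, hA₀, hmin₀⟩ := (Finset.univ.filter fun B : Subgroup G => B ≤ A ∧ B ≠ ⊥ ∧
    Nat.card ↥V ≤ Nat.card ↥B * Nat.card ↥(fx V B)).exists_min_image (fun B : Subgroup G => Nat.card ↥B) ⟨A, by
      refine Finset.mem_filter.2 ⟨Finset.mem_univ _, le_rfl, fun e => hAne (e ▸ bot_le), ?_⟩
      have h1 := hbest ⊥ bot_le
      rw [Subgroup.card_bot, one_mul] at h1
      refine le_trans (card_le_of_le (le_inf le_rfl fun v _ => mem_centralizer_iff.2 fun x hx => ?_)) h1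
      rw [Subgroup.coe_bot, Set.mem_singleton_iff] at hx
      rw [hx, one_mul, mul_one]⟩
  obtain ⟨hA₀A, hA₀ne, hA₀b⟩ := (Finset.mem_filter.1 hA₀).2
  haveI := hA.1
  refine ⟨A₀, hV, hPV, hfaith, map_subtype_le _, T.isPGroup'.map _, ?_, ?_, Subgroup.map_mono hTM, ?_, ?_, ?_,
    hCT, hA₀A.trans hAP, ⟨⟨⟨fun a b => Subtype.ext ?_⟩⟩, fun a ha => hA.2 a (hA₀A ha)⟩, hA₀ne, hA₀b, ?_⟩
  · intro U hU hUp
    obtain ⟨S, hS⟩ := (hUp.comap_of_injective P.subtype P.subtype_injective :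
      IsPGroup p ↥(U.subgroupOf P)).exists_le_sylow
    obtain ⟨g, hg⟩ := MulAction.exists_smul_eq ↥P T S
    refine ⟨g, g.2, fun x hx => ?_⟩
    have h1 : (⟨x, hU hx⟩ : ↥P) ∈ (g • T : Sylow p ↥P) := hg ▸ hS (mem_subgroupOf.2 hx)
    obtain ⟨s, hs, hsx⟩ := h1
    exact ⟨s, ⟨s, hs, rfl⟩, congrArg Subtype.val hsx⟩
  · refine lt_of_le_of_ne (map_subtype_le _) fun e => hM.1 (Subgroup.map_injective P.subtype_injective ?_)
    rw [e, ← MonoidHom.range_eq_map, Subgroup.range_subtype]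
  · intro K hK hTK
    rcases eq_top_or_exists_le_coatom (K.subgroupOf P) with e | ⟨M', hM', hle⟩
    · exact .inr (le_antisymm hK (subgroupOf_eq_top.1 e))
    · have hTM' : (T : Subgroup ↥P) ≤ M' := fun t ht => hle (mem_subgroupOf.2 (hTK ⟨t, ht, rfl⟩))
      have e : M' = M := (hmin T).2.unique ⟨hM', hTM'⟩ ⟨hM, hTM⟩
      exact .inl fun x hx => ⟨⟨x, hK hx⟩, e ▸ hle (mem_subgroupOf.2 hx), rfl⟩
  · intro hn
    refine (hmin T).1 ⟨fun t ht g => ?_⟩
    obtain ⟨t', ht', e⟩ := (mem_normalizer_iff.1 (hn g.2) (t : G)).1 ⟨t, ht, rfl⟩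
    have e' : t' = g * t * g⁻¹ := Subtype.ext e
    exact e' ▸ ht'
  · intro U hU hUp hUn
    haveI : (U.subgroupOf P).Normal := (Subgroup.normal_subgroupOf_iff_le_normalizer hU).2 hUn
    have := Core.le_pCore (N := U.subgroupOf P)
      (hUp.comap_of_injective P.subtype P.subtype_injective : IsPGroup p ↥(U.subgroupOf P))
    rw [hOp, le_bot_iff, subgroupOf_eq_bot, disjoint_iff, inf_eq_left.2 hU] at this
    exact this
  · exact congrArg (Subtype.val : ↥A → G) (mul_comm' (⟨a, hA₀A a.2⟩ : ↥A) ⟨b, hA₀A b.2⟩)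
  · intro B hB hB0 hBne
    by_contra hnlt
    push Not at hnlt
    have hle := hmin₀ B (Finset.mem_filter.2 ⟨Finset.mem_univ _, hB.trans hA₀A, hB0, hA₀b.trans hnlt⟩)
    exact hBne (Subgroup.eq_of_le_of_card_ge hB hle)

/-- The structure theorem. -/
theorem structure_theorem {V P T M A₀ : Subgroup G} (h : Conf p V P T M A₀) :
    ∃ 𝔅 : Set (Subgroup G), Blocks p V P T 𝔅 := by
  have h1 : 1 < Nat.card ↥A₀ := (Subgroup.one_lt_card_iff_ne_bot A₀).2 h.hA₀ne
  by_cases hq : Nat.card ↥A₀ = 2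
  · exact ⟨_, h.blocks_two hq⟩
  · exact ⟨_, h.blocks_big (by omega)⟩

end Cfsg.Lib.Local.PMinOff
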