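import Cfsg.Agent.Lib.Local.PMinOff.Basic
import Cfsg.Agent.Lib.Local.OffenderPairModule
import Cfsg.Agent.Lib.Local.Sylow

/-!
# Best offenders in `p`-minimal groups: pairs of members

A member in `M` and one outside `M`, both normalizing `Q`, generate a minimal pair, and a `p`-subgroup of `M`
normalized by both centralizes both.
-/

set_option autoImplicit false
set_option linter.style.haveILetI false

namespace Cfsg.Lib.Local.PMinOff

open Subgroup
open scoped commutatorElement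
open OffenderPair (fx)
open TrapPair (mem_cj cj_cj cj_one cj_eq_of_mem cj_le)

variable {G : Type*} [Group G] {p : ℕ} {V P T M A₀ Q A B X : Subgroup G}

local notation:max "cj" g:max K:max => Subgroup.map (MulEquiv.toMonoidHom (MulAut.conj g)) K

/-- The facts about a pair. -/
structure PF (V A B : Subgroup G) : Prop where
  eV : Nat.card ↥V = Nat.card ↥A * Nat.card ↥(fx V A)
  eH : Nat.card ↥(fx V A) = Nat.card ↥A * Nat.card ↥(fx V (A ⊔ B))
  span : V ≤ fx V A ⊔ fx V B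
  quad : ∀ v ∈ V, ∀ a ∈ A, ⁅v, a⁆ ∈ fx V A
  cover : ∀ v ∈ V, v ∉ fx V A → ∀ c ∈ fx V A, ∃ a ∈ A, c * ⁅v, a⁆⁻¹ ∈ fx V (A ⊔ B)
  free : ∀ v ∈ V, ∀ a ∈ A, a ≠ 1 → ⁅v, a⁆ ∈ fx V (A ⊔ B) → v ∈ fx V A

theorem fx_sup (V A B : Subgroup G) : fx V (A ⊔ B) = fx V A ⊓ fx V B := by
  refine le_antisymm (le_inf (inf_le_inf_left V (centralizer_le ?_)) (inf_le_inf_left V (centralizer_le ?_))) ?_
  · exact_mod_cast (le_sup_left : A ≤ A ⊔ B)
  · exact_mod_cast (le_sup_right : B ≤ A ⊔ B)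
  · exact le_inf (inf_le_left.trans inf_le_left) (le_centralizer_iff.1 (sup_le
      (le_centralizer_iff.1 (inf_le_left.trans inf_le_right))
      (le_centralizer_iff.1 (inf_le_right.trans inf_le_right))))

theorem fx_mono {V A B : Subgroup G} (h : A ≤ B) : fx V B ≤ fx V A :=
  inf_le_inf_left V (centralizer_le (by exact_mod_cast h))

theorem conj_bracket (g x y : G) : g * ⁅x, y⁆ * g⁻¹ = ⁅g * x * g⁻¹, g * y * g⁻¹⁆ := by
  simp only [commutatorElement_def]; group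

namespace Conf

/-- A `p`-subgroup of `M` fixes a vector moved by any subgroup outside `M`. -/
theorem exists_moved [Finite G] [Fact p.Prime] (h : Conf p V P T M A₀) {R L : Subgroup G} (hR : R ≤ M)
    (hRp : IsPGroup p ↥R) (hL : L ≤ P) (hLM : ¬ L ≤ M) : ∃ z ∈ fx V R, z ∉ fx V L := by
  obtain ⟨m, hm, hle⟩ := h.sylM hR hRp
  have hmP := h.hMP.le hm
  by_contra hno
  push Not at hno
  refine hLM fun l hl => ?_
  have : m⁻¹ * l * m ∈ P ⊓ centralizer ((fx V T : Subgroup G) : Set G) := by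
    refine mem_inf.2 ⟨mul_mem (mul_mem (inv_mem hmP) (hL hl)) hmP, mem_centralizer_iff.2 fun t ht => ?_⟩
    have hz : m * t * m⁻¹ ∈ fx V (cj m T) := by
      rw [h.fx_cj hmP]; exact ⟨t, ht, rfl⟩
    have := mem_centralizer_iff.1 (hno _ (fx_mono hle hz)).2 l hl
    calc t * (m⁻¹ * l * m) = m⁻¹ * (m * t * m⁻¹ * l) * m := by group
      _ = m⁻¹ * l * m * t := by rw [← this]; group
  have := mul_mem (mul_mem hm (h.hCT this)) (inv_mem hm)
  simpa [mul_assoc] using this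

theorem pf_conj (h : Conf p V P T M A₀) (hf : PF V A B) {g : G} (hg : g ∈ P) :
    PF V (cj g A) (cj g B) := by
  have hVg : cj g V = V := h.cj_V hg
  have e : cj g A ⊔ cj g B = cj g (A ⊔ B) := (Subgroup.map_sup _ _ _).symm
  have hback : ∀ {v : G}, v ∈ V → g⁻¹ * v * g ∈ V := fun {v} hv => by
    simpa using h.conj_mem_V (inv_mem hg) hv
  refine ⟨?_, ?_, ?_, ?_, ?_, ?_⟩
  · rw [card_cj, h.card_fx_cj hg]; exact hf.eV
  · rw [e, card_cj, h.card_fx_cj hg, h.card_fx_cj hg]; exact hf.eH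
  · rw [h.fx_cj hg, h.fx_cj hg, ← Subgroup.map_sup]
    exact hVg.ge.trans (Subgroup.map_mono hf.span)
  · intro v hv a ha
    rw [mem_cj] at ha
    rw [h.mem_fx_cj hg]
    have := hf.quad _ (hback hv) _ ha
    rwa [show ⁅g⁻¹ * v * g, g⁻¹ * a * g⁆ = g⁻¹ * ⁅v, a⁆ * g by simp only [commutatorElement_def]; group] at this
  · intro v hv hvA c hc
    obtain ⟨a, ha, hz⟩ := hf.cover _ (hback hv) (fun hh => hvA ((h.mem_fx_cj hg).2 hh)) _ ((h.mem_fx_cj hg).1 hc)
    refine ⟨g * a * g⁻¹, ⟨a, ha, rfl⟩, ?_⟩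
    rw [e, h.mem_fx_cj hg]
    convert hz using 1
    simp only [commutatorElement_def]; group
  · intro v hv a ha ha1 hz
    rw [mem_cj] at ha
    rw [e, h.mem_fx_cj hg] at hz
    refine (h.mem_fx_cj hg).2 (hf.free _ (hback hv) _ ha (fun e1 => ha1 ?_) ?_)
    · calc a = g * (g⁻¹ * a * g) * g⁻¹ := by group
        _ = 1 := by rw [e1]; group
    · convert hz using 1
      simp only [commutatorElement_def]; group

end Conf

/-- A minimal pair `A`, `A^y`. -/
structure Frame (p : ℕ) (V P T M A₀ Q A : Subgroup G) (y : G) : Prop where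
  hQ : MaxQ p P M A₀ Q
  hA : Adm P A₀ Q A
  hAM : A ≤ M
  hy : y ∈ P
  hyn : y ∈ normalizer (Q : Set G)
  hyM : y ∉ M
  hyL : y ∈ A ⊔ cj y A
  data : ∃ T₀ R : Subgroup G, OffenderPair.Data p V (A ⊔ cj y A) A ((A ⊔ cj y A) ⊓ M) T₀ R ∧
    ∀ N : Subgroup ↥(A ⊔ cj y A), N.Normal → IsPGroup p ↥N → N.map (A ⊔ cj y A).subtype ≤ T₀

namespace Conf

/-- Minimal pairs exist below every pair. -/
theorem exists_frame [Finite G] [Fact p.Prime] (h : Conf p V P T M A₀) (hQ : MaxQ p P M A₀ Q)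
    (hA : Adm P A₀ Q A) (hAM : A ≤ M) {x : G} (hx : x ∈ P) (hxn : x ∈ normalizer (Q : Set G)) (hxM : x ∉ M) :
    ∃ y, Frame p V P T M A₀ Q A y ∧ A ⊔ cj y A ≤ A ⊔ cj x A := by
  classical
  have hex : ∃ n : ℕ, ∃ y ∈ P, y ∈ normalizer (Q : Set G) ∧ y ∉ M ∧ A ⊔ cj y A ≤ A ⊔ cj x A ∧
      Nat.card ↥(A ⊔ cj y A : Subgroup G) = n := ⟨_, x, hx, hxn, hxM, le_rfl, rfl⟩
  obtain ⟨y, hy, hyn, hyM, hle, hcard⟩ := Nat.find_spec hex
  set L := A ⊔ cj y A with hL
  have hAP := h.mem_le hA.mem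
  have hLP : L ≤ P := sup_le hAP (cj_le hy hAP)
  have hLQ : L ≤ normalizer (Q : Set G) := sup_le hA.norm (adm_conj_normalizer hA hy hyn).norm
  have hnotle : ¬ L ≤ M := fun e => h.not_le_of_not_mem hQ hA hAM hy hyn hyM (le_sup_right.trans e)
  have hgenL : ∀ z ∈ L, z ∉ M → A ⊔ cj z A = L := by
    intro z hz hzM
    have hsub : A ⊔ cj z A ≤ L := sup_le le_sup_left (cj_le hz le_sup_left)
    refine Subgroup.eq_of_le_of_card_ge hsub ?_
    rw [hcard]
    exact Nat.find_min' hex ⟨z, hLP hz, hLQ hz, hzM, hsub.trans hle, rfl⟩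
  obtain ⟨y', hy'L, hy'M⟩ := SetLike.not_le_iff_exists.1 hnotle
  have eL : A ⊔ cj y' A = L := hgenL y' hy'L hy'M
  refine ⟨y', ⟨hQ, hA, hAM, hLP hy'L, hLQ hy'L, hy'M, eL.symm ▸ hy'L, ?_⟩, eL.le.trans hle⟩
  rw [eL]
  set X := L ⊓ M with hXdef
  have hAX : A ≤ X := le_inf le_sup_left hAM
  obtain ⟨S, hS⟩ := ((h.mem_pgroup hA.mem).comap_of_injective X.subtype X.subtype_injective :
    IsPGroup p ↥(A.subgroupOf X)).exists_le_sylow
  set T₀ := (S : Subgroup ↥X).map X.subtype with hT₀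
  have hAT₀ : A ≤ T₀ := fun a ha => ⟨⟨a, hAX ha⟩, hS (mem_subgroupOf.2 ha), rfl⟩
  have hT₀X : T₀ ≤ X := map_subtype_le _
  have hT₀p : IsPGroup p ↥T₀ := S.isPGroup'.map _
  let K : Subgroup G :=
    { carrier := {l | l ∈ L ∧ ∀ z ∈ L, z⁻¹ * l * z ∈ M}
      one_mem' := ⟨one_mem _, fun z _ => by simp⟩
      mul_mem' := fun {a b} ha hb => ⟨mul_mem ha.1 hb.1, fun z hz => by
        rw [show z⁻¹ * (a * b) * z = z⁻¹ * a * z * (z⁻¹ * b * z) by group]
        exact mul_mem (ha.2 z hz) (hb.2 z hz)⟩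
      inv_mem' := fun {a} ha => ⟨inv_mem ha.1, fun z hz => by
        rw [show z⁻¹ * a⁻¹ * z = (z⁻¹ * a * z)⁻¹ by group]
        exact inv_mem (ha.2 z hz)⟩ }
  have hKX : K ≤ X := fun l hl => mem_inf.2 ⟨hl.1, by simpa using hl.2 1 (one_mem L)⟩
  have hKn : L ≤ normalizer (K : Set G) := le_normalizer_iff.2 fun z hz l hl =>
    ⟨mul_mem (mul_mem hz hl.1) (inv_mem hz), fun w hw => by
      rw [show w⁻¹ * (z * l * z⁻¹) * w = (z⁻¹ * w)⁻¹ * l * (z⁻¹ * w) by group]
      exact hl.2 _ (mul_mem (inv_mem hz) hw)⟩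
  set R := T₀ ⊓ K with hR
  have hRp : IsPGroup p ↥R := hT₀p.to_le inf_le_left
  haveI hKnX : (K.subgroupOf X).Normal :=
    (Subgroup.normal_subgroupOf_iff_le_normalizer hKX).2 (inf_le_left.trans hKn)
  have hndvd : ¬ p ∣ (R.subgroupOf K).index := by
    have h1 := Local.not_dvd_relIndex_of_normal S (K.subgroupOf X)
    rw [show (S : Subgroup ↥X) = T₀.subgroupOf X by
      rw [hT₀, subgroupOf, Subgroup.comap_map_eq_self_of_injective X.subtype_injective],
      relIndex_subgroupOf hKX] at h1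
    rw [hR, ← relIndex, inf_relIndex_right]
    exact h1
  have hRL : L ≤ normalizer (R : Set G) := by
    have hAR : A ≤ normalizer (R : Set G) := le_normalizer_iff.2 fun a ha r hr =>
      mem_inf.2 ⟨mul_mem (mul_mem (hAT₀ ha) hr.1) (inv_mem (hAT₀ ha)),
        le_normalizer_iff.1 hKn a (mem_sup_left ha) r hr.2⟩
    set SR := (hRp.comap_of_injective K.subtype K.subtype_injective :
      IsPGroup p ↥(R.subgroupOf K)).toSylow hndvd with hSR
    have hex2 : ∃ z ∈ L, z ∈ normalizer (R : Set G) ∧ z ∉ M := by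
      by_contra hno
      push Not at hno
      refine hnotle fun z hz => ?_
      have hzR : cj z R ≤ K := fun _ hx => by
        obtain ⟨r, hr, rfl⟩ := hx
        exact le_normalizer_iff.1 hKn z hz r hr.2
      obtain ⟨S', hS'⟩ := ((hRp.map (MulAut.conj z).toMonoidHom).comap_of_injective K.subtype
        K.subtype_injective : IsPGroup p ↥((cj z R).subgroupOf K)).exists_le_sylow
      obtain ⟨n, hn⟩ := MulAction.exists_smul_eq ↥K SR S'
      have hle' : cj z R ≤ cj (n : G) R := by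
        intro x hx
        have h1 : (⟨x, hzR hx⟩ : ↥K) ∈ (n • SR : Sylow p ↥K) := hn ▸ hS' (mem_subgroupOf.2 hx)
        obtain ⟨s, hs, hsx⟩ := h1
        exact ⟨s, mem_subgroupOf.1 hs, congrArg Subtype.val hsx⟩
      have heq : cj z R = cj (n : G) R :=
        Subgroup.eq_of_le_of_card_ge hle' (by rw [card_cj, card_cj])
      have hzn : (n : G)⁻¹ * z ∈ normalizer (R : Set G) := by
        rw [Core.mem_normalizer_iff_map_conj, ← cj_cj, heq, cj_inv_cj]
      have hnL : (n : G) ∈ L := n.2.1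
      have := mul_mem (hKX n.2).2 (hno _ (mul_mem (inv_mem hnL) hz) hzn)
      simpa using this
    obtain ⟨z, hz, hzR, hzM⟩ := hex2
    rw [← hgenL z hz hzM]
    refine sup_le hAR ?_
    have h2 := cj_le_normalizer (g := z) hAR
    rwa [cj_normalizer hzR] at h2
  refine ⟨T₀, R, ⟨h.hV, hLP.trans h.hPV, le_bot_iff.1 ((inf_le_inf_right _ hLP).trans h.hfaith.le),
    lt_of_le_of_ne inf_le_left (fun e => hnotle (e.ge.trans inf_le_right)), hT₀X, hAT₀, h.mem_elem hA.mem,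
    h.mem_bound hA.mem, h.mem_strict hA.mem, ?_, fun z hz hzX => hgenL z hz (fun e => hzX (mem_inf.2 ⟨hz, e⟩)),
    inf_le_left, hRL, ?_⟩, ?_⟩
  · obtain ⟨v, hv, hvL⟩ := h.exists_moved (hT₀X.trans inf_le_right) hT₀p hLP hnotle
    exact ⟨v, fx_mono hAT₀ hv, centralizer_le (by exact_mod_cast (inf_le_left : R ≤ T₀)) hv.2, hvL⟩
  · intro a ha hall
    refine mem_inf.2 ⟨ha, (hT₀X ha).1, fun z hz => ?_⟩
    by_cases hzM : z ∈ M
    · exact mul_mem (mul_mem (inv_mem hzM) (hT₀X ha).2) hzM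
    · exact (hall z hz (fun e => hzM e.2)).2
  · intro N hN hNp
    set N' := N.map L.subtype
    have hAN : A ≤ normalizer (N' : Set G) := le_normalizer_iff.2 <| by
      rintro a ha _ ⟨w, hw, rfl⟩
      exact ⟨_, hN.conj_mem w hw ⟨a, mem_sup_left ha⟩, rfl⟩
    have hN'p : IsPGroup p ↥N' := hNp.map _
    have hQA : IsPGroup p ↥(N' ⊔ (Q ⊔ A) : Subgroup G) := by
      have hNQ : N' ≤ normalizer (Q : Set G) := (map_subtype_le N).trans hLQ
      have e : N' ⊔ (Q ⊔ A) = A ⊔ N' ⊔ Q := by rw [sup_comm Q A, ← sup_assoc, sup_comm N' A]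
      rw [e]
      exact ((h.mem_pgroup hA.mem).to_sup_of_normal_right' hN'p hAN).to_sup_of_normal_right' hQ.pg
        (sup_le hA.norm hNQ)
    obtain ⟨g, hg, hle'⟩ := h.hsyl _ (sup_le ((map_subtype_le N).trans hLP) (h.adm_sup_le hQ hA)) hQA
    have hle2 : N' ⊔ (Q ⊔ A) ≤ cj g M := hle'.trans (Subgroup.map_mono h.hTM)
    have hgM := h.mem_of_le_cj hQ hA hAM hg (le_sup_right.trans hle2)
    have hN'X : N' ≤ X := le_inf (map_subtype_le N) ((le_sup_left.trans hle2).trans (cj_M_of_mem hgM).le)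
    haveI : (N'.comap X.subtype).Normal := by
      show (N'.subgroupOf X).Normal
      refine (Subgroup.normal_subgroupOf_iff_le_normalizer hN'X).2 (le_normalizer_iff.2 ?_)
      rintro a ha _ ⟨w, hw, rfl⟩
      exact ⟨_, hN.conj_mem w hw ⟨a, ha.1⟩, rfl⟩
    have h1 : N'.subgroupOf X ≤ (S : Subgroup ↥X) :=
      (hN'p.comap_of_injective X.subtype X.subtype_injective : IsPGroup p ↥(N'.subgroupOf X)).le_sylow_of_normal S
    exact fun w hw => ⟨⟨w, hN'X hw⟩, h1 (mem_subgroupOf.2 hw), rfl⟩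

end Conf
end Cfsg.Lib.Local.PMinOff
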