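import Cfsg.Agent.Lib.Local.PMinOff.Lines

/-!
# Best offenders in `p`-minimal groups: rigidity

A `p`-subgroup of `M` normalized by both members of a pair centralizes both. Hence `M` contains one admissible
member only, and the admissible members of `Q` are the lines of one pair.
-/

set_option autoImplicit false
set_option linter.style.haveILetI false

namespace Cfsg.Lib.Local.PMinOff

open Subgroup
open scoped commutatorElement
open OffenderPair (fx)
open TrapPair (mem_cj cj_cj cj_one cj_eq_of_mem cj_le)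

variable {G : Type*} [Group G] {p : ℕ} {V P T M A₀ Q A B X Y : Subgroup G}

local notation:max "cj" g:max K:max => Subgroup.map (MulEquiv.toMonoidHom (MulAut.conj g)) K

theorem PF.exists_mem [Finite G] (hf : PF V A B) (hA : A ≠ ⊥) : ∃ d ∈ fx V A, d ∉ fx V (A ⊔ B) := by
  refine SetLike.not_le_iff_exists.1 fun e => ?_
  have h1 := hf.eH
  have h2 := card_le_of_le e
  have h3 := Nat.card_pos (α := ↥(fx V (A ⊔ B)))
  have h4 : 1 < Nat.card ↥A := (Subgroup.one_lt_card_iff_ne_bot A).2 hA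
  nlinarith

theorem bracket_mem_of_normalizer {W : Subgroup G} {w x : G} (hx : x ∈ normalizer (W : Set G)) (hw : w ∈ W) :
    ⁅w, x⁆ ∈ W := by
  rw [commutatorElement_def, mul_assoc w, mul_assoc w]
  exact mul_mem hw ((mem_normalizer_iff.1 hx _).1 (inv_mem hw))

namespace Conf

/-- An invariant subgroup outside the common fixed space covers `V` modulo it. -/
theorem pf_irr [Finite G] [Fact p.Prime] (h : Conf p V P T M A₀) (hf : PF V A B) (hf' : PF V B A)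
    (hA : Mem P A₀ A) (hB : Mem P A₀ B) {W : Subgroup G} (hWV : W ≤ V) (hAW : A ≤ normalizer (W : Set G))
    (hBW : B ≤ normalizer (W : Set G)) {w : G} (hw : w ∈ W) (hwC : w ∉ fx V (A ⊔ B)) :
    V ≤ W ⊔ fx V (A ⊔ B) := by
  have key : ∀ {A B : Subgroup G}, PF V A B → PF V B A → B ≤ normalizer (W : Set G) →
      (∃ w ∈ W, w ∈ fx V A ∧ w ∉ fx V (A ⊔ B)) → fx V B ≤ W ⊔ fx V (A ⊔ B) := by
    rintro A B hf hf' hBW ⟨w, hw, hwA, hwC⟩ d hd
    have hwB : w ∉ fx V B := fun e => hwC (by rw [fx_sup]; exact mem_inf.2 ⟨hwA, e⟩)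
    obtain ⟨b, hb, hz⟩ := hf'.cover w (hWV hw) hwB d hd
    rw [sup_comm B A] at hz
    have := mul_mem_sup (bracket_mem_of_normalizer (hBW hb) hw) hz
    rwa [h.comm_V (hf'.quad w (hWV hw) b hb).1 hz.1, inv_mul_cancel_right] at this
  obtain ⟨w₁, hw₁, hw₁A, hw₁C⟩ : ∃ w₁ ∈ W, w₁ ∈ fx V A ∧ w₁ ∉ fx V (A ⊔ B) := by
    by_cases hwA : w ∈ fx V A
    · exact ⟨w, hw, hwA, hwC⟩
    obtain ⟨a, ha, ha1⟩ := h.exists_ne_one hA
    exact ⟨_, bracket_mem_of_normalizer (hAW ha) hw, hf.quad w (hWV hw) a ha,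
      fun e => hwA (hf.free w (hWV hw) a ha ha1 e)⟩
  have hHB := key hf hf' hBW ⟨w₁, hw₁, hw₁A, hw₁C⟩
  obtain ⟨b, hb, hb1⟩ := h.exists_ne_one hB
  have hw₁B : w₁ ∉ fx V B := fun e => hw₁C (by rw [fx_sup]; exact mem_inf.2 ⟨hw₁A, e⟩)
  have hHA := key hf' hf hAW ⟨_, bracket_mem_of_normalizer (hBW hb) hw₁, hf'.quad w₁ (hWV hw₁) b hb,
    fun e => hw₁B (hf'.free w₁ (hWV hw₁) b hb hb1 e)⟩
  rw [sup_comm B A] at hHA
  exact hf.span.trans (sup_le hHA hHB)

theorem bracket_le_of_sup (h : Conf p V P T M A₀) {W C K : Subgroup G} (hWV : W ≤ V) (hCV : C ≤ V)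
    (hV : V ≤ W ⊔ C) (hCX : C ≤ centralizer (X : Set G)) (hK : ∀ w ∈ W, ∀ x ∈ X, ⁅w, x⁆ ∈ K) :
    ⁅V, X⁆ ≤ K := by
  refine commutator_le.2 fun v hv x hx => ?_
  have hWC : W ≤ normalizer (C : Set G) := le_normalizer_iff.2 fun a ha c hc => by
    rw [h.comm_V (hWV ha) (hCV hc), mul_inv_cancel_right]
    exact hc
  have hv' := hV hv
  rw [← SetLike.mem_coe, Subgroup.coe_mul_of_left_le_normalizer_right _ _ hWC] at hv'
  obtain ⟨w, hw, c, hc, rfl⟩ := Set.mem_mul.1 hv'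
  have hcx := mem_centralizer_iff.1 (hCX hc) x hx
  rw [show ⁅w * c, x⁆ = w * (c * x * c⁻¹) * w⁻¹ * x⁻¹ by simp only [commutatorElement_def]; group,
    ← hcx, mul_inv_cancel_right, ← commutatorElement_def]
  exact hK w hw x hx

theorem mem_mgen (h : Conf p V P T M A₀) (hX : Mem P A₀ X) {x : G} (hx : x ∈ X) : x ∈ mgen P A₀ P :=
  le_mgen hX (h.mem_le hX) hx

theorem fx_normalizer (h : Conf p V P T M A₀) {R : Subgroup G} {g : G} (hg : g ∈ P)
    (hn : g ∈ normalizer (R : Set G)) : g ∈ normalizer ((fx V R : Subgroup G) : Set G) := by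
  rw [Core.mem_normalizer_iff_map_conj, ← h.fx_cj hg, cj_normalizer hn]

/-- What a `p`-subgroup of `M` normalized by a pair satisfies. -/
structure Cent (V P A₀ A B R : Subgroup G) : Prop where
  commA : ∀ r ∈ R, ∀ a ∈ A, r * a = a * r
  commB : ∀ r ∈ R, ∀ b ∈ B, r * b = b * r
  brA : ⁅V, A⁆ ≤ fx V R
  brB : ⁅V, B⁆ ≤ fx V R
  brU : ⁅uu V P A₀, R⁆ ≤ fx V (A ⊔ B)

/-- A `p`-subgroup of `M` normalized by a pair centralizes it. -/
theorem centralise [Finite G] [Fact p.Prime] (h : Conf p V P T M A₀) (hQ : MaxQ p P M A₀ Q)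
    (hA : Adm P A₀ Q A) (hAM : A ≤ M) (hB : Adm P A₀ Q B) (hBM : ¬ B ≤ M) {R : Subgroup G} (hR : R ≤ M)
    (hRp : IsPGroup p ↥R) (hAR : A ≤ normalizer (R : Set G)) (hBR : B ≤ normalizer (R : Set G)) :
    Cent V P A₀ A B R := by
  have hns : ¬ SameCls P M Q A B := fun e => hBM (h.le_of_same hQ hA hAM e)
  have hf := h.pf hQ hA hB hns
  have hf' := h.pf hQ hB hA (fun e => hns e.symm)
  have hAP := h.mem_le hA.mem
  have hBP := h.mem_le hB.mem
  have hRP : R ≤ P := hR.trans h.hMP.le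
  obtain ⟨m, hm, hle⟩ := h.sylM (sup_le hAM hR) ((h.mem_pgroup hA.mem).to_sup_of_normal_right' hRp hAR)
  obtain ⟨z, hz, hzC⟩ := h.exists_moved (cj_le hm h.hTM) (h.hTp.map _) (sup_le hAP hBP)
    (fun e => hBM (le_sup_right.trans e))
  have hzR : z ∈ fx V R := fx_mono (le_sup_right.trans hle) hz
  have hWn : ∀ {X : Subgroup G}, X ≤ P → X ≤ normalizer (R : Set G) →
      X ≤ normalizer ((fx V R : Subgroup G) : Set G) := fun hXP hXR x hx => h.fx_normalizer (hXP hx) (hXR hx)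
  have hirr := h.pf_irr hf hf' hA.mem hB.mem inf_le_left (hWn hAP hAR) (hWn hBP hBR) hzR hzC
  have hbrA : ⁅V, A⁆ ≤ fx V R :=
    h.bracket_le_of_sup inf_le_left inf_le_left hirr ((fx_mono le_sup_left).trans inf_le_right)
      fun w hw x hx => bracket_mem_of_normalizer (hWn hAP hAR hx) hw
  have hbrB : ⁅V, B⁆ ≤ fx V R :=
    h.bracket_le_of_sup inf_le_left inf_le_left hirr ((fx_mono le_sup_right).trans inf_le_right)
      fun w hw x hx => bracket_mem_of_normalizer (hWn hBP hBR hx) hw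
  set U := uu V P A₀
  have hUV : U ≤ V := h.uu_le_V
  have hW'U : ⁅U, R⁆ ≤ U := Subgroup.le_normalizer_iff_commutator_le_left.mp (hRP.trans h.uu_normalizer)
  have hbrU : ⁅U, R⁆ ≤ fx V (A ⊔ B) := by
    by_contra hno
    obtain ⟨w, hw, hwC⟩ := SetLike.not_le_iff_exists.1 hno
    have hn : ∀ {X : Subgroup G}, X ≤ P → X ≤ normalizer (R : Set G) →
        X ≤ normalizer ((⁅U, R⁆ : Subgroup G) : Set G) := fun hXP hXR x hx => by
      rw [Core.mem_normalizer_iff_map_conj, Subgroup.map_commutator,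
        cj_normalizer (h.uu_normalizer (hXP hx)), cj_normalizer (hXR hx)]
    have hirr' := h.pf_irr hf hf' hA.mem hB.mem (hW'U.trans hUV) (hn hAP hAR) (hn hBP hBR) hw hwC
    refine h.not_bracket_le hm hB.mem hBM (le_trans ?_ (Subgroup.commutator_mono le_rfl (le_sup_right.trans hle)))
    exact h.bracket_le_of_sup (hW'U.trans hUV) inf_le_left hirr' ((fx_mono le_sup_right).trans inf_le_right)
      fun w hw x hx => bracket_mem_of_normalizer (hn hBP hBR hx) hw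
  have comm : ∀ {X : Subgroup G}, Mem P A₀ X → fx V (A ⊔ B) ≤ fx V X → ⁅V, X⁆ ≤ fx V R →
      ∀ r ∈ R, ∀ x ∈ X, r * x = x * r := by
    intro X hX hCX hbr r hr x hx
    have hrP := hRP hr
    have hxP := h.mem_le hX hx
    refine commutatorElement_eq_one_iff_mul_comm.1 (h.eq_one_of_stab
      (mul_mem (mul_mem (mul_mem hrP hxP) (inv_mem hrP)) (inv_mem hxP))
      (mem_centralizer_iff.2 fun u hu => ?_) fun v hv => ?_)
    · set u₀ := (x * r)⁻¹ * u * (x * r) with hu₀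
      have hu₀U : u₀ ∈ U := by
        have := (mem_normalizer_iff.1 (h.uu_normalizer (inv_mem (mul_mem hxP hrP))) u).1 hu
        rwa [inv_inv] at this
      have hc : ⁅u₀, r⁆ ∈ fx V X := hCX (hbrU (commutator_mem_commutator hu₀U hr))
      have he : ⁅u₀, x⁆ ∈ fx V R := hbr (commutator_mem_commutator (hUV hu₀U) hx)
      have e1 : r * x * u₀ * (r * x)⁻¹ = u := by
        have k1 := mem_centralizer_iff.1 he.2 r hr
        have k2 := mem_centralizer_iff.1 hc.2 x hx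
        have k3 := h.comm_V (inv_mem he.1) (inv_mem hc.1)
        calc r * x * u₀ * (r * x)⁻¹ = r * (⁅u₀, x⁆⁻¹ * u₀) * r⁻¹ := by
              simp only [commutatorElement_def]; group
          _ = (r * ⁅u₀, x⁆⁻¹ * r⁻¹) * (r * u₀ * r⁻¹) := by group
          _ = ⁅u₀, x⁆⁻¹ * (⁅u₀, r⁆⁻¹ * u₀) := by
              rw [(Commute.inv_right k1 : Commute r (⁅u₀, x⁆⁻¹)).eq, mul_inv_cancel_right]
              simp only [commutatorElement_def]; group
          _ = ⁅u₀, r⁆⁻¹ * ⁅u₀, x⁆⁻¹ * u₀ := by rw [← mul_assoc, k3]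
          _ = (x * ⁅u₀, r⁆⁻¹ * x⁻¹) * (x * u₀ * x⁻¹) := by
              rw [(Commute.inv_right k2 : Commute x (⁅u₀, r⁆⁻¹)).eq, mul_inv_cancel_right]
              simp only [commutatorElement_def]; group
          _ = u := by rw [hu₀]; simp only [commutatorElement_def]; group
      show u * ⁅r, x⁆ = ⁅r, x⁆ * u
      have e2 : u₀ = (x * r)⁻¹ * u * (x * r) := hu₀
      calc u * ⁅r, x⁆ = r * x * u₀ * (r * x)⁻¹ * ⁅r, x⁆ := by rw [e1]
        _ = ⁅r, x⁆ * u := by rw [e2]; simp only [commutatorElement_def]; group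
    · exact commutator_mem_commutator hv (mul_mem (h.mem_mgen (hX.conj hrP) ⟨x, hx, rfl⟩)
        (inv_mem (h.mem_mgen hX hx)))
  exact ⟨comm hA.mem (fx_mono le_sup_left) hbrA, comm hB.mem (fx_mono le_sup_right) hbrB, hbrA, hbrB, hbrU⟩

/-- The commutator space of a member comes from `uu`. -/
theorem mem_bracket [Finite G] [Fact p.Prime] (h : Conf p V P T M A₀) (hX : Mem P A₀ X) :
    ⁅V, X⁆ ≤ ⁅uu V P A₀, X⁆ := by
  obtain ⟨Q, hQ, hQT⟩ := h.exists_maxQ_le_T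
  obtain ⟨A, hA, -⟩ := h.exists_adm hQ hQT
  obtain ⟨B, hB, hns⟩ := h.exists_other hQ hA
  have hf := h.pf hQ hA hB hns
  have hf' := h.pf hQ hB hA (fun e => hns e.symm)
  set U := uu V P A₀
  obtain ⟨u, hu, huC⟩ : ∃ u ∈ U, u ∉ fx V (A ⊔ B) := by
    refine SetLike.not_le_iff_exists.1 fun e => ?_
    obtain ⟨a, ha, ha1⟩ := h.exists_ne_one hA.mem
    obtain ⟨v, hv, hne⟩ := h.exists_bracket_ne (h.mem_le hA.mem ha) ha1
    have := hf.free v hv a ha ha1 (e (h.bracket_le_uu hA.mem (commutator_mem_commutator hv ha)))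
    exact hne (commutatorElement_eq_one_iff_mul_comm.2 (mem_centralizer_iff.1 this.2 a ha).symm)
  have hirr := h.pf_irr hf hf' hA.mem hB.mem h.uu_le_V ((h.mem_le hA.mem).trans h.uu_normalizer)
    ((h.mem_le hB.mem).trans h.uu_normalizer) hu huC
  have h1 : ⁅V, A⁆ ≤ ⁅U, A⁆ := h.bracket_le_of_sup h.uu_le_V inf_le_left hirr
    ((fx_mono le_sup_left).trans inf_le_right) fun w hw x hx => commutator_mem_commutator hw hx
  obtain ⟨g, hg, eA⟩ := hA.mem
  obtain ⟨g', hg', rfl⟩ := hX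
  set k := g' * g⁻¹
  have hk : k ∈ P := mul_mem hg' (inv_mem hg)
  have e : cj g' A₀ = cj k A := by rw [eA, cj_cj]; simp [k]
  rw [e]
  have := Subgroup.map_mono (f := (MulAut.conj k).toMonoidHom) h1
  rwa [Subgroup.map_commutator, Subgroup.map_commutator, h.cj_V hk, cj_normalizer (h.uu_normalizer hk)] at this

/-- The subgroup generated by the admissible members. -/
abbrev LQ (P A₀ Q : Subgroup G) : Subgroup G := sSup {X | Adm P A₀ Q X}

theorem le_LQ (hX : Adm P A₀ Q X) : X ≤ LQ P A₀ Q := le_sSup hX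

theorem LQ_le (h : Conf p V P T M A₀) : LQ P A₀ Q ≤ P := sSup_le fun _ hX => h.mem_le hX.mem

theorem LQ_le_normalizer : LQ P A₀ Q ≤ normalizer (Q : Set G) := sSup_le fun _ hX => hX.norm

/-- The commutator space of a class together with the common fixed space. -/
def clsK (V P M A₀ Q X : Subgroup G) : Subgroup G :=
  sSup {W | ∃ Y, Adm P A₀ Q Y ∧ SameCls P M Q X Y ∧ W = ⁅V, Y⁆} ⊔ fx V (LQ P A₀ Q)

theorem clsK_le_fx [Finite G] [Fact p.Prime] (h : Conf p V P T M A₀) (hQ : MaxQ p P M A₀ Q)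
    (hX : Adm P A₀ Q X) (hY : Adm P A₀ Q Y) (hs : SameCls P M Q X Y) : clsK V P M A₀ Q X ≤ fx V Y := by
  refine sup_le (sSup_le ?_) (fx_mono (le_LQ hY))
  rintro W ⟨Y', hY', hs', rfl⟩
  exact commutator_le.2 fun v hv x hx => h.classfix hQ hY' hY (h.same_trans hQ hX hs'.symm hs) hv hx

theorem clsK_congr [Finite G] [Fact p.Prime] (h : Conf p V P T M A₀) (hQ : MaxQ p P M A₀ Q)
    (hX : Adm P A₀ Q X) (hs : SameCls P M Q X Y) : clsK V P M A₀ Q X ≤ clsK V P M A₀ Q Y := by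
  refine sup_le_sup_right (sSup_le ?_) _
  rintro W ⟨Y', hY', hs', rfl⟩
  exact le_sSup ⟨Y', hY', h.same_trans hQ hX hs.symm hs', rfl⟩

theorem bracket_mem_clsK (hY : Adm P A₀ Q Y) (hs : SameCls P M Q X Y) {v y : G} (hv : v ∈ V) (hy : y ∈ Y) :
    ⁅v, y⁆ ∈ clsK V P M A₀ Q X :=
  mem_sup_left (le_sSup (a := ⁅V, Y⁆) (⟨Y, hY, hs, rfl⟩ : ∃ Y', _) (commutator_mem_commutator hv hy))

theorem conj_clsK (h : Conf p V P T M A₀) {l w : G} (hl : l ∈ LQ P A₀ Q) (hw : w ∈ clsK V P M A₀ Q X) :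
    l * w * l⁻¹ ∈ clsK V P M A₀ Q (cj l X) := by
  have hlP := h.LQ_le hl
  have hln := LQ_le_normalizer hl
  suffices cj l (clsK V P M A₀ Q X) ≤ clsK V P M A₀ Q (cj l X) from this ⟨w, hw, rfl⟩
  rw [clsK, Subgroup.map_sup]
  refine sup_le (cj_le_iff.2 (sSup_le ?_)) (le_sup_of_le_right ?_)
  · rintro W ⟨Y, hY, hs, rfl⟩
    refine cj_le_iff.1 (le_sup_of_le_left (le_sSup ⟨cj l Y, adm_conj_normalizer hY hlP hln,
      same_conj hlP hln hs, ?_⟩))
    rw [Subgroup.map_commutator, h.cj_V hlP]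
  · rintro _ ⟨z, hz, rfl⟩
    show l * z * l⁻¹ ∈ fx V (LQ P A₀ Q)
    rw [mem_centralizer_iff.1 hz.2 l hl, mul_inv_cancel_right]
    exact hz

theorem clsK_le_V (h : Conf p V P T M A₀) : clsK V P M A₀ Q X ≤ V := by
  refine sup_le (sSup_le ?_) inf_le_left
  rintro W ⟨Y, hY, -, rfl⟩
  exact Subgroup.le_normalizer_iff_commutator_le_left.mp ((h.mem_le hY.mem).trans h.hPV)

theorem commute_of_cross (h : Conf p V P T M A₀) {x y : G} (hx : x ∈ P) (hy : y ∈ P)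
    (h1 : ∀ v ∈ V, y * ⁅v, x⁆ = ⁅v, x⁆ * y) (h2 : ∀ v ∈ V, x * ⁅v, y⁆ = ⁅v, y⁆ * x) : x * y = y * x := by
  refine commutatorElement_eq_one_iff_mul_comm.1 (mem_bot.1 (h.hfaith ▸ mem_inf.2
    ⟨mul_mem (mul_mem (mul_mem hx hy) (inv_mem hx)) (inv_mem hy), mem_centralizer_iff.2 fun v hv => ?_⟩))
  set u := (y * x)⁻¹ * v * (y * x) with hu
  have huV : u ∈ V := by
    have := h.conj_mem_V (inv_mem (mul_mem hy hx)) hv
    rwa [inv_inv] at this
  have hmem : ∀ {g : G}, g ∈ P → ⁅u, g⁆ ∈ V := fun {g} hg =>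
    Subgroup.le_normalizer_iff_commutator_le_left.mp h.hPV (commutator_mem_commutator huV hg)
  have k3 := h.comm_V (inv_mem (hmem hy)) (inv_mem (hmem hx))
  have e1 : x * y * u * (x * y)⁻¹ = v :=
    calc x * y * u * (x * y)⁻¹ = (x * ⁅u, y⁆⁻¹ * x⁻¹) * (x * u * x⁻¹) := by
          simp only [commutatorElement_def]; group
      _ = ⁅u, y⁆⁻¹ * (⁅u, x⁆⁻¹ * u) := by
          rw [(Commute.inv_right (h2 u huV) : Commute x (⁅u, y⁆⁻¹)).eq, mul_inv_cancel_right]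
          simp only [commutatorElement_def]; group
      _ = ⁅u, x⁆⁻¹ * ⁅u, y⁆⁻¹ * u := by rw [← mul_assoc, k3]
      _ = (y * ⁅u, x⁆⁻¹ * y⁻¹) * (y * u * y⁻¹) := by
          rw [(Commute.inv_right (h1 u huV) : Commute y (⁅u, x⁆⁻¹)).eq, mul_inv_cancel_right]
          simp only [commutatorElement_def]; group
      _ = v := by rw [hu]; simp only [commutatorElement_def]; group
  show v * ⁅x, y⁆ = ⁅x, y⁆ * v
  calc v * ⁅x, y⁆ = x * y * u * (x * y)⁻¹ * ⁅x, y⁆ := by rw [e1]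
    _ = ⁅x, y⁆ * v := by rw [hu]; simp only [commutatorElement_def]; group

theorem pow_fix (h : Conf p V P T M A₀) {g v : G} (hz : ⁅v, g⁆ ∈ V) (hgz : g * ⁅v, g⁆ = ⁅v, g⁆ * g) :
    g ^ p * v = v * g ^ p := by
  set z := ⁅v, g⁆⁻¹ with hzdef
  have hgz' : g * z * g⁻¹ = z := by
    rw [hzdef, (Commute.inv_right hgz : Commute g (⁅v, g⁆⁻¹)).eq, mul_inv_cancel_right]
  have hgv : g * v * g⁻¹ = z * v := by rw [hzdef, commutatorElement_def]; group
  have hpow : ∀ k : ℕ, g ^ k * v * (g ^ k)⁻¹ = z ^ k * v := by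
    intro k
    induction k with
    | zero => simp
    | succ k ih =>
      rw [pow_succ' g k, _root_.mul_inv_rev,
        show g * g ^ k * v * ((g ^ k)⁻¹ * g⁻¹) = g * (g ^ k * v * (g ^ k)⁻¹) * g⁻¹ by group, ih,
        show g * (z ^ k * v) * g⁻¹ = (g * z * g⁻¹) ^ k * (g * v * g⁻¹) by rw [conj_pow]; group,
        hgz', hgv, pow_succ, mul_assoc]
  have := hpow p
  rw [h.hV.2 z (inv_mem hz), one_mul] at this
  exact mul_inv_eq_iff_eq_mul.1 this

/-- The stabilizer of the series `1 ≤ Z ≤ Σ ≤ V`. -/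
def chainStab (h : Conf p V P T M A₀) (Q : Subgroup G) : Subgroup G where
  carrier := {g | g ∈ LQ P A₀ Q ∧
    (∀ X, Adm P A₀ Q X → ∀ w ∈ clsK V P M A₀ Q X, ⁅w, g⁆ ∈ fx V (LQ P A₀ Q)) ∧
    ∀ v ∈ V, ⁅v, g⁆ ∈ sSup {W | ∃ X, Adm P A₀ Q X ∧ W = clsK V P M A₀ Q X}}
  one_mem' := ⟨one_mem _, fun _ _ w _ => by rw [commutatorElement_one_right]; exact one_mem _,
    fun v _ => by rw [commutatorElement_one_right]; exact one_mem _⟩
  mul_mem' := fun {l m} hl hm => by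
    have e : ∀ v : G, ⁅v, l * m⁆ = ⁅v, l⁆ * (l * ⁅v, m⁆ * l⁻¹) := fun v => by
      simp only [commutatorElement_def]; group
    refine ⟨mul_mem hl.1 hm.1, fun X hX w hw => ?_, fun v hv => ?_⟩
    · rw [e, mem_centralizer_iff.1 (hm.2.1 X hX w hw).2 l hl.1, mul_inv_cancel_right]
      exact mul_mem (hl.2.1 X hX w hw) (hm.2.1 X hX w hw)
    · rw [e]
      refine mul_mem (hl.2.2 v hv) (?_ : _ ∈ sSup _)
      have : cj l (sSup {W | ∃ X, Adm P A₀ Q X ∧ W = clsK V P M A₀ Q X}) ≤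
          sSup {W | ∃ X, Adm P A₀ Q X ∧ W = clsK V P M A₀ Q X} := by
        refine cj_le_iff.2 (sSup_le ?_)
        rintro W ⟨X, hX, rfl⟩
        exact cj_le_iff.1 (le_trans (fun _ ⟨w, hw, e⟩ => e ▸ h.conj_clsK hl.1 hw)
          (le_sSup ⟨_, adm_conj_normalizer hX (h.LQ_le hl.1) (LQ_le_normalizer hl.1), rfl⟩))
      exact this ⟨_, hm.2.2 v hv, rfl⟩
  inv_mem' := fun {l} hl => by
    have e : ∀ v : G, ⁅v, l⁻¹⁆ = l⁻¹ * ⁅v, l⁆⁻¹ * l⁻¹⁻¹ := fun v => by
      simp only [commutatorElement_def]; group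
    refine ⟨inv_mem hl.1, fun X hX w hw => ?_, fun v hv => ?_⟩
    · have h0 := inv_mem (hl.2.1 X hX w hw)
      rw [e, mem_centralizer_iff.1 h0.2 l⁻¹ (inv_mem hl.1), mul_inv_cancel_right]
      exact h0
    · rw [e]
      have : cj l⁻¹ (sSup {W | ∃ X, Adm P A₀ Q X ∧ W = clsK V P M A₀ Q X}) ≤
          sSup {W | ∃ X, Adm P A₀ Q X ∧ W = clsK V P M A₀ Q X} := by
        refine cj_le_iff.2 (sSup_le ?_)
        rintro W ⟨X, hX, rfl⟩
        exact cj_le_iff.1 (le_trans (fun _ ⟨w, hw, e⟩ => e ▸ h.conj_clsK (inv_mem hl.1) hw)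
          (le_sSup ⟨_, adm_conj_normalizer hX (h.LQ_le (inv_mem hl.1)) (LQ_le_normalizer (inv_mem hl.1)), rfl⟩))
      exact this ⟨_, inv_mem (hl.2.2 v hv), rfl⟩

theorem chainStab_normalizer (h : Conf p V P T M A₀) :
    LQ P A₀ Q ≤ normalizer (h.chainStab Q : Set G) := le_normalizer_iff.2 fun l hl g hg => by
  have hlP := h.LQ_le hl
  refine ⟨mul_mem (mul_mem hl hg.1) (inv_mem hl), fun X hX w hw => ?_, fun v hv => ?_⟩
  · rw [show ⁅w, l * g * l⁻¹⁆ = l * ⁅l⁻¹ * w * l, g⁆ * l⁻¹ by simp only [commutatorElement_def]; group]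
    have hw' : l⁻¹ * w * l ∈ clsK V P M A₀ Q (cj l⁻¹ X) := by simpa using h.conj_clsK (inv_mem hl) hw
    have := hg.2.1 _ (adm_conj_normalizer hX (inv_mem hlP) (inv_mem (LQ_le_normalizer hl))) _ hw'
    rw [mem_centralizer_iff.1 this.2 l hl, mul_inv_cancel_right]
    exact this
  · rw [show ⁅v, l * g * l⁻¹⁆ = l * ⁅l⁻¹ * v * l, g⁆ * l⁻¹ by simp only [commutatorElement_def]; group]
    have hv' : l⁻¹ * v * l ∈ V := by simpa using h.conj_mem_V (inv_mem hlP) hv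
    have : cj l (sSup {W | ∃ X, Adm P A₀ Q X ∧ W = clsK V P M A₀ Q X}) ≤
        sSup {W | ∃ X, Adm P A₀ Q X ∧ W = clsK V P M A₀ Q X} := by
      refine cj_le_iff.2 (sSup_le ?_)
      rintro W ⟨X, hX, rfl⟩
      exact cj_le_iff.1 (le_trans (fun _ ⟨w, hw, e⟩ => e ▸ h.conj_clsK hl hw)
        (le_sSup ⟨_, adm_conj_normalizer hX hlP (LQ_le_normalizer hl), rfl⟩))
    exact this ⟨_, hg.2.2 _ hv', rfl⟩

theorem chainStab_pgroup (h : Conf p V P T M A₀) : IsPGroup p ↥(h.chainStab Q) := by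
  rintro ⟨g, hg⟩
  refine ⟨2, Subtype.ext ?_⟩
  show g ^ p ^ 2 = 1
  rw [← mem_bot, ← h.hfaith]
  refine mem_inf.2 ⟨pow_mem (h.LQ_le hg.1) _, mem_centralizer_iff.2 fun v hv => ?_⟩
  set Z := fx V (LQ P A₀ Q)
  let S : Subgroup G :=
    { carrier := {w | w ∈ V ∧ ⁅w, g⁆ ∈ Z}
      one_mem' := ⟨one_mem V, by rw [commutatorElement_one_left]; exact one_mem Z⟩
      mul_mem' := fun {a b} ha hb => ⟨mul_mem ha.1 hb.1, by
        rw [show ⁅a * b, g⁆ = a * ⁅b, g⁆ * a⁻¹ * ⁅a, g⁆ by simp only [commutatorElement_def]; group,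
          h.comm_V ha.1 hb.2.1, mul_inv_cancel_right]
        exact mul_mem hb.2 ha.2⟩
      inv_mem' := fun {a} ha => ⟨inv_mem ha.1, by
        rw [show ⁅a⁻¹, g⁆ = a⁻¹ * ⁅a, g⁆⁻¹ * a by simp only [commutatorElement_def]; group,
          h.comm_V (inv_mem ha.1) (inv_mem ha.2.1), inv_mul_cancel_right]
        exact inv_mem ha.2⟩ }
  have hS : sSup {W | ∃ X, Adm P A₀ Q X ∧ W = clsK V P M A₀ Q X} ≤ S := by
    refine sSup_le ?_
    rintro W ⟨X, hX, rfl⟩ w hw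
    exact ⟨h.clsK_le_V hw, hg.2.1 X hX w hw⟩
  have hfix : ∀ w ∈ S, g ^ p * w = w * g ^ p := fun w hw =>
    h.pow_fix hw.2.1 (mem_centralizer_iff.1 hw.2.2 g hg.1)
  have hz : ⁅v, g ^ p⁆ ∈ S := hS ((pow_mem hg p).2.2 v hv)
  rw [pow_two, pow_mul]
  exact (h.pow_fix hz.1 (hfix _ hz)).symm

/-- The stabilizer of the series lies in `M`. -/
theorem chainStab_le [Finite G] [Fact p.Prime] (h : Conf p V P T M A₀) (hQ : MaxQ p P M A₀ Q)
    (hA : Adm P A₀ Q A) (hAM : A ≤ M) : h.chainStab Q ≤ M := by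
  intro g hg
  by_contra hgM
  have hgP := h.LQ_le hg.1
  have hB : Adm P A₀ Q (cj g A) := adm_conj_normalizer hA hgP (LQ_le_normalizer hg.1)
  have hns : ¬ SameCls P M Q A (cj g A) := fun e =>
    h.not_le_of_not_mem hQ hA hAM hgP (LQ_le_normalizer hg.1) hgM (h.le_of_same hQ hA hAM e)
  obtain ⟨a, ha, ha1⟩ := h.exists_ne_one hA.mem
  obtain ⟨v, hv, hne⟩ := h.exists_bracket_ne (h.mem_le hA.mem ha) ha1
  set e := ⁅v, a⁆
  have hz := hg.2.1 A hA e (bracket_mem_clsK hA (h.same_refl hQ hA) hv ha)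
  have h1 : g * e * g⁻¹ ∈ fx V (cj g A) := by
    rw [h.fx_cj hgP]; exact ⟨e, h.quad hQ hA hv ha, rfl⟩
  have h2 : e ∈ fx V (cj g A) := by
    rw [show e = ⁅e, g⁆ * (g * e * g⁻¹) by simp only [commutatorElement_def]; group]
    exact mul_mem (fx_mono (le_LQ hB) hz) h1
  exact hne (h.free_cls hQ hA hB hns hv ha h2)

/-- An element of a classmate differs from one of `A` by an element fixing all classes. -/
theorem exists_shift [Finite G] [Fact p.Prime] (h : Conf p V P T M A₀) (hQ : MaxQ p P M A₀ Q)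
    (hA : Adm P A₀ Q A) (hAM : A ≤ M) (hA' : Adm P A₀ Q Y) (hA'M : Y ≤ M) {a' : G} (ha' : a' ∈ Y) :
    ∃ a ∈ A, a⁻¹ * a' ∈ h.chainStab Q := by
  obtain ⟨B, hB, hns⟩ := h.exists_other hQ hA
  have hAA' : SameCls P M Q A Y := same_of_le hQ hAM hA'M
  have ha'P := h.mem_le hA'.mem ha'
  have ha'n := hA'.norm ha'
  have hB' : Adm P A₀ Q (cj a' B) := adm_conj_normalizer hB ha'P ha'n
  obtain hs | ⟨a, ha, hs⟩ := h.meet hQ hA hB hns hB'
  · exfalso
    refine hns (h.same_trans hQ hA' hAA' ?_)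
    have := same_conj (inv_mem ha'P) (inv_mem ha'n) (h.same_trans hQ hA hAA'.symm hs)
    rwa [cj_inv_cj, cj_eq_of_mem (inv_mem ha')] at this
  have haP := h.mem_le hA.mem ha
  set x := a⁻¹ * a' with hx
  have hxP : x ∈ P := mul_mem (inv_mem haP) ha'P
  have hxn : x ∈ normalizer (Q : Set G) := mul_mem (inv_mem (hA.norm ha)) ha'n
  have hxM : x ∈ M := mul_mem (inv_mem (hAM ha)) (hA'M ha')
  have hxB : SameCls P M Q B (cj x B) := by
    have := same_conj (inv_mem haP) (inv_mem (hA.norm ha)) hs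
    rwa [cj_inv_cj, cj_cj] at this
  haveI := (h.mem_elem hA.mem).1
  have hcomm : ∀ a₁ ∈ A, a₁ * a' = a' * a₁ := fun a₁ ha₁ => h.commute_of_cross (h.mem_le hA.mem ha₁) ha'P
    (fun v hv => mem_centralizer_iff.1 (h.classfix hQ hA hA' hAA' hv ha₁).2 a' ha')
    (fun v hv => mem_centralizer_iff.1 (h.classfix hQ hA' hA hAA'.symm hv ha').2 a₁ ha₁)
  have hall : ∀ {X : Subgroup G}, Adm P A₀ Q X → SameCls P M Q X (cj x X) := by
    intro X hX
    rcases h.meet hQ hA hB hns hX with h1 | ⟨a₁, ha₁, h1⟩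
    · have hXM := h.le_of_same hQ hA hAM h1
      exact same_of_le hQ hXM (cj_le hxM hXM)
    · have hc : x * a₁ = a₁ * x := by
        have : a * a₁ = a₁ * a := congrArg Subtype.val (mul_comm' (⟨a, ha⟩ : ↥A) ⟨a₁, ha₁⟩)
        have k1 : a⁻¹ * a₁ = a₁ * a⁻¹ := (Commute.inv_left (this : Commute a a₁)).eq
        rw [hx, mul_assoc, ← hcomm a₁ ha₁, ← mul_assoc, k1, mul_assoc]
      have hD : Adm P A₀ Q (cj a₁ B) :=
        adm_conj_normalizer hB (h.mem_le hA.mem ha₁) (hA.norm ha₁)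
      have h2 : SameCls P M Q (cj a₁ B) (cj x (cj a₁ B)) := by
        rw [cj_cj, hc, ← cj_cj]
        exact same_conj (h.mem_le hA.mem ha₁) (hA.norm ha₁) hxB
      exact h.same_trans hQ (adm_conj_normalizer hD hxP hxn) (h.same_trans hQ hD h1.symm h2)
        (same_conj hxP hxn h1)
  refine ⟨a, ha, mul_mem (inv_mem (le_LQ hA ha)) (le_LQ hA' ha'), fun X hX w hw => ?_, fun v hv => ?_⟩
  · by_cases hAX : SameCls P M Q A X
    · have k1 := mem_centralizer_iff.1 (h.clsK_le_fx hQ hX hA hAX.symm hw).2 a ha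
      have k2 := mem_centralizer_iff.1 (h.clsK_le_fx hQ hX hA' (h.same_trans hQ hA hAX.symm hAA') hw).2 a' ha'
      rw [commutatorElement_eq_one_iff_mul_comm.2
        (((Commute.inv_left (k1 : Commute a w)).mul_left (k2 : Commute a' w)).symm.eq)]
      exact one_mem _
    · set e := ⁅w, a⁻¹ * a'⁆ with he
      have hwV := h.clsK_le_V hw
      have heA : e ∈ clsK V P M A₀ Q A := by
        have hfix := mem_centralizer_iff.1 (h.classfix hQ hA' hA hAA'.symm hwV ha').2 a⁻¹ (inv_mem ha)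
        rw [he, show ⁅w, a⁻¹ * a'⁆ = ⁅w, a⁻¹⁆ * (a⁻¹ * ⁅w, a'⁆ * a⁻¹⁻¹) by
          simp only [commutatorElement_def]; group, hfix, mul_inv_cancel_right]
        exact mul_mem (bracket_mem_clsK hA (h.same_refl hQ hA) hwV (inv_mem ha))
          (bracket_mem_clsK hA' hAA' hwV ha')
      have hxl : x ∈ LQ P A₀ Q := mul_mem (inv_mem (le_LQ hA ha)) (le_LQ hA' ha')
      have heX : e ∈ clsK V P M A₀ Q X := by
        have := h.clsK_congr hQ (adm_conj_normalizer hX hxP hxn) (hall hX).symm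
          (h.conj_clsK hxl (inv_mem hw))
        rw [show e = w * (x * w⁻¹ * x⁻¹) by rw [he, hx]; simp only [commutatorElement_def]; group]
        exact mul_mem hw this
      refine mem_fx_sSup (h.clsK_le_V heA) fun Y hY => h.inter hQ hA hX hAX
        (fun Y' hY' hs' => h.clsK_le_fx hQ hA hY' hs' heA)
        (h.clsK_le_fx hQ hX hX (h.same_refl hQ hX) heX) hY
  · have hfix := mem_centralizer_iff.1 (h.classfix hQ hA' hA hAA'.symm hv ha').2 a⁻¹ (inv_mem ha)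
    refine le_sSup (s := {W | ∃ X, Adm P A₀ Q X ∧ W = clsK V P M A₀ Q X}) ⟨A, hA, rfl⟩ ?_
    rw [show ⁅v, a⁻¹ * a'⁆ = ⁅v, a⁻¹⁆ * (a⁻¹ * ⁅v, a'⁆ * a⁻¹⁻¹) by
      simp only [commutatorElement_def]; group, hfix, mul_inv_cancel_right]
    exact mul_mem (bracket_mem_clsK hA (h.same_refl hQ hA) hv (inv_mem ha))
      (bracket_mem_clsK hA' hAA' hv ha')

/-- `M` contains only one admissible member. -/
theorem rigid [Finite G] [Fact p.Prime] (h : Conf p V P T M A₀) (hQ : MaxQ p P M A₀ Q)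
    (hA : Adm P A₀ Q A) (hAM : A ≤ M) (hA' : Adm P A₀ Q Y) (hA'M : Y ≤ M) : Y = A := by
  obtain ⟨B, hB, hBM⟩ := h.exists_adm_outside hQ
  have hns : ¬ SameCls P M Q A B := fun e => hBM (h.le_of_same hQ hA hAM e)
  have hns' : ¬ SameCls P M Q Y B := fun e => hBM (h.le_of_same hQ hA' hA'M e)
  have hAA' : SameCls P M Q A Y := same_of_le hQ hAM hA'M
  have hf := h.pf hQ hA hB hns
  have hf' := h.pf hQ hB hA (fun e => hns e.symm)
  have hcen := h.centralise hQ hA hAM hB hBM (h.chainStab_le hQ hA hAM) h.chainStab_pgroup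
    ((le_LQ hA).trans h.chainStab_normalizer) ((le_LQ hB).trans h.chainStab_normalizer)
  have hcomm : ∀ x ∈ h.chainStab Q, x ∈ centralizer ((A ⊔ B : Subgroup G) : Set G) := fun x hx =>
    le_centralizer_iff.1 (sup_le (fun a ha => mem_centralizer_iff.2 fun r hr => hcen.commA r hr a ha)
      (fun b hb => mem_centralizer_iff.2 fun r hr => hcen.commB r hr b hb)) hx
  have hC : fx V (A ⊔ B) ≤ fx V Y := by
    intro c hc
    obtain ⟨a', ha', ha'1⟩ := h.exists_ne_one hA'.mem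
    obtain ⟨a, ha, hxS⟩ := h.exists_shift hQ hA hAM hA' hA'M ha'
    set x := a⁻¹ * a'
    have hxP : x ∈ P := h.LQ_le hxS.1
    have h1 : x * c * x⁻¹ ∈ fx V (A ⊔ B) := by
      have hn : x ∈ normalizer ((A ⊔ B : Subgroup G) : Set G) := centralizer_le_normalizer _ (hcomm x hxS)
      rw [← cj_normalizer hn, h.fx_cj hxP]
      exact ⟨c, hc, rfl⟩
    have h2 : a' * c * a'⁻¹ = x * c * x⁻¹ := by
      have := mem_centralizer_iff.1 h1.2 a (mem_sup_left ha)
      calc a' * c * a'⁻¹ = a * (x * c * x⁻¹) * a⁻¹ := by simp [x, mul_assoc]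
        _ = _ := by rw [this, mul_inv_cancel_right]
    set e := ⁅c, a'⁆
    have heC : e ∈ fx V (A ⊔ B) := by
      rw [show e = c * (a' * c * a'⁻¹)⁻¹ by simp only [e, commutatorElement_def]; group, h2]
      exact mul_mem hc (inv_mem h1)
    have heZ : e ∈ fx V (Y ⊔ B) := by
      rw [fx_sup]
      exact mem_inf.2 ⟨h.quad hQ hA' hc.1 ha', fx_mono le_sup_right heC⟩
    exact (h.pf hQ hA' hB hns').free c hc.1 a' ha' ha'1 heZ
  have hH : fx V A ≤ fx V Y := by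
    intro c hc
    obtain ⟨v, hv, hvA⟩ : ∃ v ∈ V, v ∉ fx V A := by
      obtain ⟨b₀, hb₀, hb₁⟩ := hf'.exists_mem (h.mem_ne_bot hB.mem)
      exact ⟨b₀, hb₀.1, fun e => hb₁ (by rw [fx_sup]; exact mem_inf.2 ⟨hb₀, e⟩)⟩
    obtain ⟨a, ha, hz⟩ := hf.cover v hv hvA c hc
    have := mul_mem (hC hz) (h.classfix hQ hA hA' hAA' hv ha)
    rwa [inv_mul_cancel_right] at this
  obtain ⟨g₁, -, e₁⟩ := id hA.mem
  obtain ⟨g₂, -, e₂⟩ := id hA'.mem
  refine Subgroup.eq_of_le_of_card_ge (fun a' ha' => ?_) (mem_card hA'.mem ▸ (mem_card hA.mem).le)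
  obtain ⟨a, ha, hxS⟩ := h.exists_shift hQ hA hAM hA' hA'M ha'
  set x := a⁻¹ * a'
  suffices x = 1 by
    rw [show a' = a * x by simp [x], this, mul_one]
    exact ha
  have hxA : ∀ w ∈ fx V A, Commute x w := fun w hw =>
    (Commute.inv_left (mem_centralizer_iff.1 hw.2 a ha : Commute a w)).mul_left
      (mem_centralizer_iff.1 (hH hw).2 a' ha')
  obtain ⟨h₀, hh₀, hh₀C⟩ := hf.exists_mem (h.mem_ne_bot hA.mem)
  have hh₀B : h₀ ∉ fx V B := fun e => hh₀C (by rw [fx_sup]; exact mem_inf.2 ⟨hh₀, e⟩)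
  refine mem_bot.1 (h.hfaith ▸ mem_inf.2 ⟨h.LQ_le hxS.1, mem_centralizer_iff.2 fun v hv => ?_⟩)
  have hAB : fx V A ≤ normalizer ((fx V B : Subgroup G) : Set G) := le_normalizer_iff.2 fun y hy z hz => by
    rw [h.comm_V hy.1 hz.1, mul_inv_cancel_right]
    exact hz
  have hsum := hf.span hv
  rw [← SetLike.mem_coe, Subgroup.coe_mul_of_left_le_normalizer_right _ _ hAB] at hsum
  obtain ⟨c, hc, d, hd, rfl⟩ := Set.mem_mul.1 hsum
  obtain ⟨b, hb, hz⟩ := hf'.cover h₀ hh₀.1 hh₀B d hd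
  rw [sup_comm B A] at hz
  have k1 : Commute x b := hcen.commB x hxS b hb
  have k2 : Commute x h₀ := hxA h₀ hh₀
  have k3 : Commute x (d * ⁅h₀, b⁆⁻¹) := hxA _ (fx_mono le_sup_left hz)
  have k4 : Commute x ⁅h₀, b⁆ := by
    rw [commutatorElement_def]
    exact ((k2.mul_right k1).mul_right k2.inv_right).mul_right k1.inv_right
  have k5 : Commute x d := by
    rw [show d = d * ⁅h₀, b⁆⁻¹ * ⁅h₀, b⁆ by group]
    exact k3.mul_right k4
  exact ((hxA c hc).mul_right k5).symm.eq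

end Conf
end Cfsg.Lib.Local.PMinOff
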