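import Cfsg.Agent.Lib.Local.PMinOff.Rigid

/-!
# Best offenders in `p`-minimal groups: the members of a Sylow subgroup

The members in `T` are conjugate under `T`, and each of them normalizes and centralizes the subgroup generated by
the others, which is a largest intersection.
-/

set_option autoImplicit false
set_option linter.style.haveILetI false

namespace Cfsg.Lib.Local.PMinOff

open Subgroup
open scoped commutatorElement
open OffenderPair (fx)
open TrapPair (mem_cj cj_cj cj_one cj_eq_of_mem cj_le)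

variable {G : Type*} [Group G] {p : ℕ} {V P T M A₀ Q A B C X Y : Subgroup G} {y : G}

local notation:max "cj" g:max K:max => Subgroup.map (MulEquiv.toMonoidHom (MulAut.conj g)) K

/-- The subgroup generated by the members of `T` other than `X`. -/
def others (P T A₀ X : Subgroup G) : Subgroup G := sSup {Y | Mem P A₀ Y ∧ Y ≤ T ∧ Y ≠ X}

theorem le_others (hY : Mem P A₀ Y) (hYT : Y ≤ T) (hne : Y ≠ X) : Y ≤ others P T A₀ X :=
  le_sSup ⟨hY, hYT, hne⟩

theorem cj_others {g : G} (hg : g ∈ P) (hn : g ∈ normalizer (T : Set G)) :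
    cj g (others P T A₀ X) = others P T A₀ (cj g X) := by
  refine le_antisymm (cj_le_iff.2 (sSup_le fun Y hY => cj_le_iff.1 ?_))
    (sSup_le fun Y hY => le_cj_iff.2 ?_)
  · refine le_others (hY.1.conj hg) ((Subgroup.map_mono hY.2.1).trans (cj_normalizer hn).le) fun e => hY.2.2 ?_
    rw [← cj_inv_cj g Y, e, cj_inv_cj]
  · refine le_others (hY.1.conj (inv_mem hg))
      ((Subgroup.map_mono hY.2.1).trans (cj_normalizer (inv_mem hn)).le) fun e => hY.2.2 ?_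
    rw [← cj_cj_inv g Y, e]

namespace Conf

theorem cj_LQ (h : Conf p V P T M A₀) {g : G} (hg : g ∈ P) :
    cj g (LQ P A₀ Q) = LQ P A₀ (cj g Q) := by
  refine le_antisymm (cj_le_iff.2 (sSup_le fun X hX => cj_le_iff.1 (le_LQ (adm_conj hX hg))))
    (sSup_le fun X hX => le_cj_iff.2 (le_LQ ?_))
  have := adm_conj hX (inv_mem hg)
  rwa [cj_inv_cj] at this

/-- Admissible members of one class are equal. -/
theorem same_eq [Finite G] [Fact p.Prime] (h : Conf p V P T M A₀) (hQ : MaxQ p P M A₀ Q)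
    (hX : Adm P A₀ Q X) (hY : Adm P A₀ Q Y) (hs : SameCls P M Q X Y) : Y = X := by
  obtain ⟨g, hg, h1, h2⟩ := hs
  have hgi := inv_mem hg
  have := h.rigid (h.maxQ_conj hQ hgi (le_cj_iff.1 (le_sup_left.trans h1))) (adm_conj hX hgi)
    (le_cj_iff.1 (le_sup_right.trans h1)) (adm_conj hY hgi) (le_cj_iff.1 (le_sup_right.trans h2))
  rw [← cj_cj_inv g Y, this, cj_cj_inv]

/-- The admissible members are the lines of any pair. -/
theorem adm_lines [Finite G] [Fact p.Prime] (h : Conf p V P T M A₀) (hQ : MaxQ p P M A₀ Q)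
    (hA : Adm P A₀ Q A) (hB : Adm P A₀ Q B) (hne : A ≠ B) (hX : Adm P A₀ Q X) :
    X = A ∨ ∃ a ∈ A, X = cj a B := by
  rcases h.meet hQ hA hB (fun e => hne (h.same_eq hQ hA hB e).symm) hX with hs | ⟨a, ha, hs⟩
  · exact .inl (h.same_eq hQ hA hX hs)
  · exact .inr ⟨a, ha, h.same_eq hQ (adm_conj_normalizer hB (h.mem_le hA.mem ha) (hA.norm ha)) hX hs⟩

theorem LQ_eq [Finite G] [Fact p.Prime] (h : Conf p V P T M A₀) (hQ : MaxQ p P M A₀ Q)
    (hA : Adm P A₀ Q A) (hB : Adm P A₀ Q B) (hne : A ≠ B) : LQ P A₀ Q = A ⊔ B := by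
  refine le_antisymm (sSup_le fun X hX => ?_) (sup_le (le_LQ hA) (le_LQ hB))
  rcases h.adm_lines hQ hA hB hne hX with rfl | ⟨a, ha, rfl⟩
  · exact le_sup_left
  · exact cj_le (mem_sup_left ha) le_sup_right

theorem cent_Q [Finite G] [Fact p.Prime] (h : Conf p V P T M A₀) (hQ : MaxQ p P M A₀ Q)
    (hA : Adm P A₀ Q A) (hAM : A ≤ M) (hB : Adm P A₀ Q B) (hBM : ¬ B ≤ M) : Cent V P A₀ A B Q :=
  h.centralise hQ hA hAM hB hBM (maxQ_le_M hQ) hQ.pg hA.norm hB.norm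

/-- `Q` is centralized by the admissible members. -/
theorem LQ_le_centralizer [Finite G] [Fact p.Prime] (h : Conf p V P T M A₀) (hQ : MaxQ p P M A₀ Q)
    (hA : Adm P A₀ Q A) (hAM : A ≤ M) : LQ P A₀ Q ≤ centralizer (Q : Set G) := by
  obtain ⟨B, hB, hBM⟩ := h.exists_adm_outside hQ
  have hc := h.cent_Q hQ hA hAM hB hBM
  rw [h.LQ_eq hQ hA hB fun e => hBM (e ▸ hAM)]
  exact sup_le (fun a ha => mem_centralizer_iff.2 fun r hr => hc.commA r hr a ha)
    (fun b hb => mem_centralizer_iff.2 fun r hr => hc.commB r hr b hb)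

/-- A member inside `Q` moves `V` into the fixed space of the admissible members. -/
theorem bracket_Q_le [Finite G] [Fact p.Prime] (h : Conf p V P T M A₀) (hQ : MaxQ p P M A₀ Q)
    (hA : Adm P A₀ Q A) (hAM : A ≤ M) (hC : Mem P A₀ C) (hCQ : C ≤ Q) : ⁅V, C⁆ ≤ fx V (LQ P A₀ Q) := by
  obtain ⟨B, hB, hBM⟩ := h.exists_adm_outside hQ
  rw [h.LQ_eq hQ hA hB fun e => hBM (e ▸ hAM)]
  exact (h.mem_bracket hC).trans ((Subgroup.commutator_mono le_rfl hCQ).trans (h.cent_Q hQ hA hAM hB hBM).brU)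

theorem bracket_le_fxQ [Finite G] [Fact p.Prime] (h : Conf p V P T M A₀) (hQ : MaxQ p P M A₀ Q)
    (hA : Adm P A₀ Q A) (hAM : A ≤ M) (hX : Adm P A₀ Q X) : ⁅V, X⁆ ≤ fx V Q := by
  by_cases hXM : X ≤ M
  · obtain ⟨B, hB, hBM⟩ := h.exists_adm_outside hQ
    exact (h.cent_Q hQ hX hXM hB hBM).brA
  · exact (h.cent_Q hQ hA hAM hX hXM).brB

theorem eV_mem [Finite G] [Fact p.Prime] (h : Conf p V P T M A₀) (hX : Mem P A₀ X) :
    Nat.card ↥V = Nat.card ↥X * Nat.card ↥(fx V X) := by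
  obtain ⟨Q, hQ, hQT⟩ := h.exists_maxQ_le_T
  obtain ⟨A, hA, -⟩ := h.exists_adm hQ hQT
  obtain ⟨B, hB, hns⟩ := h.exists_other hQ hA
  have e := (h.pf hQ hA hB hns).eV
  obtain ⟨g, hg, rfl⟩ := hX
  obtain ⟨k, hk, eA⟩ := hA.mem
  rw [card_cj, h.card_fx_cj hg]
  rwa [eA, card_cj, h.card_fx_cj hk] at e

/-- The map `v ↦ [v, x]`. -/
def brHom (h : Conf p V P T M A₀) {x : G} (hx : x ∈ P) : ↥V →* G :=
  MonoidHom.mk' (fun v => ⁅(v : G), x⁆) fun v w => by
    have hb : ∀ u : ↥V, ⁅(u : G), x⁆ ∈ V := fun u =>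
      Subgroup.le_normalizer_iff_commutator_le_left.mp h.hPV (commutator_mem_commutator u.2 hx)
    rw [Subgroup.coe_mul, show ⁅(v : G) * w, x⁆ = (v : G) * ⁅(w : G), x⁆ * (v : G)⁻¹ * ⁅(v : G), x⁆ by
        simp only [commutatorElement_def]; group,
      h.comm_V v.2 (hb w), mul_inv_cancel_right, h.comm_V (hb w) (hb v)]

theorem brHom_apply (h : Conf p V P T M A₀) {x : G} (hx : x ∈ P) (v : ↥V) :
    h.brHom hx v = ⁅(v : G), x⁆ := rfl

theorem brHom_ker [Finite G] [Fact p.Prime] (h : Conf p V P T M A₀) (hX : Mem P A₀ X) {x : G} (hx : x ∈ X)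
    (hx1 : x ≠ 1) : (h.brHom (h.mem_le hX hx)).ker = (fx V X).subgroupOf V := by
  ext v
  rw [MonoidHom.mem_ker, brHom_apply, mem_subgroupOf, commutatorElement_eq_one_iff_mul_comm]
  exact ⟨fun e => h.fix_eq hX v.2 hx hx1 e.symm, fun e => (mem_centralizer_iff.1 e.2 x hx).symm⟩

theorem card_brHom [Finite G] [Fact p.Prime] (h : Conf p V P T M A₀) (hX : Mem P A₀ X) {x : G} (hx : x ∈ X)
    (hx1 : x ≠ 1) : Nat.card ↥(h.brHom (h.mem_le hX hx)).range = Nat.card ↥X := by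
  have e := Subgroup.card_eq_card_quotient_mul_card_subgroup (h.brHom (h.mem_le hX hx)).ker
  rw [Nat.card_congr (QuotientGroup.quotientKerEquivRange (h.brHom (h.mem_le hX hx))).toEquiv,
    h.brHom_ker hX hx hx1, Nat.card_congr (subgroupOfEquivOfLe (inf_le_left : fx V X ≤ V)).toEquiv,
    h.eV_mem hX] at e
  exact (Nat.eq_of_mul_eq_mul_right Nat.card_pos e).symm

/-- No element of a member moves `A` into `Q`. -/
theorem not_move [Finite G] [Fact p.Prime] (h : Conf p V P T M A₀) (hQ : MaxQ p P M A₀ Q)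
    (hA : Adm P A₀ Q A) (hAM : A ≤ M) (hX : Mem P A₀ X) {x : G} (hx : x ∈ X) : ¬ cj x A ≤ Q := by
  intro hCQ
  have hxP := h.mem_le hX hx
  rcases eq_or_ne x 1 with rfl | hx1
  · exact hA.not_le (by rwa [cj_one] at hCQ)
  obtain ⟨a, ha, ha1⟩ := h.exists_ne_one hA.mem
  have haP := h.mem_le hA.mem ha
  obtain ⟨B, hB, hBM⟩ := h.exists_adm_outside hQ
  have hns : ¬ SameCls P M Q A B := fun e => hBM (h.le_of_same hQ hA hAM e)
  have hbQ := h.bracket_Q_le hQ hA hAM (hA.mem.conj hxP) hCQ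
  have hA_le : fx V (LQ P A₀ Q) ≤ fx V A := fx_mono (le_LQ hA)
  have hmoved : ∀ v ∈ V, x * ⁅v, a⁆ * x⁻¹ ∈ fx V (LQ P A₀ Q) := fun v hv => by
    rw [conj_bracket]
    exact hbQ (commutator_mem_commutator (h.conj_mem_V hxP hv) ⟨a, ha, rfl⟩)
  have hfree : ∀ v ∈ V, ⁅v, a⁆ ∈ fx V (LQ P A₀ Q) → ⁅v, a⁆ = 1 := fun v hv he =>
    h.free_cls hQ hA hB hns hv ha (fx_mono (le_LQ hB) he)
  let β : ↥V →* ↥V := MonoidHom.codRestrict (h.brHom haP) V fun v => (h.quad hQ hA v.2 ha).1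
  let φ : ↥V →* G := (h.brHom hxP).comp β
  have hker : φ.ker ≤ (h.brHom haP).ker := by
    intro v hv
    rw [MonoidHom.mem_ker, brHom_apply]
    have e : ⁅⁅(v : G), a⁆, x⁆ = 1 := hv
    refine hfree v v.2 ?_
    have := hmoved v v.2
    rwa [(commutatorElement_eq_one_iff_mul_comm.1 e).symm, mul_inv_cancel_right] at this
  have hrange : (h.brHom hxP).range = φ.range := by
    refine (Subgroup.eq_of_le_of_card_ge ?_ ?_).symm
    · rintro _ ⟨v, rfl⟩; exact ⟨β v, rfl⟩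
    · rw [h.card_brHom hX hx hx1]
      have e1 := Subgroup.card_eq_card_quotient_mul_card_subgroup φ.ker
      have e2 := Subgroup.card_eq_card_quotient_mul_card_subgroup (h.brHom haP).ker
      rw [Nat.card_congr (QuotientGroup.quotientKerEquivRange φ).toEquiv] at e1
      rw [Nat.card_congr (QuotientGroup.quotientKerEquivRange (h.brHom haP)).toEquiv,
        h.card_brHom hA.mem ha ha1, e1] at e2
      have hXA : Nat.card ↥X = Nat.card ↥A := by rw [mem_card hX, mem_card hA.mem]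
      rw [hXA]
      refine Nat.le_of_mul_le_mul_right ?_ (Nat.card_pos (α := ↥φ.ker))
      rw [e2]
      exact Nat.mul_le_mul_left _ (card_le_of_le hker)
  have hin : ∀ v ∈ V, ⁅v, x⁆ ∈ fx V A := fun v hv => by
    have hm : ⁅v, x⁆ ∈ φ.range := hrange ▸ ⟨⟨v, hv⟩, rfl⟩
    obtain ⟨u, hu⟩ := hm
    rw [← hu]
    show ⁅⁅(u : G), a⁆, x⁆ ∈ fx V A
    rw [show ⁅⁅(u : G), a⁆, x⁆ = ⁅(u : G), a⁆ * (x * ⁅(u : G), a⁆ * x⁻¹)⁻¹ by
      simp only [commutatorElement_def]; group]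
    exact mul_mem (h.quad hQ hA u.2 ha) (inv_mem (hA_le (hmoved u u.2)))
  have hHC : fx V (cj x A) = fx V A := by
    refine Subgroup.eq_of_le_of_card_ge ?_ (by rw [h.card_fx_cj hxP])
    rw [h.fx_cj hxP]
    rintro _ ⟨w, hw, rfl⟩
    show x * w * x⁻¹ ∈ fx V A
    rw [show x * w * x⁻¹ = ⁅w, x⁆⁻¹ * w by simp only [commutatorElement_def]; group]
    exact mul_mem (inv_mem (hin w hw.1)) hw
  obtain ⟨b, hb, hb1⟩ := h.exists_ne_one hB.mem
  obtain ⟨v, hv, hne⟩ := h.exists_bracket_ne (h.mem_le hB.mem hb) hb1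
  have he : ⁅v, b⁆ ∈ fx V A :=
    hHC ▸ fx_mono hCQ (h.bracket_le_fxQ hQ hA hAM hB (commutator_mem_commutator hv hb))
  exact hne (h.free_cls hQ hB hA (fun e => hns e.symm) hv hb he)

/-- A member-generated subgroup that absorbs the members normalizing it is all of `mgen P A₀ T`. -/
theorem mgen_grow [Finite G] [Fact p.Prime] (h : Conf p V P T M A₀) {U : Subgroup G} (hUT : U ≤ T)
    (hU : mgen P A₀ U = U) (habs : ∀ X, Mem P A₀ X → X ≤ T → X ≤ normalizer (U : Set G) → X ≤ U) :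
    mgen P A₀ T = U := by
  set J := mgen P A₀ T
  have hUJ : U ≤ J := hU.ge.trans (mgen_mono hUT)
  haveI : Group.IsNilpotent ↥J := (h.hTp.to_le (mgen_le P A₀ T)).isNilpotent
  set N := (normalizer (U : Set G)).subgroupOf J with hN
  have hNN : mgen P A₀ (N.map J.subtype) = U := by
    refine le_antisymm (sSup_le ?_) (hU.ge.trans (mgen_mono fun x hx =>
      ⟨⟨x, hUJ hx⟩, mem_subgroupOf.2 (le_normalizer hx), rfl⟩))
    rintro X ⟨hX, hXN⟩
    refine habs X hX (hXN.trans ((map_subtype_le _).trans (mgen_le _ _ _))) fun a ha => ?_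
    obtain ⟨⟨a', ha'⟩, hm, e⟩ := hXN ha
    rw [← e]
    exact mem_subgroupOf.1 hm
  have htop : N = ⊤ := by
    refine normalizerCondition_iff_only_full_group_self_normalizing.mp
      Group.normalizerCondition_of_isNilpotent _ (le_antisymm ?_ le_normalizer)
    intro x hx
    refine mem_subgroupOf.2 ?_
    rw [← hNN]
    refine mgen_normalizer (h.mgen_le_P T x.2) ?_
    rw [Core.mem_normalizer_iff_map_conj]
    have := Core.map_conj_eq_of_mem_normalizer hx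
    conv_rhs => rw [← this]
    rw [Subgroup.map_map, Subgroup.map_map]
    rfl
  rw [← hNN, htop, ← MonoidHom.range_eq_map, Subgroup.range_subtype, mgen_mgen]

/-- The members of `T` are those of `Q` and the admissible one. -/
theorem members_T [Finite G] [Fact p.Prime] (h : Conf p V P T M A₀) (hQ : MaxQ p P M A₀ Q) (hQT : Q ≤ T)
    (hA : Adm P A₀ Q A) (hAT : A ≤ T) (hX : Mem P A₀ X) (hXT : X ≤ T) : X = A ∨ X ≤ Q := by
  have hAM := hAT.trans h.hTM
  set U := Q ⊔ A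
  have hUn : U ≤ normalizer (Q : Set G) := sup_le le_normalizer hA.norm
  have hin : ∀ {Y : Subgroup G}, Mem P A₀ Y → Y ≤ U → Y = A ∨ Y ≤ Q := fun {Y} hY hYU => by
    refine or_iff_not_imp_right.2 fun hYQ => ?_
    exact h.rigid hQ hA hAM ⟨hY, hYU.trans hUn, hYQ⟩ (hYU.trans (sup_le (maxQ_le_M hQ) hAM))
  refine hin hX ?_
  refine (le_mgen hX hXT).trans (h.mgen_grow (U := U) (sup_le hQT hAT) (mgen_sup hQ.gen hA.mem)
    fun Y hY hYT hYn => ?_).le
  by_cases hYQ : Y ≤ normalizer (Q : Set G)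
  · by_cases hle : Y ≤ Q
    · exact hle.trans le_sup_left
    · exact (h.rigid hQ hA hAM ⟨hY, hYQ, hle⟩ (hYT.trans h.hTM)).le.trans le_sup_right
  exfalso
  obtain ⟨x, hx, hxn⟩ := SetLike.not_le_iff_exists.1 hYQ
  have hxP := h.mem_le hY hx
  obtain ⟨C, ⟨hC, hCQ⟩, hmove⟩ : ∃ C, (Mem P A₀ C ∧ C ≤ Q) ∧ ¬ cj x C ≤ Q := by
    by_contra hall
    push Not at hall
    refine hxn (Core.mem_normalizer_iff_map_conj.2 (Subgroup.eq_of_le_of_card_ge ?_ (card_cj x Q).ge))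
    conv_lhs => rw [← hQ.gen]
    exact cj_le_iff.2 (sSup_le fun C hC => cj_le_iff.1 (hall C hC))
  have h1 := (hin (hC.conj hxP) ((Subgroup.map_mono (hCQ.trans le_sup_left)).trans
    (cj_normalizer (hYn hx)).le)).resolve_right hmove
  refine h.not_move hQ hA hAM hY (inv_mem hx) ?_
  rw [← h1, cj_inv_cj]
  exact hCQ

theorem others_eq [Finite G] [Fact p.Prime] (h : Conf p V P T M A₀) (hQ : MaxQ p P M A₀ Q) (hQT : Q ≤ T)
    (hA : Adm P A₀ Q A) (hAT : A ≤ T) : others P T A₀ A = Q := by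
  refine le_antisymm (sSup_le fun Y hY => (h.members_T hQ hQT hA hAT hY.1 hY.2.1).resolve_left hY.2.2) ?_
  conv_lhs => rw [← hQ.gen]
  exact sSup_le fun Y hY => le_others hY.1 (hY.2.trans hQT) fun e => hA.not_le (e ▸ hY.2)

/-- The members of `T` are conjugate under `T`. -/
theorem orbit_T [Finite G] [Fact p.Prime] (h : Conf p V P T M A₀) (hQ : MaxQ p P M A₀ Q) (hQT : Q ≤ T)
    (hA : Adm P A₀ Q A) (hAT : A ≤ T) (hX : Mem P A₀ X) (hXT : X ≤ T) : ∃ t ∈ T, X = cj t A := by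
  by_contra hno
  push Not at hno
  have hcjT : ∀ t ∈ T, ∀ {K : Subgroup G}, K ≤ T → cj t K ≤ T := fun t ht K hK =>
    cj_le ht hK
  have hall : ∀ t ∈ T, X ≤ cj t Q := fun t ht => by
    have htP := h.hTP ht
    exact (h.members_T (h.maxQ_conj hQ htP ((hcjT t ht hQT).trans h.hTM)) (hcjT t ht hQT)
      (adm_conj hA htP) (hcjT t ht hAT) hX hXT).resolve_left (hno t ht)
  set U₀ := sSup {Y | Mem P A₀ Y ∧ Y ≤ T ∧ ∀ t ∈ T, Y ≤ cj t Q}
  have hU₀T : U₀ ≤ T := sSup_le fun Y hY => hY.2.1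
  have hU₀Q : U₀ ≤ Q := sSup_le fun Y hY => (hY.2.2 1 (one_mem T)).trans (cj_one Q).le
  have hTn : T ≤ normalizer (U₀ : Set G) := by
    have key : ∀ t ∈ T, cj t U₀ ≤ U₀ := fun t ht => by
      refine cj_le_iff.2 (sSup_le fun Y hY => cj_le_iff.1 (le_sSup
        ⟨hY.1.conj (h.hTP ht), hcjT t ht hY.2.1, fun s hs => ?_⟩))
      rw [cj_le_iff, cj_cj]
      exact hY.2.2 _ (mul_mem (inv_mem ht) hs)
    exact fun t ht => Core.mem_normalizer_iff_map_conj.2
      (le_antisymm (key t ht) (le_cj_iff.2 (key t⁻¹ (inv_mem ht))))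
  obtain ⟨B, hB, hBM⟩ := h.exists_adm_outside hQ
  have hBn : B ≤ normalizer (U₀ : Set G) := (le_LQ hB).trans ((h.LQ_le_centralizer hQ hA
    (hAT.trans h.hTM)).trans ((centralizer_le (by exact_mod_cast hU₀Q)).trans (centralizer_le_normalizer _)))
  have hXU : X ≤ U₀ := le_sSup ⟨hX, hXT, hall⟩
  exact hBM ((le_inf (h.mem_le hB.mem) hBn).trans (h.normalizer_le (hU₀T.trans h.hTP) (h.hTp.to_le hU₀T)
    (fun e => h.mem_ne_bot hX (le_bot_iff.1 (hXU.trans e.le))) hTn))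

/-- The properties of the members of `T`. -/
theorem member_T [Finite G] [Fact p.Prime] (h : Conf p V P T M A₀) (hX : Mem P A₀ X) (hXT : X ≤ T) :
    MaxQ p P M A₀ (others P T A₀ X) ∧ others P T A₀ X ≤ T ∧ Adm P A₀ (others P T A₀ X) X := by
  obtain ⟨Q, hQ, hQT⟩ := h.exists_maxQ_le_T
  obtain ⟨A, hA, hAT⟩ := h.exists_adm hQ hQT
  obtain ⟨t, ht, rfl⟩ := h.orbit_T hQ hQT hA hAT hX hXT
  have htP := h.hTP ht
  rw [← cj_others htP (le_normalizer ht), h.others_eq hQ hQT hA hAT]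
  exact ⟨h.maxQ_conj hQ htP ((cj_le ht hQT).trans h.hTM), cj_le ht hQT, adm_conj hA htP⟩

theorem conj_T [Finite G] [Fact p.Prime] (h : Conf p V P T M A₀) (hX : Mem P A₀ X) (hXT : X ≤ T)
    (hY : Mem P A₀ Y) (hYT : Y ≤ T) : ∃ t ∈ T, Y = cj t X := by
  obtain ⟨hQ, hQT, hA⟩ := h.member_T hX hXT
  exact h.orbit_T hQ hQT hA hXT hY hYT

/-- The admissible members act on `V` as `SL₂` on its natural module. -/
theorem natural [Finite G] [Fact p.Prime] (h : Conf p V P T M A₀) (hQ : MaxQ p P M A₀ Q)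
    (hA : Adm P A₀ Q A) (hAM : A ≤ M) :
    ∃ (F : Type) (_ : Field F) (_ : Fintype F), Fintype.card F = Nat.card ↥A ∧
      Nonempty (↥(LQ P A₀ Q) ≃* Matrix.SpecialLinearGroup (Fin 2) F) ∧
      Cfsg.ActsAsSL2OnSection F ⊤ (LQ P A₀ Q) V (fx V (LQ P A₀ Q)) := by
  obtain ⟨x, hx, hxn, hxM⟩ := h.exists_mover hQ
  obtain ⟨y, f, -⟩ := h.exists_frame hQ hA hAM hx hxn hxM
  obtain ⟨T₀, R, hd, hnp⟩ := f.data
  obtain ⟨F, i1, i2, hc, hiso, -, hact⟩ := hd.exists_natural hnp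
  rw [h.LQ_eq hQ hA (adm_conj_normalizer hA f.hy f.hyn) fun e =>
    h.not_le_of_not_mem hQ hA hAM f.hy f.hyn f.hyM (e ▸ hAM)]
  exact ⟨F, i1, i2, hc, hiso, hact⟩

end Conf
end Cfsg.Lib.Local.PMinOff
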