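import Cfsg.Agent.Lib.Local.PMinOff.TwoFam

/-!
# Best offenders in `p`-minimal groups: the symmetric group of a family

The transvections of a family of odd degree `n` generate a copy of the symmetric group of degree `n` acting on
the commutator space as on the even-weight permutation module.
-/

set_option autoImplicit false
set_option linter.style.haveILetI false

namespace Cfsg.Lib.Local.PMinOff

open Subgroup
open scoped commutatorElement
open OffenderPair (fx)

variable {G : Type*} [Group G] {p : ℕ} {V P T M A₀ : Subgroup G} {n : ℕ} {u : Fin n → G}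
  {x : Fin n → Fin n → G}

/-- The coordinate functions of a family. -/
noncomputable def famW (x : Fin n → Fin n → G) (v : G) (i : Fin n) : ZMod 2 :=
  ∑ j, if i = j then 0 else tvF (x i j) v

/-- The subgroup generated by a family. -/
def famGrp (x : Fin n → Fin n → G) : Subgroup G := closure (famSet x)

/-- The span of the centres of a family. -/
def famSpan (u : Fin n → G) : Subgroup G := closure {z | ∃ i j, z = u i * u j}

namespace Conf

variable [Finite G] [Fact p.Prime]

omit [Finite G] [Fact p.Prime] in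
theorem famGrp_le (h : Conf p V P T M A₀) (hf : Fam V P A₀ n u x) : famGrp x ≤ P :=
  (closure_le _).2 fun _ ⟨i, j, hij, e⟩ => e ▸ h.tv_mem (hf.tv i j hij)

omit [Finite G] [Fact p.Prime] in
theorem famSpan_le (hf : Fam V P A₀ n u x) : famSpan u ≤ V :=
  (closure_le _).2 fun _ ⟨i, j, e⟩ => e ▸ mul_mem (hf.mem i) (hf.mem j)

/-- The forms satisfy the cocycle identity. -/
theorem fam_cocycle (h : Conf p V P T M A₀) (h2 : Nat.card ↥A₀ = 2) (hf : Fam V P A₀ n u x) {i j k : Fin n}
    (hij : i ≠ j) (hik : i ≠ k) (hjk : j ≠ k) {v : G} (hv : v ∈ V) :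
    tvF (x i k) v = tvF (x i j) v + tvF (x j k) v := by
  obtain ⟨e1, e2⟩ := h.tv_move h2 (hf.tv i j hij) (hf.tv j k hjk)
  have h1 : tvF (x j k) (tvE V (x i j)) = 1 := by
    rw [h.fam_pair h2 hf hjk hij, dl_ne hij.symm, dl_ne hik.symm, dl_self, dl_ne hjk.symm]; rfl
  have h1' := (h.tv_symm h2 (hf.tv i j hij) (hf.tv j k hjk)).trans h1
  have e : x j k * x i j * (x j k)⁻¹ = x i k := h.tvE_inj h2
    (conj_isTv_iff (h.tv_mem (hf.tv j k hjk)) (hf.tv i j hij)) (hf.tv i k hik) (by
      rw [e1, h1, pw_one, hf.centre i j hij, hf.centre j k hjk, hf.centre i k hik, mul_assoc (u i),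
        ← mul_assoc (u j), h.V_sq h2 (hf.mem j), one_mul])
  rw [← e, e2 v hv, h1', mul_one]

theorem famW_add (h : Conf p V P T M A₀) (h2 : Nat.card ↥A₀ = 2) (hf : Fam V P A₀ n u x) {v w : G}
    (hv : v ∈ V) (hw : w ∈ V) (i : Fin n) : famW x (v * w) i = famW x v i + famW x w i := by
  simp only [famW, ← Finset.sum_add_distrib]
  refine Finset.sum_congr rfl fun j _ => ?_
  split_ifs with hij
  · rw [add_zero]
  · exact h.tvF_mul h2 (hf.tv i j hij) hv hw

theorem famW_pair (h : Conf p V P T M A₀) (h2 : Nat.card ↥A₀ = 2) (hf : Fam V P A₀ n u x) (hodd : Odd n)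
    {v : G} (hv : v ∈ V) {i j : Fin n} (hij : i ≠ j) : famW x v i + famW x v j = tvF (x i j) v := by
  simp only [famW, ← Finset.sum_add_distrib]
  rw [Finset.sum_congr rfl (fun k _ => show _ = tvF (x i j) v from ?_), Finset.sum_const, Finset.card_univ,
    Fintype.card_fin, nsmul_eq_mul, ZMod.natCast_eq_one_iff_odd.2 hodd, one_mul]
  by_cases hik : i = k
  · subst hik
    rw [if_pos rfl, if_neg hij.symm, zero_add, h.fam_symm h2 hf hij]
  rw [if_neg hik]
  by_cases hjk : j = k
  · subst hjk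
    rw [if_pos rfl, add_zero]
  rw [if_neg hjk, h.fam_cocycle h2 hf hij hik hjk hv]
  linear_combination (CharTwo.add_self_eq_zero (tvF (x j k) v))

theorem famW_sum (h : Conf p V P T M A₀) (h2 : Nat.card ↥A₀ = 2) (hf : Fam V P A₀ n u x) (hodd : Odd n)
    {v : G} (hv : v ∈ V) : ∑ i, famW x v i = 0 := by
  haveI : NeZero n := ⟨by have := hf.hn; omega⟩
  have e : ∀ i, famW x v i = famW x v 0 + (if (0 : Fin n) = i then 0 else tvF (x 0 i) v) := fun i => by
    split_ifs with hi
    · subst hi; rw [add_zero]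
    · rw [← h.famW_pair h2 hf hodd hv hi]
      linear_combination -(CharTwo.add_self_eq_zero (famW x v 0))
  rw [Finset.sum_congr rfl fun i _ => e i, Finset.sum_add_distrib, Finset.sum_const, Finset.card_univ,
    Fintype.card_fin, nsmul_eq_mul, ZMod.natCast_eq_one_iff_odd.2 hodd, one_mul]
  exact CharTwo.add_self_eq_zero _

theorem famW_centre (h : Conf p V P T M A₀) (h2 : Nat.card ↥A₀ = 2) (hf : Fam V P A₀ n u x) (hodd : Odd n)
    (a b i : Fin n) : famW x (u a * u b) i = dl a i + dl b i := by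
  have hterm : ∀ j, (if i = j then (0 : ZMod 2) else tvF (x i j) (u a * u b)) =
      (dl i a + dl j a) + (dl i b + dl j b) := fun j => by
    split_ifs with hij
    · subst hij; rw [CharTwo.add_self_eq_zero, CharTwo.add_self_eq_zero, add_zero]
    · rw [h.fam_F h2 hf hij]; ring
  rw [famW, Finset.sum_congr rfl fun j _ => hterm j]
  simp only [Finset.sum_add_distrib, Finset.sum_const, Finset.card_univ, Fintype.card_fin, nsmul_eq_mul,
    ZMod.natCast_eq_one_iff_odd.2 hodd, one_mul]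
  have hs : ∀ a : Fin n, ∑ j : Fin n, dl j a = 1 := fun a => by simp [dl]
  rw [hs, hs, show dl i a = dl a i by simp [dl, eq_comm], show dl i b = dl b i by simp [dl, eq_comm]]
  linear_combination (CharTwo.add_self_eq_zero (1 : ZMod 2))

omit [Finite G] [Fact p.Prime] in
theorem famW_one : famW x (1 : G) = 0 := by
  funext i
  simp [famW, tvF_one]

theorem famW_eq_zero (h : Conf p V P T M A₀) (h2 : Nat.card ↥A₀ = 2) (hf : Fam V P A₀ n u x) (hodd : Odd n)
    {v : G} (hv : v ∈ V) : famW x v = 0 ↔ v ∈ fx V (famGrp x) := by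
  constructor
  · intro h0
    refine mem_inf.2 ⟨hv, le_centralizer_iff.1 ((closure_le _).2 ?_ :
      famGrp x ≤ centralizer ((zpowers v : Subgroup G) : Set G)) (mem_zpowers v)⟩
    rintro _ ⟨i, j, hij, rfl⟩
    refine mem_centralizer_iff.2 fun z hz => ?_
    obtain ⟨k, rfl⟩ := mem_zpowers_iff.1 hz
    have := h.famW_pair h2 hf hodd hv hij
    rw [h0, Pi.zero_apply, Pi.zero_apply, add_zero] at this
    exact (Commute.zpow_left (tvF_eq_zero.1 this.symm).symm k).eq
  · intro hfix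
    funext i
    refine Finset.sum_eq_zero fun j _ => ?_
    split_ifs with hij
    · rfl
    · exact tvF_eq_zero.2 (mem_centralizer_iff.1 hfix.2 _ (subset_closure ⟨i, j, hij, rfl⟩))

theorem famW_swap (h : Conf p V P T M A₀) (h2 : Nat.card ↥A₀ = 2) (hf : Fam V P A₀ n u x) (hodd : Odd n)
    {v : G} (hv : v ∈ V) {i j : Fin n} (hij : i ≠ j) (l : Fin n) :
    famW x (x i j * v * (x i j)⁻¹) l = famW x v (Equiv.swap i j l) := by
  have ht := hf.tv i j hij
  rw [h.tv_conj h2 ht hv, h.famW_add h2 hf hv (pw_mem (h.tvE_spec ht).1 _), hf.centre i j hij]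
  have hp := h.famW_pair h2 hf hodd hv hij
  rcases z2_cases (tvF (x i j) v) with e | e <;> rw [e] at hp ⊢
  · rw [pw_zero, famW_one, Pi.zero_apply, add_zero]
    have hwij : famW x v i = famW x v j := CharTwo.add_eq_zero.1 hp
    by_cases hli : l = i
    · subst hli; rw [Equiv.swap_apply_left, hwij]
    by_cases hlj : l = j
    · subst hlj; rw [Equiv.swap_apply_right, hwij]
    rw [Equiv.swap_apply_of_ne_of_ne hli hlj]
  · rw [pw_one, h.famW_centre h2 hf hodd]
    by_cases hli : l = i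
    · subst hli
      rw [Equiv.swap_apply_left, dl_self, dl_ne hij.symm, add_zero, ← hp]
      linear_combination (CharTwo.add_self_eq_zero (famW x v l))
    by_cases hlj : l = j
    · subst hlj
      rw [Equiv.swap_apply_right, dl_self, dl_ne hij, zero_add, ← hp]
      linear_combination (CharTwo.add_self_eq_zero (famW x v l))
    rw [Equiv.swap_apply_of_ne_of_ne hli hlj, dl_ne (Ne.symm hli), dl_ne (Ne.symm hlj), add_zero, add_zero]

theorem famW_surj (h : Conf p V P T M A₀) (h2 : Nat.card ↥A₀ = 2) (hf : Fam V P A₀ n u x) (hodd : Odd n)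
    (y : Fin n → ZMod 2) (hy : ∑ i, y i = 0) : ∃ z ∈ famSpan u, famW x z = y := by
  classical
  haveI : NeZero n := ⟨by have := hf.hn; omega⟩
  suffices key : ∀ R : Finset (Fin n), ∃ z ∈ famSpan u, ∀ i,
      famW x z i = ∑ a ∈ R, y a * (dl a i + dl 0 i) by
    obtain ⟨z, hz, hzi⟩ := key Finset.univ
    refine ⟨z, hz, funext fun i => ?_⟩
    rw [hzi]
    simp only [mul_add, Finset.sum_add_distrib, ← Finset.sum_mul, hy, zero_mul, add_zero]
    simp [dl]
  intro R
  induction R using Finset.induction_on with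
  | empty => exact ⟨1, one_mem _, fun i => by simp [famW_one]⟩
  | insert a R ha ih =>
    obtain ⟨z, hz, hzi⟩ := ih
    refine ⟨pw (u a * u 0) (y a) * z, mul_mem (pw_mem (Subgroup.subset_closure ⟨a, 0, rfl⟩ : u a * u 0 ∈ famSpan u) _) hz, fun i => ?_⟩
    rw [h.famW_add h2 hf (pw_mem (mul_mem (hf.mem a) (hf.mem 0)) _) (famSpan_le hf hz), hzi,
      Finset.sum_insert ha]
    congr 1
    rcases z2_cases (y a) with e | e <;> rw [e]
    · rw [pw_zero, famW_one, Pi.zero_apply, zero_mul]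
    · rw [pw_one, h.famW_centre h2 hf hodd, one_mul]

theorem famSpan_inj (h : Conf p V P T M A₀) (h2 : Nat.card ↥A₀ = 2) (hf : Fam V P A₀ n u x) (hodd : Odd n)
    {z : G} (hz : z ∈ famSpan u) (h0 : famW x z = 0) : z = 1 := by
  classical
  haveI : NeZero n := ⟨by have := hf.hn; omega⟩
  letI : CommGroup ↥V :=
    { (inferInstance : Group ↥V) with mul_comm := fun a b => Subtype.ext (h.comm_V a.2 b.2) }
  let uu : Fin n → ↥V := fun a => ⟨u a * u 0, mul_mem (hf.mem a) (hf.mem 0)⟩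
  let R : (Fin n → ZMod 2) → G := fun y => ((∏ a, pw (uu a) (y a) : ↥V) : G)
  have huu : ∀ a, uu a * uu a = 1 := fun a =>
    Subtype.ext (h.V_sq h2 (mul_mem (hf.mem a) (hf.mem 0)))
  have hRadd : ∀ y y', R (y + y') = R y * R y' := fun y y' => by
    simp only [R, Pi.add_apply]
    rw [← Subgroup.coe_mul, ← Finset.prod_mul_distrib]
    congr 1
    exact Finset.prod_congr rfl fun a _ => pw_add (huu a) _ _
  have hRd : ∀ a, R (fun i => dl a i) = u a * u 0 := fun a => by
    simp only [R]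
    rw [Finset.prod_eq_single a]
    · rw [dl_self, pw_one]
    · exact fun b _ hb => by rw [dl_ne (Ne.symm hb), pw_zero]
    · exact fun hh => absurd (Finset.mem_univ a) hh
  have hR0 : R 0 = 1 := by simp [R]
  suffices key : z ∈ V ∧ R (famW x z) = z by rw [h0, hR0] at key; exact key.2.symm
  refine closure_induction (p := fun w _ => w ∈ V ∧ R (famW x w) = w) ?_ ⟨one_mem _, by rw [famW_one, hR0]⟩
    ?_ ?_ hz
  · rintro _ ⟨a, b, rfl⟩
    refine ⟨mul_mem (hf.mem a) (hf.mem b), ?_⟩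
    rw [show famW x (u a * u b) = (fun i => dl a i) + fun i => dl b i from
      funext fun i => h.famW_centre h2 hf hodd a b i, hRadd, hRd, hRd, h.comm_V (hf.mem b) (hf.mem 0),
      mul_assoc, ← mul_assoc (u 0), h.V_sq h2 (hf.mem 0), one_mul]
  · rintro v w _ _ ⟨hv, ev⟩ ⟨hw, ew⟩
    refine ⟨mul_mem hv hw, ?_⟩
    rw [show famW x (v * w) = famW x v + famW x w from funext fun i => h.famW_add h2 hf hv hw i, hRadd, ev, ew]
  · rintro v _ ⟨hv, ev⟩
    rw [h.V_inv h2 hv]
    exact ⟨hv, ev⟩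

theorem famSpan_normalizer (h : Conf p V P T M A₀) (h2 : Nat.card ↥A₀ = 2) (hf : Fam V P A₀ n u x) :
    famGrp x ≤ normalizer (famSpan u : Set G) := by
  refine (closure_le _).2 ?_
  rintro _ ⟨i, j, hij, rfl⟩
  have ht := hf.tv i j hij
  have key : ∀ z ∈ famSpan u, x i j * z * (x i j)⁻¹ ∈ famSpan u := fun z hz => by
    rw [h.tv_conj h2 ht (famSpan_le hf hz)]
    exact mul_mem hz (pw_mem (hf.centre i j hij ▸ subset_closure ⟨i, j, rfl⟩) _)
  refine mem_normalizer_iff.2 fun z => ⟨key z, fun hz => ?_⟩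
  have := key _ hz
  rwa [show x i j * (x i j * z * (x i j)⁻¹) * (x i j)⁻¹ = x i j * x i j * z * (x i j * x i j)⁻¹ by group,
    h.tv_sq h2 ht, inv_one, one_mul, mul_one] at this

theorem fam_dec (h : Conf p V P T M A₀) (h2 : Nat.card ↥A₀ = 2) (hf : Fam V P A₀ n u x) (hodd : Odd n) :
    V ≤ fx V (famGrp x) ⊔ famSpan u := fun v hv => by
  obtain ⟨z, hz, hzv⟩ := h.famW_surj h2 hf hodd (famW x v) (h.famW_sum h2 hf hodd hv)
  have h1 : v * z ∈ fx V (famGrp x) := by
    refine (h.famW_eq_zero h2 hf hodd (mul_mem hv (famSpan_le hf hz))).1 (funext fun i => ?_)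
    rw [h.famW_add h2 hf hv (famSpan_le hf hz), hzv]
    exact CharTwo.add_self_eq_zero _
  have := mul_mem_sup h1 hz
  rwa [mul_assoc, h.V_sq h2 (famSpan_le hf hz), mul_one] at this

theorem fam_bracket (h : Conf p V P T M A₀) (h2 : Nat.card ↥A₀ = 2) (hf : Fam V P A₀ n u x) :
    ⁅V, famGrp x⁆ = famSpan u := by
  refine le_antisymm ?_ ((closure_le _).2 ?_)
  · have hle : famGrp x ≤ sSup (Subgroup.zpowers '' famSet x) :=
      (closure_le _).2 fun t ht => (le_sSup (Set.mem_image_of_mem Subgroup.zpowers ht) :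
        Subgroup.zpowers t ≤ sSup (Subgroup.zpowers '' famSet x)) (mem_zpowers t)
    refine (Subgroup.commutator_mono le_rfl hle).trans (h.bracket_sSup_le ?_ ?_ ?_)
    · rintro _ ⟨t, ht, rfl⟩
      exact zpowers_le.2 (h.tv_mem (famSet_tv hf ht))
    · rintro _ ⟨t, ht, rfl⟩
      exact zpowers_le.2 (h.famSpan_normalizer h2 hf (subset_closure ht))
    · rintro _ ⟨t, ⟨i, j, hij, rfl⟩, rfl⟩
      refine commutator_le.2 fun v hv w hw => ?_
      have htv := hf.tv i j hij
      obtain ⟨k, rfl⟩ := mem_zpowers_iff.1 hw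
      rcases Int.even_or_odd k with ⟨l, rfl⟩ | ⟨l, rfl⟩
      · rw [← two_mul, zpow_mul, zpow_two, h.tv_sq h2 htv, one_zpow, commutatorElement_one_right]
        exact one_mem _
      · rw [zpow_add, zpow_mul, zpow_two, h.tv_sq h2 htv, one_zpow, one_mul, zpow_one, h.tv_bracket h2 htv hv,
          hf.centre i j hij]
        exact pw_mem (Subgroup.subset_closure ⟨i, j, rfl⟩ : u i * u j ∈ famSpan u) _
  · rintro _ ⟨i, j, rfl⟩
    by_cases hij : i = j
    · subst hij
      rw [h.V_sq h2 (hf.mem i)]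
      exact one_mem _
    obtain ⟨-, -, v, hv, e⟩ := h.tvE_spec (hf.tv i j hij)
    rw [← hf.centre i j hij, ← e]
    exact commutator_mem_commutator hv (subset_closure ⟨i, j, hij, rfl⟩)

/-- A family of odd degree generates a symmetric group on its even-weight module. -/
theorem fam_block (h : Conf p V P T M A₀) (h2 : Nat.card ↥A₀ = 2) (hf : Fam V P A₀ n u x) (hodd : Odd n) :
    Nonempty (↥(famGrp x) ≃* Equiv.Perm (Fin n)) ∧
      Cfsg.ActsAsOddPermModuleOnSection n ⊤ (famGrp x) ⁅V, famGrp x⁆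
        (⁅V, famGrp x⁆ ⊓ centralizer (famGrp x : Set G)) := by
  classical
  have hn := hf.hn
  set E := famGrp x with hE
  have hEP : E ≤ P := h.famGrp_le hf
  have hEV : E ≤ normalizer (V : Set G) := hEP.trans h.hPV
  have hex : ∀ e : ↥E, ∃ σ : Equiv.Perm (Fin n), ∀ v ∈ V, ∀ i,
      famW x ((e : G) * v * (e : G)⁻¹) i = famW x v (σ⁻¹ i) := by
    intro e
    refine closure_induction (p := fun g _ => g ∈ P ∧ ∃ σ : Equiv.Perm (Fin n), ∀ v ∈ V, ∀ i,
      famW x (g * v * g⁻¹) i = famW x v (σ⁻¹ i)) ?_ ⟨one_mem _, 1, fun v _ i => by simp⟩ ?_ ?_ e.2 |>.2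
    · rintro _ ⟨i, j, hij, rfl⟩
      exact ⟨h.tv_mem (hf.tv i j hij), Equiv.swap i j, fun v hv l => by
        rw [h.famW_swap h2 hf hodd hv hij, Equiv.swap_inv]⟩
    · rintro g g' _ _ ⟨hg, σ, hσ⟩ ⟨hg', σ', hσ'⟩
      refine ⟨mul_mem hg hg', σ * σ', fun v hv i => ?_⟩
      rw [show g * g' * v * (g * g')⁻¹ = g * (g' * v * g'⁻¹) * g⁻¹ by group, hσ _ (h.conj_mem_V hg' hv),
        hσ' v hv, mul_inv_rev, Equiv.Perm.mul_apply]
    · rintro g _ ⟨hg, σ, hσ⟩
      refine ⟨inv_mem hg, σ⁻¹, fun v hv i => ?_⟩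
      have := hσ (g⁻¹ * v * g⁻¹⁻¹) (h.conj_mem_V (inv_mem hg) hv) (σ i)
      rw [show g * (g⁻¹ * v * g⁻¹⁻¹) * g⁻¹ = v by group, show σ⁻¹ (σ i) = i from σ.symm_apply_apply i] at this
      simp only [inv_inv] at this ⊢
      exact this.symm
  choose σ hσ using hex
  have huniq : ∀ {π π' : Equiv.Perm (Fin n)},
      (∀ v ∈ V, ∀ i, famW x v (π⁻¹ i) = famW x v (π'⁻¹ i)) → π = π' := by
    intro π π' hππ
    refine inv_injective (Equiv.ext fun i => ?_)
    by_contra hne
    obtain ⟨c, hc⟩ : ∃ c, c ∉ ({π⁻¹ i, π'⁻¹ i} : Finset (Fin n)) := by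
      by_contra hall
      push Not at hall
      have := Finset.card_le_card (fun c _ => hall c : Finset.univ ⊆ _)
      rw [Finset.card_univ, Fintype.card_fin] at this
      exact absurd (this.trans Finset.card_le_two) (by omega)
    simp only [Finset.mem_insert, Finset.mem_singleton, not_or] at hc
    have := hππ _ (mul_mem (hf.mem (π⁻¹ i)) (hf.mem c)) i
    rw [h.famW_centre h2 hf hodd, h.famW_centre h2 hf hodd, dl_self, dl_ne hc.1, dl_ne hne, dl_ne hc.2] at this
    exact (one_ne_zero : (1 : ZMod 2) ≠ 0) (by simpa using this)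
  let ρ : ↥E →* Equiv.Perm (Fin n) := MonoidHom.mk' σ fun a b => huniq fun v hv i => by
    rw [← hσ (a * b) v hv i, mul_inv_rev, Equiv.Perm.mul_apply, ← hσ b v hv, ← hσ a _ (h.conj_mem_V (hEP b.2) hv)]
    congr 1
    rw [Subgroup.coe_mul]
    group
  have hsurj : Function.Surjective ρ := by
    rw [← MonoidHom.range_eq_top, eq_top_iff, ← Equiv.Perm.closure_isSwap, closure_le]
    rintro π ⟨i, j, hij, rfl⟩
    refine ⟨⟨x i j, subset_closure ⟨i, j, hij, rfl⟩⟩, huniq fun v hv l => ?_⟩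
    show famW x v ((σ _)⁻¹ l) = _
    rw [← hσ _ v hv, h.famW_swap h2 hf hodd hv hij, Equiv.swap_inv]
  have hinj : Function.Injective ρ := by
    rw [injective_iff_map_eq_one]
    intro e he
    refine Subtype.ext (mem_bot.1 (h.hfaith ▸ mem_inf.2 ⟨hEP e.2, ?_⟩))
    have he' : σ e = 1 := he
    suffices hV : V ≤ centralizer ((zpowers (e : G) : Subgroup G) : Set G) from
      le_centralizer_iff.1 hV (mem_zpowers _)
    refine (h.fam_dec h2 hf hodd).trans (sup_le ?_ fun z hz => ?_)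
    · exact le_centralizer_iff.1 (zpowers_le.2 (le_centralizer_iff.1 inf_le_right e.2))
    · have hzV := famSpan_le hf hz
      have hz' : (e : G) * z * (e : G)⁻¹ ∈ famSpan u :=
        (mem_normalizer_iff.1 (h.famSpan_normalizer h2 hf e.2) z).1 hz
      have h0 : (e : G) * z * (e : G)⁻¹ * z = 1 := h.famSpan_inj h2 hf hodd (mul_mem hz' hz) (funext fun i => by
        rw [h.famW_add h2 hf (famSpan_le hf hz') hzV, hσ e z hzV, he', inv_one, Equiv.Perm.one_apply]
        exact CharTwo.add_self_eq_zero _)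
      have hfix : (e : G) * z * (e : G)⁻¹ = z := by
        rw [← mul_inv_eq_one, h.V_inv h2 hzV]; exact h0
      refine mem_centralizer_iff.2 fun w hw => ?_
      obtain ⟨k, rfl⟩ := mem_zpowers_iff.1 hw
      exact (Commute.zpow_left (mul_inv_eq_iff_eq_mul.1 hfix : Commute (e : G) z) k).eq
  have hU : ⁅V, E⁆ ≤ V := Subgroup.le_normalizer_iff_commutator_le_left.mp hEV
  let ψ : ↥⁅V, E⁆ →* Multiplicative (Fin n → ZMod 2) :=
    MonoidHom.mk' (fun z => Multiplicative.ofAdd (famW x (z : G))) fun a b => by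
      rw [← ofAdd_add, Subgroup.coe_mul]
      exact congrArg _ (funext fun i => h.famW_add h2 hf (hU a.2) (hU b.2) i)
  refine ⟨⟨MulEquiv.ofBijective ρ ⟨hinj, hsurj⟩⟩, bracket_self_normalizer hEV, inf_le_left, ρ, ψ,
    MonoidHom.range_eq_top.2 hsurj, fun z => h.famW_sum h2 hf hodd (hU z.2), fun y hy => ?_, fun z => ?_,
    fun e z => ⟨⟨(e : G) * z * (e : G)⁻¹,
      (mem_normalizer_iff.1 (bracket_self_normalizer hEV e.2) _).1 z.2⟩, rfl, fun i => hσ e z (hU z.2) i⟩⟩
  · obtain ⟨z, hz, hzy⟩ := h.famW_surj h2 hf hodd y hy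
    exact ⟨⟨z, (h.fam_bracket h2 hf).ge hz⟩, hzy⟩
  · show Multiplicative.ofAdd (famW x (z : G)) = 1 ↔ _
    rw [ofAdd_eq_one, h.famW_eq_zero h2 hf hodd (hU z.2)]
    exact ⟨fun hh => ⟨z.2, hh.2⟩, fun hh => ⟨hU z.2, hh.2⟩⟩

end Conf
end Cfsg.Lib.Local.PMinOff
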