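import Cfsg.Agent.Lib.Local.PMinOff.TwoTv

/-!
# Best offenders in `p`-minimal groups: families of transvections

A family behaves as the transpositions of a symmetric group; every transvection lies in a maximal family, which
is closed, and such a family has odd degree.
-/

set_option autoImplicit false
set_option linter.style.haveILetI false

namespace Cfsg.Lib.Local.PMinOff

open Subgroup
open scoped commutatorElement
open OffenderPair (fx)

variable {G : Type*} [Group G] {p : ℕ} {V P T M A₀ : Subgroup G}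

/-- The Kronecker symbol in `ZMod 2`. -/
def dl {α : Type*} [DecidableEq α] (i k : α) : ZMod 2 := if i = k then 1 else 0

theorem dl_self {α : Type*} [DecidableEq α] (i : α) : dl i i = 1 := if_pos rfl

theorem dl_ne {α : Type*} [DecidableEq α] {i k : α} (h : i ≠ k) : dl i k = 0 := if_neg h

/-- Transvections behaving as the transpositions on `n` letters. -/
structure Fam (V P A₀ : Subgroup G) (n : ℕ) (u : Fin n → G) (x : Fin n → Fin n → G) : Prop where
  hn : 3 ≤ n
  mem : ∀ i, u i ∈ V
  tv : ∀ i j, i ≠ j → IsTv P A₀ (x i j)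
  centre : ∀ i j, i ≠ j → tvE V (x i j) = u i * u j
  form : ∀ i j, i ≠ j → ∃ c, ∀ k, tvF (x i j) (u k) = c + dl i k + dl j k
  disj : ∀ i j k l, i ≠ j → k ≠ l → i ≠ k → i ≠ l → j ≠ k → j ≠ l → x i j ≠ x k l

/-- The transvections of a family. -/
def famSet {n : ℕ} (x : Fin n → Fin n → G) : Set G := {t | ∃ i j, i ≠ j ∧ t = x i j}

/-- A family outside of which every transvection centralizes it. -/
def Closed (P A₀ : Subgroup G) {n : ℕ} (x : Fin n → Fin n → G) : Prop :=
  ∀ d, IsTv P A₀ d → d ∈ famSet x ∨ ∀ t ∈ famSet x, d * t = t * d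

namespace Conf

variable [Finite G] [Fact p.Prime] {n : ℕ} {u : Fin n → G} {x : Fin n → Fin n → G}

theorem fam_F (h : Conf p V P T M A₀) (h2 : Nat.card ↥A₀ = 2) (hf : Fam V P A₀ n u x) {i j : Fin n}
    (hij : i ≠ j) (k l : Fin n) :
    tvF (x i j) (u k * u l) = dl i k + dl j k + dl i l + dl j l := by
  obtain ⟨c, hc⟩ := hf.form i j hij
  rw [h.tvF_mul h2 (hf.tv i j hij) (hf.mem k) (hf.mem l), hc, hc]
  linear_combination (CharTwo.add_self_eq_zero c)

theorem fam_pair (h : Conf p V P T M A₀) (h2 : Nat.card ↥A₀ = 2) (hf : Fam V P A₀ n u x) {i j k l : Fin n}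
    (hij : i ≠ j) (hkl : k ≠ l) :
    tvF (x i j) (tvE V (x k l)) = dl i k + dl j k + dl i l + dl j l := by
  rw [hf.centre k l hkl, h.fam_F h2 hf hij]

theorem fam_symm (h : Conf p V P T M A₀) (h2 : Nat.card ↥A₀ = 2) (hf : Fam V P A₀ n u x) {i j : Fin n}
    (hij : i ≠ j) : x j i = x i j :=
  h.tvE_inj h2 (hf.tv j i hij.symm) (hf.tv i j hij)
    (by rw [hf.centre j i hij.symm, hf.centre i j hij, h.comm_V (hf.mem j) (hf.mem i)])

theorem fam_share (h : Conf p V P T M A₀) (h2 : Nat.card ↥A₀ = 2) (hf : Fam V P A₀ n u x) {i j k : Fin n}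
    (hij : i ≠ j) (hik : i ≠ k) (hjk : j ≠ k) : x i j * x j k ≠ x j k * x i j := fun e => by
  have := (h.tv_comm_iff h2 (hf.tv i j hij) (hf.tv j k hjk)).1 e
  rw [h.fam_pair h2 hf hij hjk, dl_ne hij, dl_self, dl_ne hik, dl_ne hjk] at this
  exact absurd this (by decide)

theorem fam_inj_left (h : Conf p V P T M A₀) (h2 : Nat.card ↥A₀ = 2) (hf : Fam V P A₀ n u x) {i j k : Fin n}
    (hij : i ≠ j) (hik : i ≠ k) (e : x i j = x i k) : j = k := by
  by_contra hjk
  refine h.fam_share h2 hf hij.symm hjk hik ?_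
  rw [h.fam_symm h2 hf hij, e]

theorem fam_bound (h : Conf p V P T M A₀) (h2 : Nat.card ↥A₀ = 2) (hf : Fam V P A₀ n u x) :
    n ≤ Nat.card G + 1 := by
  haveI : NeZero n := ⟨by have := hf.hn; omega⟩
  let φ : {j : Fin n // j ≠ 0} → G := fun j => x 0 j
  have hφ : Function.Injective φ := fun a b e =>
    Subtype.ext (h.fam_inj_left h2 hf (Ne.symm a.2) (Ne.symm b.2) e)
  have := Nat.card_le_card_of_injective φ hφ
  rw [Nat.card_eq_fintype_card, Fintype.card_subtype_compl, Fintype.card_subtype_eq, Fintype.card_fin] at this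
  omega

omit [Finite G] [Fact p.Prime] in
theorem famSet_tv (hf : Fam V P A₀ n u x) {t : G} (ht : t ∈ famSet x) : IsTv P A₀ t := by
  obtain ⟨i, j, hij, rfl⟩ := ht
  exact hf.tv i j hij

/-- A transvection moving exactly one letter extends the family. -/
theorem fam_extend (h : Conf p V P T M A₀) (h2 : Nat.card ↥A₀ = 2) (hf : Fam V P A₀ n u x) {d : G}
    (hd : IsTv P A₀ d) (hdx : d ∉ famSet x) {c : ZMod 2} {k : Fin n}
    (hχ : ∀ l, tvF d (u l) = c + dl k l) :
    ∃ (u' : Fin (n + 1) → G) (x' : Fin (n + 1) → Fin (n + 1) → G),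
      Fam V P A₀ (n + 1) u' x' ∧ famSet x ⊆ famSet x' := by
  classical
  have hEd := (h.tvE_spec hd).1
  have sy : ∀ {t t' : G}, IsTv P A₀ t → IsTv P A₀ t' → tvF t (tvE V t') = tvF t' (tvE V t) :=
    fun ht ht' => h.tv_symm h2 ht ht'
  have hd1 : ∀ {i j : Fin n}, i ≠ j → tvF d (tvE V (x i j)) = dl k i + dl k j := fun {i j} hij => by
    rw [hf.centre i j hij, h.tvF_mul h2 hd (hf.mem i) (hf.mem j), hχ, hχ]
    linear_combination (CharTwo.add_self_eq_zero c)
  let nw : Fin n → G := fun j => if j = k then d else d * x j k * d⁻¹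
  have hnw : ∀ j, IsTv P A₀ (nw j) ∧ tvE V (nw j) = u j * (u k * tvE V d) ∧
      ∃ c', (∀ l, tvF (nw j) (u l) = c' + dl j l) ∧ tvF (nw j) (u k * tvE V d) = c' + 1 := by
    intro j
    by_cases hjk : j = k
    · rw [show nw j = d from if_pos hjk]
      subst hjk
      refine ⟨hd, by rw [← mul_assoc, h.V_sq h2 (hf.mem j), one_mul], c, hχ, ?_⟩
      rw [h.tvF_mul h2 hd (hf.mem j) hEd, hχ, h.tvF_self hd, dl_self, add_zero]
    rw [show nw j = d * x j k * d⁻¹ from if_neg hjk]
    have ht := hf.tv j k hjk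
    obtain ⟨e1, e2⟩ := h.tv_move h2 ht hd
    have hone : tvF d (tvE V (x j k)) = 1 := by
      rw [hd1 hjk, dl_ne (Ne.symm hjk), dl_self]; rfl
    have hone' : tvF (x j k) (tvE V d) = 1 := (sy ht hd).trans hone
    refine ⟨conj_isTv_iff (h.tv_mem hd) ht, by rw [e1, hone, pw_one, hf.centre j k hjk, mul_assoc], ?_⟩
    obtain ⟨c₁, hc₁⟩ := hf.form j k hjk
    refine ⟨c₁ + c, fun l => ?_, ?_⟩
    · rw [e2 _ (hf.mem l), hone', mul_one, hc₁, hχ]
      linear_combination (CharTwo.add_self_eq_zero (dl k l))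
    · rw [e2 _ (mul_mem (hf.mem k) hEd), hone', mul_one, h.tvF_mul h2 ht (hf.mem k) hEd, hc₁, hone',
        h.tvF_mul h2 hd (hf.mem k) hEd, hχ, h.tvF_self hd, dl_ne hjk, dl_self]
      linear_combination (CharTwo.add_self_eq_zero (1 : ZMod 2))
  have hold : ∀ {i j : Fin n}, i ≠ j → ∀ c₀ : ZMod 2,
      (∀ l, tvF (x i j) (u l) = c₀ + dl i l + dl j l) → tvF (x i j) (u k * tvE V d) = c₀ := fun {i j} hij c₀ hc₀ => by
    rw [h.tvF_mul h2 (hf.tv i j hij) (hf.mem k) hEd, hc₀, sy (hf.tv i j hij) hd, hd1 hij,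
      show dl k i = dl i k by simp [dl, eq_comm], show dl k j = dl j k by simp [dl, eq_comm]]
    linear_combination (CharTwo.add_self_eq_zero (dl i k)) + (CharTwo.add_self_eq_zero (dl j k))
  have hnd : ∀ {j i l : Fin n}, i ≠ l → j ≠ i → j ≠ l → nw j ≠ x i l := by
    intro j i l hil hji hjl e
    by_cases hjk : j = k
    · exact hdx ⟨i, l, hil, (if_pos hjk).symm.trans e⟩
    obtain ⟨-, hE, c', hF, -⟩ := hnw j
    obtain ⟨c₀, hc₀⟩ := hf.form i l hil
    by_cases hk : k = i ∨ k = l
    · refine hdx ?_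
      rcases hk with rfl | rfl
      · refine ⟨j, l, hjl, h.tvE_inj h2 hd (hf.tv j l hjl) ?_⟩
        rw [e, hf.centre k l hil] at hE
        rw [hf.centre j l hjl]
        calc tvE V d = (u j * u k)⁻¹ * (u j * (u k * tvE V d)) := by group
          _ = (u j * u k)⁻¹ * (u k * u l) := by rw [← hE]
          _ = u j * u l := by
            rw [mul_inv_rev, h.V_inv h2 (hf.mem j), h.V_inv h2 (hf.mem k), h.comm_V (hf.mem k) (hf.mem j),
              mul_assoc, ← mul_assoc (u k), h.V_sq h2 (hf.mem k), one_mul]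
      · refine ⟨j, i, hji, h.tvE_inj h2 hd (hf.tv j i hji) ?_⟩
        rw [e, hf.centre i k hil, h.comm_V (hf.mem i) (hf.mem k)] at hE
        rw [hf.centre j i hji]
        calc tvE V d = (u j * u k)⁻¹ * (u j * (u k * tvE V d)) := by group
          _ = (u j * u k)⁻¹ * (u k * u i) := by rw [← hE]
          _ = u j * u i := by
            rw [mul_inv_rev, h.V_inv h2 (hf.mem j), h.V_inv h2 (hf.mem k), h.comm_V (hf.mem k) (hf.mem j),
              mul_assoc, ← mul_assoc (u k), h.V_sq h2 (hf.mem k), one_mul]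
    push Not at hk
    have h1 : ∀ m, c' + dl j m = c₀ + dl i m + dl l m := fun m => (hF m).symm.trans (e ▸ hc₀ m)
    have hA := h1 j
    have hB := h1 k
    rw [dl_self, dl_ne hji.symm, dl_ne hjl.symm, add_zero, add_zero] at hA
    rw [dl_ne hjk, dl_ne (Ne.symm hk.1), dl_ne (Ne.symm hk.2), add_zero, add_zero, add_zero] at hB
    rw [hB] at hA
    exact one_ne_zero (add_eq_left.1 hA)
  let u' : Fin (n + 1) → G := Fin.lastCases (u k * tvE V d) u
  let x' : Fin (n + 1) → Fin (n + 1) → G :=
    Fin.lastCases (Fin.lastCases 1 nw) fun i => Fin.lastCases (nw i) (x i)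
  have hdl : ∀ a b : Fin n, dl a.castSucc b.castSucc = dl a b := fun a b => by simp [dl]
  have hdl1 : ∀ a : Fin n, dl a.castSucc (Fin.last n) = 0 := fun a => dl_ne (Fin.castSucc_ne_last a)
  have hdl2 : ∀ a : Fin n, dl (Fin.last n) a.castSucc = 0 := fun a => dl_ne (Fin.castSucc_ne_last a).symm
  refine ⟨u', x', ⟨Nat.le_succ_of_le hf.hn, fun i => ?_, ?_, ?_, ?_, ?_⟩, ?_⟩
  · induction i using Fin.lastCases with
    | last => simpa [u'] using mul_mem (hf.mem k) hEd
    | cast i => simpa [u'] using hf.mem i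
  · intro i j hij
    induction i using Fin.lastCases with
    | last =>
      induction j using Fin.lastCases with
      | last => exact absurd rfl hij
      | cast j => simpa [x'] using (hnw j).1
    | cast i =>
      induction j using Fin.lastCases with
      | last => simpa [x'] using (hnw i).1
      | cast j => simpa [x'] using hf.tv i j fun e => hij (congrArg _ e)
  · intro i j hij
    induction i using Fin.lastCases with
    | last =>
      induction j using Fin.lastCases with
      | last => exact absurd rfl hij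
      | cast j => simp [x', u', (hnw j).2.1, h.comm_V (hf.mem j) (mul_mem (hf.mem k) hEd)]
    | cast i =>
      induction j using Fin.lastCases with
      | last => simp [x', u', (hnw i).2.1]
      | cast j => simp [x', u', hf.centre i j fun e => hij (congrArg _ e)]
  · intro i j hij
    induction i using Fin.lastCases with
    | last =>
      induction j using Fin.lastCases with
      | last => exact absurd rfl hij
      | cast j =>
        obtain ⟨-, -, c', hF, hlast⟩ := hnw j
        refine ⟨c', fun l => ?_⟩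
        induction l using Fin.lastCases with
        | last => simp [x', u', hlast, hdl1, dl_self]
        | cast l => simp [x', u', hF, hdl2, hdl]
    | cast i =>
      induction j using Fin.lastCases with
      | last =>
        obtain ⟨-, -, c', hF, hlast⟩ := hnw i
        refine ⟨c', fun l => ?_⟩
        induction l using Fin.lastCases with
        | last => simp [x', u', hlast, hdl1, dl_self]
        | cast l => simp [x', u', hF, hdl2, hdl]
      | cast j =>
        have hij' : i ≠ j := fun e => hij (congrArg _ e)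
        obtain ⟨c₀, hc₀⟩ := hf.form i j hij'
        refine ⟨c₀, fun l => ?_⟩
        induction l using Fin.lastCases with
        | last => simp [x', u', hold hij' c₀ hc₀, hdl1]
        | cast l => simp [x', u', hc₀, hdl]
  · intro i j k' l hij hkl hik hil hjk hjl
    have cs : ∀ {a b : Fin n}, a.castSucc ≠ b.castSucc → a ≠ b := fun hab e => hab (congrArg _ e)
    induction i using Fin.lastCases with
    | last =>
      induction j using Fin.lastCases with
      | last => exact absurd rfl hij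
      | cast j =>
        induction k' using Fin.lastCases with
        | last => exact absurd rfl hik
        | cast k' =>
          induction l using Fin.lastCases with
          | last => exact absurd rfl hil
          | cast l => simpa [x'] using hnd (cs hkl) (cs hjk) (cs hjl)
    | cast i =>
      induction j using Fin.lastCases with
      | last =>
        induction k' using Fin.lastCases with
        | last => exact absurd rfl hjk
        | cast k' =>
          induction l using Fin.lastCases with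
          | last => exact absurd rfl hjl
          | cast l => simpa [x'] using hnd (cs hkl) (cs hik) (cs hil)
      | cast j =>
        induction k' using Fin.lastCases with
        | last =>
          induction l using Fin.lastCases with
          | last => exact absurd rfl hkl
          | cast l => simpa [x'] using (hnd (cs hij) (cs hil).symm (cs hjl).symm).symm
        | cast k' =>
          induction l using Fin.lastCases with
          | last => simpa [x'] using (hnd (cs hij) (cs hik).symm (cs hjk).symm).symm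
          | cast l => simpa [x'] using hf.disj i j k' l (cs hij) (cs hkl) (cs hik) (cs hil) (cs hjk) (cs hjl)
  · rintro t ⟨i, j, hij, rfl⟩
    exact ⟨i.castSucc, j.castSucc, fun e => hij (Fin.castSucc_injective _ e), by simp [x']⟩

/-- The family of a noncommuting pair. -/
theorem fam_start (h : Conf p V P T M A₀) (h2 : Nat.card ↥A₀ = 2) {a b : G} (ha : IsTv P A₀ a)
    (hb : IsTv P A₀ b) (hab : tvF a (tvE V b) = 1) :
    ∃ (u : Fin 3 → G) (x : Fin 3 → Fin 3 → G), Fam V P A₀ 3 u x ∧ a ∈ famSet x ∧ b ∈ famSet x := by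
  have hEa := (h.tvE_spec ha).1
  have hEb := (h.tvE_spec hb).1
  have hba : tvF b (tvE V a) = 1 := (h.tv_symm h2 hb ha).trans hab
  obtain ⟨e1, e2⟩ := h.tv_move h2 ha hb
  rw [hba, pw_one] at e1
  set c := b * a * b⁻¹
  have hc : IsTv P A₀ c := conj_isTv_iff (h.tv_mem hb) ha
  let u : Fin 3 → G := ![1, tvE V a, tvE V a * tvE V b]
  let x : Fin 3 → Fin 3 → G := ![![1, a, c], ![a, 1, b], ![c, b, 1]]
  have hm : tvE V a * tvE V b ∈ V := mul_mem hEa hEb
  have fa : ∀ k, tvF a (u k) = 1 + dl 0 k + dl 1 k := fun k => by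
    fin_cases k <;> simp [u, dl, tvF_one, h.tvF_self ha, h.tvF_mul h2 ha hEa hEb, hab, CharTwo.add_self_eq_zero]
  have fb : ∀ k, tvF b (u k) = 0 + dl 1 k + dl 2 k := fun k => by
    fin_cases k <;> simp [u, dl, tvF_one, h.tvF_self hb, h.tvF_mul h2 hb hEa hEb, hba]
  have fc : ∀ k, tvF c (u k) = 1 + dl 0 k + dl 2 k := fun k => by
    have hu : u k ∈ V := by fin_cases k <;> simp [u, hEa, hm]
    rw [e2 _ hu, hab, mul_one, fa, fb]
    linear_combination (CharTwo.add_self_eq_zero (dl (1 : Fin 3) k))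
  have hca : tvE V a * (tvE V a * tvE V b) = tvE V b := by rw [← mul_assoc, h.V_sq h2 hEa, one_mul]
  refine ⟨u, x, ⟨le_rfl, fun i => ?_, fun i j hij => ?_, fun i j hij => ?_, fun i j hij => ?_, ?_⟩,
    ⟨0, 1, by decide, by simp [x]⟩, ⟨1, 2, by decide, by simp [x]⟩⟩
  · fin_cases i <;> simp [u, hEa, hm]
  · fin_cases i <;> fin_cases j <;> first | exact absurd rfl hij | simp [x, ha, hb, hc]
  · fin_cases i <;> fin_cases j <;> first | exact absurd rfl hij |
      simp [x, u, e1, hca, h.comm_V hm hEa]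
  · fin_cases i <;> fin_cases j <;> first
      | exact absurd rfl hij
      | exact ⟨1, fun k => fa k⟩
      | exact ⟨0, fun k => fb k⟩
      | exact ⟨1, fun k => fc k⟩
      | exact ⟨1, fun k => (fa k).trans (add_right_comm _ _ _)⟩
      | exact ⟨0, fun k => (fb k).trans (add_right_comm _ _ _)⟩
      | exact ⟨1, fun k => (fc k).trans (add_right_comm _ _ _)⟩
  · intro i j k l hij hkl hik hil hjk hjl
    omega

/-- A maximal family is closed. -/
theorem fam_closed (h : Conf p V P T M A₀) (h2 : Nat.card ↥A₀ = 2) (hf : Fam V P A₀ n u x)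
    (hmax : ∀ (u' : Fin (n + 1) → G) (x' : Fin (n + 1) → Fin (n + 1) → G),
      Fam V P A₀ (n + 1) u' x' → ¬ famSet x ⊆ famSet x') : Closed P A₀ x := by
  classical
  intro d hd
  refine or_iff_not_imp_left.2 fun hdx => ?_
  set χ := fun l => tvF d (u l) with hχ
  have hval : ∀ {i j : Fin n}, i ≠ j → tvF d (tvE V (x i j)) = χ i + χ j := fun {i j} hij => by
    rw [hf.centre i j hij, h.tvF_mul h2 hd (hf.mem i) (hf.mem j)]
  by_cases hconst : ∀ i j, χ i = χ j
  · rintro t ⟨i, j, hij, rfl⟩
    exact (h.tv_comm_iff h2 hd (hf.tv i j hij)).2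
      (by rw [hval hij, hconst i j]; exact CharTwo.add_self_eq_zero _)
  push Not at hconst
  obtain ⟨a, e, hae⟩ := hconst
  exfalso
  have single : ∀ k, (∀ l, l ≠ k → χ l ≠ χ k) → False := fun k hk => by
    obtain ⟨u', x', hf', hsub⟩ := h.fam_extend h2 hf hd hdx (c := χ k + 1) (k := k) fun l => by
      by_cases hl : l = k
      · subst hl
        rw [dl_self]
        linear_combination -(CharTwo.add_self_eq_zero (1 : ZMod 2))
      · rw [dl_ne (Ne.symm hl), add_zero]
        have := hk l hl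
        change χ l = χ k + 1
        revert this
        rcases z2_cases (χ l) with q | q <;> rcases z2_cases (χ k) with q' | q' <;> rw [q, q'] <;> decide
    exact hmax u' x' hf' hsub
  obtain ⟨b, hb, hba⟩ : ∃ b, b ≠ a ∧ χ b = χ a := by
    by_contra hno
    push Not at hno
    exact single a hno
  obtain ⟨g, hg, hge⟩ : ∃ g, g ≠ e ∧ χ g = χ e := by
    by_contra hno
    push Not at hno
    exact single e hno
  have hab : a ≠ b := hb.symm
  have heg : e ≠ g := hg.symm
  have hae' : a ≠ e := fun h' => hae (congrArg χ h')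
  have hag : a ≠ g := fun h' => hae ((congrArg χ h').trans hge)
  have hbe : b ≠ e := fun h' => hae (hba.symm.trans (congrArg χ h'))
  have hbg : b ≠ g := fun h' => hae (hba.symm.trans ((congrArg χ h').trans hge))
  have hsum : χ a + χ e = 1 := by
    revert hae
    rcases z2_cases (χ a) with q | q <;> rcases z2_cases (χ e) with q' | q' <;> rw [q, q'] <;> decide
  have sy : ∀ {t t' : G}, IsTv P A₀ t → IsTv P A₀ t' → tvF t (tvE V t') = tvF t' (tvE V t) :=
    fun ht ht' => h.tv_symm h2 ht ht'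
  have hT1 := hf.tv a b hab
  have hT2 := hf.tv e g heg
  refine h.no_claw h2 hT1 hT2 hd (hf.tv a e hae') (hf.disj a b e g hab heg hae' hag hbe hbg)
    (fun q => hdx ⟨a, b, hab, q.symm⟩) (fun q => hdx ⟨e, g, heg, q.symm⟩) ?_ ?_ ?_ ?_ ?_ ?_
  · rw [h.fam_pair h2 hf hab heg, dl_ne hae', dl_ne hbe, dl_ne hag, dl_ne hbg]; rfl
  · rw [sy hT1 hd, hval hab, hba]; exact CharTwo.add_self_eq_zero _
  · rw [sy hT2 hd, hval heg, hge]; exact CharTwo.add_self_eq_zero _
  · rw [h.fam_pair h2 hf hab hae', dl_self, dl_ne hab.symm, dl_ne hae', dl_ne hbe]; rfl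
  · rw [h.fam_pair h2 hf heg hae', dl_ne hae'.symm, dl_ne hag.symm, dl_self, dl_ne heg.symm]; rfl
  · rw [hval hae', hsum]

/-- A closed family through a transvection and a noncommuting partner. -/
theorem exists_closed (h : Conf p V P T M A₀) (h2 : Nat.card ↥A₀ = 2) {a b : G} (ha : IsTv P A₀ a)
    (hb : IsTv P A₀ b) (hab : tvF a (tvE V b) = 1) :
    ∃ (n : ℕ) (u : Fin n → G) (x : Fin n → Fin n → G), Fam V P A₀ n u x ∧ Closed P A₀ x ∧
      a ∈ famSet x ∧ b ∈ famSet x := by
  classical
  let Q : ℕ → Prop := fun n => ∃ (u : Fin n → G) (x : Fin n → Fin n → G),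
    Fam V P A₀ n u x ∧ a ∈ famSet x ∧ b ∈ famSet x
  have h3 : Q 3 := h.fam_start h2 ha hb hab
  have hbd : ∀ n, Q n → n ≤ Nat.card G + 1 := fun n ⟨_, _, hf, _⟩ => h.fam_bound h2 hf
  obtain ⟨u, x, hf, ha', hb'⟩ : Q (Nat.findGreatest Q (Nat.card G + 1)) :=
    Nat.findGreatest_spec (hbd 3 h3) h3
  refine ⟨_, u, x, hf, h.fam_closed h2 hf fun u' x' hf' hsub => ?_, ha', hb'⟩
  exact Nat.findGreatest_is_greatest (Nat.lt_succ_self _) (h.fam_bound h2 hf')
    ⟨u', x', hf', hsub ha', hsub hb'⟩

/-- Two closed families with a common transvection coincide. -/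
theorem closed_eq (h : Conf p V P T M A₀) (h2 : Nat.card ↥A₀ = 2) (hf : Fam V P A₀ n u x)
    (hc : Closed P A₀ x) {n' : ℕ} {u' : Fin n' → G} {x' : Fin n' → Fin n' → G} (hf' : Fam V P A₀ n' u' x')
    (hc' : Closed P A₀ x') {t : G} (ht : t ∈ famSet x) (ht' : t ∈ famSet x') : famSet x = famSet x' := by
  suffices key : ∀ {m m' : ℕ} {u₁ : Fin m → G} {x₁ : Fin m → Fin m → G} {x₂ : Fin m' → Fin m' → G},
      Fam V P A₀ m u₁ x₁ → Closed P A₀ x₂ → t ∈ famSet x₁ → t ∈ famSet x₂ → famSet x₁ ⊆ famSet x₂ from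
    Set.Subset.antisymm (key hf hc' ht ht') (key hf' hc ht' ht)
  intro m m' u₁ x₁ x₂ hg hcl h1 h1'
  obtain ⟨i, j, hij, rfl⟩ := h1
  have step : ∀ {a b c : Fin m}, a ≠ b → a ≠ c → b ≠ c → x₁ a b ∈ famSet x₂ → x₁ b c ∈ famSet x₂ :=
    fun {a b c} hab hac hbc hmem => (hcl _ (hg.tv b c hbc)).resolve_right fun hall =>
      h.fam_share h2 hg hab hac hbc (hall _ hmem).symm
  have hji : x₁ j i ∈ famSet x₂ := h.fam_symm h2 hg hij ▸ h1'
  have hrow : ∀ b, b ≠ i → x₁ i b ∈ famSet x₂ := fun b hbi => by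
    by_cases hbj : b = j
    · exact hbj ▸ h1'
    · exact step hij.symm (Ne.symm hbj) hbi.symm hji
  rintro s ⟨a, b, hab, rfl⟩
  by_cases hai : a = i
  · subst hai; exact hrow b (Ne.symm hab)
  by_cases hbi : b = i
  · subst hbi
    rw [h.fam_symm h2 hg hab.symm]
    exact hrow a hab
  exact step (Ne.symm hai) (Ne.symm hbi) hab (hrow a hai)

/-- A set of even size is covered by pairwise commuting transvections of a family. -/
theorem fam_matching (h : Conf p V P T M A₀) (h2 : Nat.card ↥A₀ = 2) (hf : Fam V P A₀ n u x) :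
    ∀ (m : ℕ) (R : Finset (Fin n)), R.card = 2 * m → ∃ S : Set G,
      (∀ s ∈ S, ∃ i ∈ R, ∃ j ∈ R, i ≠ j ∧ s = x i j) ∧ (∀ s ∈ S, ∀ s' ∈ S, s * s' = s' * s) ∧
      (letI : CommGroup ↥V :=
        { (inferInstance : Group ↥V) with mul_comm := fun a b => Subtype.ext (h.comm_V a.2 b.2) }
       ((∏ k ∈ R, (⟨u k, hf.mem k⟩ : ↥V) : ↥V) : G) ∈ closure (tvE V '' S)) := by
  classical
  letI : CommGroup ↥V :=
    { (inferInstance : Group ↥V) with mul_comm := fun a b => Subtype.ext (h.comm_V a.2 b.2) }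
  intro m
  induction m with
  | zero =>
    intro R hR
    rw [Finset.card_eq_zero.1 (by omega : R.card = 0)]
    exact ⟨∅, by simp, by simp, by simp⟩
  | succ m ih =>
    intro R hR
    obtain ⟨i, hi⟩ := Finset.card_pos.1 (by omega : 0 < R.card)
    obtain ⟨j, hj⟩ := Finset.card_pos.1
      (by rw [Finset.card_erase_of_mem hi]; omega : 0 < (R.erase i).card)
    have hji := Finset.ne_of_mem_erase hj
    obtain ⟨S, hS, hScomm, hprod⟩ := ih ((R.erase i).erase j)
      (by rw [Finset.card_erase_of_mem hj, Finset.card_erase_of_mem hi]; omega)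
    have hc : ∀ s ∈ S, x i j * s = s * x i j := by
      intro s hs
      obtain ⟨k, hk, l, hl, hkl, rfl⟩ := hS s hs
      simp only [Finset.mem_erase] at hk hl
      refine (h.tv_comm_iff h2 (hf.tv i j hji.symm) (hf.tv k l hkl)).2 ?_
      rw [h.fam_pair h2 hf hji.symm hkl, dl_ne hk.2.1.symm, dl_ne hk.1.symm, dl_ne hl.2.1.symm,
        dl_ne hl.1.symm]
      rfl
    refine ⟨insert (x i j) S, ?_, ?_, ?_⟩
    · rintro s (rfl | hs)
      · exact ⟨i, hi, j, Finset.mem_of_mem_erase hj, hji.symm, rfl⟩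
      · obtain ⟨k, hk, l, hl, hkl, rfl⟩ := hS s hs
        simp only [Finset.mem_erase] at hk hl
        exact ⟨k, hk.2.2, l, hl.2.2, hkl, rfl⟩
    · rintro s (rfl | hs) s' (rfl | hs')
      · rfl
      · exact hc s' hs'
      · exact (hc s hs).symm
      · exact hScomm s hs s' hs'
    · rw [← Finset.mul_prod_erase R _ hi, ← Finset.mul_prod_erase (R.erase i) _ hj, ← mul_assoc, Subgroup.coe_mul,
        Subgroup.coe_mul]
      exact mul_mem (subset_closure ⟨x i j, Set.mem_insert _ _, hf.centre i j hji.symm⟩)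
        (closure_mono (Set.image_mono (Set.subset_insert _ _)) hprod)

/-- A closed family has odd degree. -/
theorem fam_odd (h : Conf p V P T M A₀) (h2 : Nat.card ↥A₀ = 2) (hf : Fam V P A₀ n u x)
    (hcl : Closed P A₀ x) : Odd n := by
  classical
  letI : CommGroup ↥V :=
    { (inferInstance : Group ↥V) with mul_comm := fun a b => Subtype.ext (h.comm_V a.2 b.2) }
  rw [← Nat.not_even_iff_odd]
  rintro ⟨m, hm⟩
  have hn := hf.hn
  let uu : Fin n → ↥V := fun k => ⟨u k, hf.mem k⟩
  set P₀ : G := ((∏ k, uu k : ↥V) : G) with hP₀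
  have hlin : ∀ d, IsTv P A₀ d → ∀ R : Finset (Fin n),
      tvF d ((∏ k ∈ R, uu k : ↥V) : G) = ∑ k ∈ R, tvF d (u k) := by
    intro d hd R
    induction R using Finset.induction_on with
    | empty => simp [tvF_one]
    | insert k R hk ih =>
      rw [Finset.prod_insert hk, Finset.sum_insert hk, Subgroup.coe_mul,
        h.tvF_mul h2 hd (hf.mem k) (Subtype.prop _), ih]
  have hcast : (n : ZMod 2) = 0 := by rw [hm]; push_cast; exact CharTwo.add_self_eq_zero _
  have hfix : ∀ d, IsTv P A₀ d → tvF d P₀ = 0 := by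
    intro d hd
    rw [hP₀, hlin d hd]
    rcases hcl d hd with ⟨i, j, hij, rfl⟩ | hall
    · obtain ⟨c, hc⟩ := hf.form i j hij
      simp only [hc, Finset.sum_add_distrib, Finset.sum_const, Finset.card_univ, Fintype.card_fin, nsmul_eq_mul,
        hcast, zero_mul, zero_add, dl, Finset.sum_ite_eq, Finset.mem_univ, if_true]
      exact CharTwo.add_self_eq_zero _
    · have i₀ : Fin n := ⟨0, by omega⟩
      rw [Finset.sum_congr rfl (fun k _ => show tvF d (u k) = tvF d (u i₀) from ?_), Finset.sum_const,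
        Finset.card_univ, Fintype.card_fin, nsmul_eq_mul, hcast, zero_mul]
      rcases eq_or_ne i₀ k with rfl | hne
      · rfl
      have := (h.tv_comm_iff h2 hd (hf.tv i₀ k hne)).1 (hall _ ⟨i₀, k, hne, rfl⟩)
      rw [hf.centre i₀ k hne, h.tvF_mul h2 hd (hf.mem i₀) (hf.mem k)] at this
      exact (CharTwo.add_eq_zero.1 this).symm
  let a : Fin n := ⟨0, by omega⟩
  let b : Fin n := ⟨1, by omega⟩
  have hab : a ≠ b := by simp [a, b, Fin.ext_iff]
  have hb : b ∈ Finset.univ.erase a := Finset.mem_erase.2 ⟨hab.symm, Finset.mem_univ _⟩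
  obtain ⟨S, hS, hScomm, hprod⟩ := h.fam_matching h2 hf (m - 1) ((Finset.univ.erase a).erase b)
    (by rw [Finset.card_erase_of_mem hb, Finset.card_erase_of_mem (Finset.mem_univ a), Finset.card_univ,
      Fintype.card_fin]; omega)
  set t := x a b
  have hStv : ∀ s ∈ insert t S, IsTv P A₀ s := by
    rintro s (rfl | hs)
    · exact hf.tv a b hab
    · obtain ⟨k, -, l, -, hkl, rfl⟩ := hS s hs
      exact hf.tv k l hkl
  have hdisj : ∀ s ∈ S, s ≠ t ∧ t * s = s * t := by
    intro s hs
    obtain ⟨k, hk, l, hl, hkl, rfl⟩ := hS s hs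
    simp only [Finset.mem_erase] at hk hl
    refine ⟨hf.disj k l a b hkl hab hk.2.1 hk.1 hl.2.1 hl.1, ?_⟩
    refine (h.tv_comm_iff h2 (hf.tv a b hab) (hf.tv k l hkl)).2 ?_
    rw [h.fam_pair h2 hf hab hkl, dl_ne hk.2.1.symm, dl_ne hk.1.symm, dl_ne hl.2.1.symm, dl_ne hl.1.symm]
    rfl
  obtain ⟨K, k1, -, k3, k4, -⟩ := h.tv_sep h2 hStv (by
    rintro s (rfl | hs) s' (rfl | hs')
    · rfl
    · exact (hdisj s' hs').2
    · exact (hdisj s hs).2.symm
    · exact hScomm s hs s' hs') (Set.mem_insert t S)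
  refine k1 ?_
  have hrest : ((∏ k ∈ (Finset.univ.erase a).erase b, uu k : ↥V) : G) ∈ K := by
    refine (closure_le _).2 ?_ hprod
    rintro _ ⟨s, hs, rfl⟩
    exact k3 s (Set.mem_insert_of_mem _ hs) (hdisj s hs).1
  have e : P₀ = tvE V t * ((∏ k ∈ (Finset.univ.erase a).erase b, uu k : ↥V) : G) := by
    rw [hP₀, ← Finset.mul_prod_erase _ uu (Finset.mem_univ a), ← Finset.mul_prod_erase _ uu hb, ← mul_assoc,
      Subgroup.coe_mul, Subgroup.coe_mul, hf.centre a b hab]
  have := mul_mem (k4 P₀ (Subtype.prop _) hfix) (inv_mem hrest)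
  rwa [e, mul_inv_cancel_right] at this

end Conf
end Cfsg.Lib.Local.PMinOff
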