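import Cfsg.Agent.Lib.Local.PMinOff.Blocks
import Mathlib.Algebra.CharP.Two

/-!
# Best offenders in `p`-minimal groups: transvections

When the offenders have order two their involutions are transvections; two of them commute if and only if each
fixes the centre of the other, and no one of them moves three pairwise commuting others.
-/

set_option autoImplicit false
set_option linter.style.haveILetI false

namespace Cfsg.Lib.Local.PMinOff

open Subgroup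
open scoped commutatorElement
open OffenderPair (fx)
open TrapPair (mem_cj cj_cj cj_one cj_eq_of_mem cj_le)

variable {G : Type*} [Group G] {p : ℕ} {V P T M A₀ : Subgroup G}

local notation:max "cj" g:max K:max => Subgroup.map (MulEquiv.toMonoidHom (MulAut.conj g)) K

/-- `t` is the involution of a member. -/
def IsTv (P A₀ : Subgroup G) (t : G) : Prop := t ≠ 1 ∧ ∃ X, Mem P A₀ X ∧ t ∈ X

open Classical in
/-- The centre of a transvection. -/
noncomputable def tvE (V : Subgroup G) (t : G) : G :=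
  if hex : ∃ v ∈ V, ⁅v, t⁆ ≠ 1 then ⁅hex.choose, t⁆ else 1

open Classical in
/-- The linear form of a transvection. -/
noncomputable def tvF (t v : G) : ZMod 2 := if t * v = v * t then 0 else 1

/-- A power with exponent in `ZMod 2`. -/
def pw (e : G) (c : ZMod 2) : G := e ^ c.val

theorem z2_cases : ∀ c : ZMod 2, c = 0 ∨ c = 1 := by decide

@[simp] theorem pw_zero (e : G) : pw e 0 = 1 := pow_zero e

@[simp] theorem pw_one (e : G) : pw e 1 = e := pow_one e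

theorem pw_add {e : G} (he : e * e = 1) (a b : ZMod 2) : pw e (a + b) = pw e a * pw e b := by
  rcases z2_cases a with rfl | rfl <;> rcases z2_cases b with rfl | rfl <;>
    simp [CharTwo.add_self_eq_zero, he]

theorem pw_mem {K : Subgroup G} {e : G} (he : e ∈ K) (c : ZMod 2) : pw e c ∈ K := pow_mem he _

theorem tvF_eq_zero {t v : G} : tvF t v = 0 ↔ t * v = v * t := by
  unfold tvF; split_ifs with hc <;> simp [hc]

theorem conj_isTv_iff {g : G} (hg : g ∈ P) {t : G} (ht : IsTv P A₀ t) : IsTv P A₀ (g * t * g⁻¹) := by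
  obtain ⟨h1, X, hX, htX⟩ := ht
  exact ⟨fun e => h1 (by simpa [mul_inv_eq_one, mul_assoc] using congrArg (fun z => g⁻¹ * z * g) e), _,
    hX.conj hg, t, htX, rfl⟩

namespace Conf

variable [Finite G] [Fact p.Prime]

theorem p_eq_two (h : Conf p V P T M A₀) (h2 : Nat.card ↥A₀ = 2) : p = 2 := by
  obtain ⟨n, hn⟩ := (IsPGroup.iff_card).1 (PGroup.isPGroup_of_isElementaryAbelian (p := p) h.hA₀)
  have hn0 : n ≠ 0 := fun e => by rw [h2, e, pow_zero] at hn; omega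
  exact (Nat.prime_dvd_prime_iff_eq Fact.out Nat.prime_two).1 (by rw [← h2, hn]; exact dvd_pow_self p hn0)

theorem V_sq (h : Conf p V P T M A₀) (h2 : Nat.card ↥A₀ = 2) {v : G} (hv : v ∈ V) : v * v = 1 := by
  rw [← pow_two, ← h.p_eq_two h2]; exact h.hV.2 v hv

theorem V_inv (h : Conf p V P T M A₀) (h2 : Nat.card ↥A₀ = 2) {v : G} (hv : v ∈ V) : v⁻¹ = v :=
  inv_eq_of_mul_eq_one_left (h.V_sq h2 hv)

omit [Finite G] [Fact p.Prime] in
theorem tv_mem (h : Conf p V P T M A₀) {t : G} (ht : IsTv P A₀ t) : t ∈ P := by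
  obtain ⟨-, X, hX, htX⟩ := ht
  exact h.mem_le hX htX

theorem tv_sq (h : Conf p V P T M A₀) (h2 : Nat.card ↥A₀ = 2) {t : G} (ht : IsTv P A₀ t) : t * t = 1 := by
  obtain ⟨-, X, hX, htX⟩ := ht
  rw [← pow_two, ← h.p_eq_two h2]
  exact (h.mem_elem hX).2 t htX

theorem tv_inv (h : Conf p V P T M A₀) (h2 : Nat.card ↥A₀ = 2) {t : G} (ht : IsTv P A₀ t) : t⁻¹ = t :=
  inv_eq_of_mul_eq_one_left (h.tv_sq h2 ht)

theorem mem_two (h2 : Nat.card ↥A₀ = 2) {X : Subgroup G} (hX : Mem P A₀ X) {t : G} (ht : t ∈ X) (ht1 : t ≠ 1)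
    {x : G} (hx : x ∈ X) : x = 1 ∨ x = t := by
  classical
  haveI := Fintype.ofFinite ↥X
  by_contra hno
  push Not at hno
  have : ({1, ⟨t, ht⟩, ⟨x, hx⟩} : Finset ↥X).card ≤ 2 :=
    (Finset.card_le_univ _).trans_eq (by rw [← Nat.card_eq_fintype_card, mem_card hX, h2])
  rw [Finset.card_insert_of_notMem, Finset.card_pair] at this
  · omega
  · exact fun e => hno.2 (congrArg Subtype.val e).symm
  · simp only [Finset.mem_insert, Finset.mem_singleton, Subtype.ext_iff, Subgroup.coe_one, not_or]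
    exact ⟨ht1.symm, hno.1.symm⟩

theorem br_mem (h : Conf p V P T M A₀) {t : G} (ht : IsTv P A₀ t) {v : G} (hv : v ∈ V) : ⁅v, t⁆ ∈ V :=
  Subgroup.le_normalizer_iff_commutator_le_left.mp h.hPV (commutator_mem_commutator hv (h.tv_mem ht))

omit [Finite G] [Fact p.Prime] in
theorem tvF_def (t v : G) : tvF t v = 0 ∧ ⁅v, t⁆ = 1 ∨ tvF t v = 1 ∧ ⁅v, t⁆ ≠ 1 := by
  by_cases hc : t * v = v * t
  · exact .inl ⟨tvF_eq_zero.2 hc, commutatorElement_eq_one_iff_mul_comm.2 hc.symm⟩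
  · refine .inr ⟨(z2_cases _).resolve_left fun e => hc (tvF_eq_zero.1 e), fun e => hc ?_⟩
    exact (commutatorElement_eq_one_iff_mul_comm.1 e).symm

theorem tvE_spec (h : Conf p V P T M A₀) {t : G} (ht : IsTv P A₀ t) :
    tvE V t ∈ V ∧ tvE V t ≠ 1 ∧ ∃ v ∈ V, ⁅v, t⁆ = tvE V t := by
  have hex : ∃ v ∈ V, ⁅v, t⁆ ≠ 1 := h.exists_bracket_ne (h.tv_mem ht) ht.1
  rw [tvE, dif_pos hex]
  exact ⟨h.br_mem ht hex.choose_spec.1, hex.choose_spec.2, hex.choose, hex.choose_spec.1, rfl⟩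

theorem tv_bracket (h : Conf p V P T M A₀) (h2 : Nat.card ↥A₀ = 2) {t : G} (ht : IsTv P A₀ t) {v : G}
    (hv : v ∈ V) : ⁅v, t⁆ = pw (tvE V t) (tvF t v) := by
  rcases tvF_def t v with ⟨e, e'⟩ | ⟨e, e'⟩
  · rw [e, e', pw_zero]
  rw [e, pw_one]
  obtain ⟨-, hne, w, hw, hwe⟩ := h.tvE_spec ht
  obtain ⟨ht1, X, hX, htX⟩ := ht
  classical
  haveI := Fintype.ofFinite ↥(h.brHom (h.mem_le hX htX)).range
  by_contra hno
  have h3 : ({1, ⟨_, ⟨⟨v, hv⟩, rfl⟩⟩, ⟨_, ⟨⟨w, hw⟩, rfl⟩⟩} :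
      Finset ↥(h.brHom (h.mem_le hX htX)).range).card ≤ 2 :=
    (Finset.card_le_univ _).trans_eq
      (by rw [← Nat.card_eq_fintype_card, h.card_brHom hX htX ht1, mem_card hX, h2])
  rw [Finset.card_insert_of_notMem, Finset.card_pair] at h3
  · omega
  · exact fun e => hno (by have := congrArg Subtype.val e; simpa [brHom_apply, hwe] using this)
  · simp only [Finset.mem_insert, Finset.mem_singleton, Subtype.ext_iff, Subgroup.coe_one, brHom_apply, hwe,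
      not_or]
    exact ⟨Ne.symm e', hne.symm⟩

theorem tvE_sq (h : Conf p V P T M A₀) (h2 : Nat.card ↥A₀ = 2) {t : G} (ht : IsTv P A₀ t) :
    tvE V t * tvE V t = 1 := h.V_sq h2 (h.tvE_spec ht).1

theorem tv_conj (h : Conf p V P T M A₀) (h2 : Nat.card ↥A₀ = 2) {t : G} (ht : IsTv P A₀ t) {v : G}
    (hv : v ∈ V) : t * v * t⁻¹ = v * pw (tvE V t) (tvF t v) := by
  rw [← h.tv_bracket h2 ht hv]
  have e1 : t * v * t⁻¹ = ⁅v, t⁆⁻¹ * v := by simp only [commutatorElement_def]; group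
  rw [e1, h.V_inv h2 (h.br_mem ht hv), h.comm_V (h.br_mem ht hv) hv]

theorem pw_inj (h : Conf p V P T M A₀) {t : G} (ht : IsTv P A₀ t) {a b : ZMod 2}
    (e : pw (tvE V t) a = pw (tvE V t) b) : a = b := by
  rcases z2_cases a with rfl | rfl <;> rcases z2_cases b with rfl | rfl
  · rfl
  · exact absurd (by simpa using e.symm) (h.tvE_spec ht).2.1
  · exact absurd (by simpa using e) (h.tvE_spec ht).2.1
  · rfl

theorem tvF_mul (h : Conf p V P T M A₀) (h2 : Nat.card ↥A₀ = 2) {t : G} (ht : IsTv P A₀ t) {v w : G}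
    (hv : v ∈ V) (hw : w ∈ V) : tvF t (v * w) = tvF t v + tvF t w := by
  refine h.pw_inj ht ?_
  rw [pw_add (h.tvE_sq h2 ht), ← h.tv_bracket h2 ht (mul_mem hv hw), ← h.tv_bracket h2 ht hv,
    ← h.tv_bracket h2 ht hw,
    show ⁅v * w, t⁆ = v * ⁅w, t⁆ * v⁻¹ * ⁅v, t⁆ by simp only [commutatorElement_def]; group,
    h.comm_V hv (h.br_mem ht hw), mul_inv_cancel_right, h.comm_V (h.br_mem ht hw) (h.br_mem ht hv)]

omit [Finite G] [Fact p.Prime] in
theorem tvF_one (t : G) : tvF t 1 = 0 := tvF_eq_zero.2 (by rw [mul_one, one_mul])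

theorem tvF_self (h : Conf p V P T M A₀) {t : G} (ht : IsTv P A₀ t) : tvF t (tvE V t) = 0 := by
  obtain ⟨-, -, v, hv, he⟩ := h.tvE_spec ht
  obtain ⟨Q, hQ, hQT⟩ := h.exists_maxQ_le_T
  obtain ⟨A, hA, -⟩ := h.exists_adm hQ hQT
  obtain ⟨ht1, X, hX, htX⟩ := ht
  obtain ⟨g, hg, eA⟩ := hA.mem
  obtain ⟨g', hg', eX⟩ := hX
  set k := g' * g⁻¹
  have hk : k ∈ P := mul_mem hg' (inv_mem hg)
  have hXA : X = cj k A := by rw [eX, eA, cj_cj]; simp [k]
  rw [hXA, mem_cj] at htX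
  have hq := h.quad hQ hA (by simpa using h.conj_mem_V (inv_mem hk) hv : k⁻¹ * v * k ∈ V) htX
  refine tvF_eq_zero.2 ?_
  have := mem_centralizer_iff.1 hq.2 _ htX
  rw [← he]
  calc t * ⁅v, t⁆ = k * (k⁻¹ * t * k * ⁅k⁻¹ * v * k, k⁻¹ * t * k⁆) * k⁻¹ := by
        simp only [commutatorElement_def]; group
    _ = ⁅v, t⁆ * t := by rw [this]; simp only [commutatorElement_def]; group

theorem tvF_conj (t : G) (g v : G) : tvF (g * t * g⁻¹) v = tvF t (g⁻¹ * v * g) := by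
  rcases z2_cases (tvF t (g⁻¹ * v * g)) with e | e <;> rw [e]
  · have := tvF_eq_zero.1 e
    refine tvF_eq_zero.2 ?_
    calc g * t * g⁻¹ * v = g * (t * (g⁻¹ * v * g)) * g⁻¹ := by group
      _ = v * (g * t * g⁻¹) := by rw [this]; group
  · refine (z2_cases _).resolve_left fun e' => ?_
    have := tvF_eq_zero.1 e'
    have : tvF t (g⁻¹ * v * g) = 0 := tvF_eq_zero.2 (by
      calc t * (g⁻¹ * v * g) = g⁻¹ * (g * t * g⁻¹ * v) * g := by group
        _ = g⁻¹ * v * g * t := by rw [this]; group)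
    rw [e] at this
    exact one_ne_zero this

theorem tvE_conj (h : Conf p V P T M A₀) (h2 : Nat.card ↥A₀ = 2) {g t : G} (hg : g ∈ P) (ht : IsTv P A₀ t) :
    tvE V (g * t * g⁻¹) = g * tvE V t * g⁻¹ := by
  have ht' := conj_isTv_iff hg ht
  obtain ⟨-, hne, v, hv, he⟩ := h.tvE_spec ht
  have h1 := h.tv_bracket h2 ht' (h.conj_mem_V hg hv)
  rw [show ⁅g * v * g⁻¹, g * t * g⁻¹⁆ = g * ⁅v, t⁆ * g⁻¹ from (conj_bracket g v t).symm, he] at h1
  rcases z2_cases (tvF (g * t * g⁻¹) (g * v * g⁻¹)) with e | e <;> rw [e] at h1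
  · rw [pw_zero] at h1
    exact absurd (conj_eq_one_iff.1 h1) hne
  · rw [pw_one] at h1
    exact h1.symm

theorem tv_ext (h : Conf p V P T M A₀) (h2 : Nat.card ↥A₀ = 2) {t t' : G} (ht : IsTv P A₀ t)
    (ht' : IsTv P A₀ t') (he : tvE V t = tvE V t') (hf : ∀ v ∈ V, tvF t v = tvF t' v) : t = t' := by
  refine inv_mul_eq_one.1 (mem_bot.1 (h.hfaith ▸ mem_inf.2
    ⟨mul_mem (inv_mem (h.tv_mem ht)) (h.tv_mem ht'), mem_centralizer_iff.2 fun v hv => ?_⟩))
  have e : t * v * t⁻¹ = t' * v * t'⁻¹ := by rw [h.tv_conj h2 ht hv, h.tv_conj h2 ht' hv, he, hf v hv]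
  calc v * (t⁻¹ * t') = t⁻¹ * (t * v * t⁻¹) * t' := by group
    _ = t⁻¹ * t' * v := by rw [e]; group

omit [Fact p.Prime] in
/-- Pairwise commuting elements killed by `p` generate a `p`-group. -/
theorem closure_pgroup (S : Set G) (hS : ∀ x ∈ S, x ^ p = 1) (hc : ∀ x ∈ S, ∀ y ∈ S, x * y = y * x) :
    IsPGroup p ↥(closure S) := by
  have hcc : ∀ x ∈ closure S, ∀ y ∈ closure S, x * y = y * x := by
    intro x hx y hy
    have h1 : closure S ≤ centralizer (S : Set G) := (closure_le _).2 fun z hz =>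
      mem_centralizer_iff.2 fun w hw => hc w hw z hz
    have h3 : closure S ≤ centralizer (zpowers x : Set G) := (closure_le _).2 fun w hw =>
      le_centralizer_iff.1 (zpowers_le.2 (mem_centralizer_iff.2 fun z hz => by
        obtain ⟨k, rfl⟩ := mem_zpowers_iff.1 hz
        exact (Commute.zpow_left (mem_centralizer_iff.1 (h1 hx) w hw) k).eq)) (mem_zpowers w)
    exact mem_centralizer_iff.1 (h3 hy) x (mem_zpowers x)
  intro g
  refine ⟨1, Subtype.ext ?_⟩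
  rw [pow_one]
  show (g : G) ^ p = 1
  have : ∀ z ∈ closure S, z ^ p = 1 := fun z hz => by
    refine (closure_induction (p := fun z _ => z ∈ closure S ∧ z ^ p = 1) (fun x hx => ⟨subset_closure hx, hS x hx⟩)
      ⟨one_mem _, one_pow p⟩ (fun x y _ _ hx hy => ⟨mul_mem hx.1 hy.1, ?_⟩)
      (fun x _ hx => ⟨inv_mem hx.1, by rw [inv_pow, hx.2, inv_one]⟩) hz).2
    rw [(show Commute x y from hcc x hx.1 y hy.1).mul_pow, hx.2, hy.2, one_mul]
  exact this g g.2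

/-- Pairwise commuting transvections lie in one Sylow subgroup. -/
theorem tv_sylow (h : Conf p V P T M A₀) {S : Set G} (hS : ∀ t ∈ S, IsTv P A₀ t)
    (hc : ∀ x ∈ S, ∀ y ∈ S, x * y = y * x) : ∃ g ∈ P, ∀ t ∈ S, g⁻¹ * t * g ∈ T := by
  obtain ⟨g, hg, hle⟩ := h.hsyl (closure S) ((closure_le _).2 fun t ht => h.tv_mem (hS t ht))
    (closure_pgroup S (fun t ht => by
      obtain ⟨-, X, hX, htX⟩ := hS t ht
      exact (h.mem_elem hX).2 t htX) hc)
  exact ⟨g, hg, fun t ht => mem_cj.1 (hle (subset_closure ht))⟩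

/-- The transvections of `T`: separation. -/
theorem tv_sep_T (h : Conf p V P T M A₀) (h2 : Nat.card ↥A₀ = 2) {t : G} (ht : IsTv P A₀ t) (htT : t ∈ T) :
    ∃ K : Subgroup G, tvE V t ∉ K ∧ (∀ z ∈ K, tvF t z = 0) ∧
      (∀ u, IsTv P A₀ u → u ∈ T → u ≠ t → tvE V u ∈ K) ∧
      (∀ z ∈ V, (∀ u, IsTv P A₀ u → tvF u z = 0) → z ∈ K) ∧
      ∃ b ∈ V, tvF t b = 1 ∧ ∀ u, IsTv P A₀ u → u ∈ T → u ≠ t → tvF u b = 0 := by
  obtain ⟨ht1, X, hX, htX⟩ := ht
  have hXT : X ≤ T := fun x hx => by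
    rcases mem_two h2 hX htX ht1 hx with rfl | rfl
    · exact one_mem T
    · exact htT
  obtain ⟨hQ, -, hA⟩ := h.member_T hX hXT
  have hAM := hXT.trans h.hTM
  obtain ⟨B, hB, hBM⟩ := h.exists_adm_outside hQ
  have hns : ¬ SameCls P M (others P T A₀ X) X B := fun e => hBM (h.le_of_same hQ hA hAM e)
  have hmem : ∀ u, IsTv P A₀ u → u ∈ T → u ≠ t → ∃ Y, Mem P A₀ Y ∧ Y ≤ T ∧ Y ≠ X ∧ u ∈ Y := by
    rintro u ⟨hu1, Y, hY, huY⟩ huT hut
    refine ⟨Y, hY, fun y hy => ?_, fun e => ?_, huY⟩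
    · rcases mem_two h2 hY huY hu1 hy with rfl | rfl
      · exact one_mem T
      · exact huT
    · subst e
      exact hut ((mem_two h2 hX htX ht1 huY).resolve_left hu1)
  refine ⟨fx V (LQ P A₀ (others P T A₀ X)), fun he => ?_, fun z hz => ?_, fun u hu huT hut => ?_,
    fun z hz hall => ?_, ?_⟩
  · obtain ⟨-, hne, v, hv, e⟩ := h.tvE_spec ⟨ht1, X, hX, htX⟩
    rw [← e] at he hne
    exact hne (h.free_cls hQ hA hB hns hv htX (fx_mono (le_LQ hB) he))
  · exact tvF_eq_zero.2 (mem_centralizer_iff.1 hz.2 t (le_LQ hA htX))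
  · obtain ⟨Y, hY, hYT, hne, huY⟩ := hmem u hu huT hut
    obtain ⟨-, -, v, hv, e⟩ := h.tvE_spec hu
    rw [← e]
    exact (h.member_comm hX hXT hY hYT hne).2 (commutator_mem_commutator hv huY)
  · refine mem_fx_sSup hz fun Y hY => mem_inf.2 ⟨hz, mem_centralizer_iff.2 fun y hy => ?_⟩
    rcases eq_or_ne y 1 with rfl | hy1
    · rw [one_mul, mul_one]
    · exact tvF_eq_zero.1 (hall y ⟨hy1, Y, hY.mem, hy⟩)
  · obtain ⟨b, hb, hb1⟩ := h.exists_ne_one hB.mem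
    obtain ⟨v, hv, hne⟩ := h.exists_bracket_ne (h.mem_le hB.mem hb) hb1
    refine ⟨⁅v, b⁆, (h.quad hQ hB hv hb).1, (z2_cases _).resolve_left fun e => hne ?_, fun u hu huT hut => ?_⟩
    · exact h.free_cls hQ hB hA (fun e => hns e.symm) hv hb
        (h.fix_eq hX (h.quad hQ hB hv hb).1 htX ht1 (tvF_eq_zero.1 e))
    · obtain ⟨Y, hY, hYT, hneX, huY⟩ := hmem u hu huT hut
      have := h.bracket_le_fxQ hQ hA hAM hB (commutator_mem_commutator hv hb)
      exact tvF_eq_zero.2 (mem_centralizer_iff.1 this.2 u (le_others hY hYT hneX huY))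

/-- Pairwise commuting transvections: separation. -/
theorem tv_sep (h : Conf p V P T M A₀) (h2 : Nat.card ↥A₀ = 2) {S : Set G} (hS : ∀ t ∈ S, IsTv P A₀ t)
    (hc : ∀ x ∈ S, ∀ y ∈ S, x * y = y * x) {t : G} (ht : t ∈ S) :
    ∃ K : Subgroup G, tvE V t ∉ K ∧ (∀ z ∈ K, tvF t z = 0) ∧
      (∀ u ∈ S, u ≠ t → tvE V u ∈ K) ∧ (∀ z ∈ V, (∀ u, IsTv P A₀ u → tvF u z = 0) → z ∈ K) ∧
      ∃ b ∈ V, tvF t b = 1 ∧ ∀ u ∈ S, u ≠ t → tvF u b = 0 := by
  obtain ⟨g, hg, hgT⟩ := h.tv_sylow hS hc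
  have hgi := inv_mem hg
  have htv : ∀ u ∈ S, IsTv P A₀ (g⁻¹ * u * g) := fun u hu => by
    simpa using conj_isTv_iff hgi (hS u hu)
  obtain ⟨K, k1, k2, k3, k4, b, hb, k5, k6⟩ := h.tv_sep_T h2 (htv t ht) (hgT t ht)
  have hE : ∀ u ∈ S, g⁻¹ * tvE V u * g = tvE V (g⁻¹ * u * g) := fun u hu => by
    have := h.tvE_conj h2 hgi (hS u hu)
    simpa using this.symm
  have hF : ∀ u z : G, tvF u z = tvF (g⁻¹ * u * g) (g⁻¹ * z * g) := fun u z => by
    have := tvF_conj u g⁻¹ (g⁻¹ * z * g)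
    rw [inv_inv] at this
    rw [this]; congr 1; group
  have hne : ∀ u ∈ S, u ≠ t → g⁻¹ * u * g ≠ g⁻¹ * t * g := fun u _ hu e => hu (by
    simpa using e)
  refine ⟨cj g K, fun e => k1 ?_, fun z hz => ?_, fun u hu hut => ?_, fun z hz hall => ?_,
    g * b * g⁻¹, h.conj_mem_V hg hb, ?_, fun u hu hut => ?_⟩
  · rw [← hE t ht]; exact mem_cj.1 e
  · rw [hF]; exact k2 _ (mem_cj.1 hz)
  · rw [mem_cj, hE u hu]
    exact k3 _ (htv u hu) (hgT u hu) (hne u hu hut)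
  · refine mem_cj.2 (k4 _ (by simpa using h.conj_mem_V hgi hz) fun u hu => ?_)
    rw [← tvF_conj]
    exact hall _ (conj_isTv_iff hg hu)
  · rw [hF, show g⁻¹ * (g * b * g⁻¹) * g = b by group]; exact k5
  · rw [hF, show g⁻¹ * (g * b * g⁻¹) * g = b by group]
    exact k6 _ (htv u hu) (hgT u hu) (hne u hu hut)

theorem comm_pair (h : Conf p V P T M A₀) (h2 : Nat.card ↥A₀ = 2) {t u : G} (ht : IsTv P A₀ t)
    (hu : IsTv P A₀ u) (hne : u ≠ t) (hc : t * u = u * t) :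
    tvF t (tvE V u) = 0 ∧ tvE V t ≠ tvE V u ∧ ∃ b ∈ V, tvF t b = 1 ∧ tvF u b = 0 := by
  have hS : ∀ x ∈ ({t, u} : Set G), IsTv P A₀ x := by rintro x (rfl | rfl); exacts [ht, hu]
  obtain ⟨K, k1, k2, k3, -, b, hb, k5, k6⟩ := h.tv_sep h2 hS (by
    rintro x (rfl | rfl) y (rfl | rfl) <;> first | rfl | exact hc | exact hc.symm) (Set.mem_insert t _)
  have hmem : u ∈ ({t, u} : Set G) := Set.mem_insert_of_mem _ rfl
  exact ⟨k2 _ (k3 u hmem hne), fun e => k1 (e ▸ k3 u hmem hne), b, hb, k5, k6 u hmem hne⟩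

theorem comm_of_zero (h : Conf p V P T M A₀) (h2 : Nat.card ↥A₀ = 2) {t u : G} (ht : IsTv P A₀ t)
    (hu : IsTv P A₀ u) (h1 : tvF t (tvE V u) = 0) (h1' : tvF u (tvE V t) = 0) : t * u = u * t := by
  refine h.commute_of_cross (h.tv_mem ht) (h.tv_mem hu) (fun v hv => ?_) (fun v hv => ?_)
  · rw [h.tv_bracket h2 ht hv]
    rcases z2_cases (tvF t v) with e | e <;> rw [e]
    · simp
    · rw [pw_one]; exact tvF_eq_zero.1 h1'
  · rw [h.tv_bracket h2 hu hv]
    rcases z2_cases (tvF u v) with e | e <;> rw [e]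
    · simp
    · rw [pw_one]; exact tvF_eq_zero.1 h1

/-- The conjugate of a transvection by another. -/
theorem tv_move (h : Conf p V P T M A₀) (h2 : Nat.card ↥A₀ = 2) {t u : G} (ht : IsTv P A₀ t)
    (hu : IsTv P A₀ u) :
    tvE V (u * t * u⁻¹) = tvE V t * pw (tvE V u) (tvF u (tvE V t)) ∧
      ∀ v ∈ V, tvF (u * t * u⁻¹) v = tvF t v + tvF u v * tvF t (tvE V u) := by
  have hEt := (h.tvE_spec ht).1
  have hEu := (h.tvE_spec hu).1
  refine ⟨by rw [h.tvE_conj h2 (h.tv_mem hu) ht, h.tv_conj h2 hu hEt], fun v hv => ?_⟩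
  rw [tvF_conj, show u⁻¹ * v * u = u * v * u⁻¹ by rw [h.tv_inv h2 hu], h.tv_conj h2 hu hv,
    h.tvF_mul h2 ht hv (pw_mem hEu _)]
  rcases z2_cases (tvF u v) with e | e <;> rw [e] <;> simp [tvF_one]

/-- The pairing of two transvections is symmetric. -/
theorem tv_symm (h : Conf p V P T M A₀) (h2 : Nat.card ↥A₀ = 2) {t u : G} (ht : IsTv P A₀ t)
    (hu : IsTv P A₀ u) : tvF t (tvE V u) = tvF u (tvE V t) := by
  suffices key : ∀ {t u : G}, IsTv P A₀ t → IsTv P A₀ u → tvF t (tvE V u) = 0 → tvF u (tvE V t) = 0 by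
    rcases z2_cases (tvF t (tvE V u)) with e | e
    · rw [e, key ht hu e]
    · rw [e]
      refine ((z2_cases _).resolve_left fun e' => ?_).symm
      rw [key hu ht e'] at e
      exact zero_ne_one e
  intro t u ht hu h0
  by_contra h1
  have h1' := (z2_cases (tvF u (tvE V t))).resolve_left h1
  obtain ⟨e, f⟩ := h.tv_move h2 ht hu
  set t' := u * t * u⁻¹
  have ht' : IsTv P A₀ t' := conj_isTv_iff (h.tv_mem hu) ht
  rw [h1', pw_one] at e
  have f' : ∀ v ∈ V, tvF t' v = tvF t v := fun v hv => by rw [f v hv, h0, mul_zero, add_zero]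
  have hEt := (h.tvE_spec ht).1
  have hEu := (h.tvE_spec hu).1
  have hc : t * t' = t' * t := h.comm_of_zero h2 ht ht'
    (by rw [e, h.tvF_mul h2 ht hEt hEu, h.tvF_self ht, h0, add_zero]) (by rw [f' _ hEt, h.tvF_self ht])
  have hne : t' ≠ t := fun hh => (h.tvE_spec hu).2.1 (by rw [hh] at e; exact left_eq_mul.1 e)
  obtain ⟨-, -, b, hb, h5, h6⟩ := h.comm_pair h2 ht ht' hne hc
  rw [f' b hb, h5] at h6
  exact one_ne_zero h6

theorem tv_comm_iff (h : Conf p V P T M A₀) (h2 : Nat.card ↥A₀ = 2) {t u : G} (ht : IsTv P A₀ t)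
    (hu : IsTv P A₀ u) : t * u = u * t ↔ tvF t (tvE V u) = 0 := by
  refine ⟨fun hc => ?_, fun h0 => h.comm_of_zero h2 ht hu h0 ((h.tv_symm h2 ht hu).symm.trans h0)⟩
  rcases eq_or_ne u t with rfl | hne
  · exact h.tvF_self ht
  · exact (h.comm_pair h2 ht hu hne hc).1

theorem tvE_inj (h : Conf p V P T M A₀) (h2 : Nat.card ↥A₀ = 2) {t u : G} (ht : IsTv P A₀ t)
    (hu : IsTv P A₀ u) (e : tvE V t = tvE V u) : t = u := by
  by_contra hne
  exact (h.comm_pair h2 ht hu (Ne.symm hne)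
    ((h.tv_comm_iff h2 ht hu).2 (e ▸ h.tvF_self ht))).2.1 e

/-- No transvection moves three pairwise commuting transvections. -/
theorem no_claw (h : Conf p V P T M A₀) (h2 : Nat.card ↥A₀ = 2) {a b c d : G} (ha : IsTv P A₀ a)
    (hb : IsTv P A₀ b) (hc : IsTv P A₀ c) (hd : IsTv P A₀ d) (hab : a ≠ b) (hac : a ≠ c) (hbc : b ≠ c)
    (cab : tvF a (tvE V b) = 0) (cac : tvF a (tvE V c) = 0) (cbc : tvF b (tvE V c) = 0)
    (nad : tvF a (tvE V d) = 1) (nbd : tvF b (tvE V d) = 1) (ncd : tvF c (tvE V d) = 1) : False := by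
  have mul : ∀ {t v w : G}, IsTv P A₀ t → v ∈ V → w ∈ V → tvF t (v * w) = tvF t v + tvF t w :=
    fun ht hv hw => h.tvF_mul h2 ht hv hw
  have hEa := (h.tvE_spec ha).1
  have hEb := (h.tvE_spec hb).1
  have hEc := (h.tvE_spec hc).1
  have hEd := (h.tvE_spec hd).1
  have sy : ∀ {t u : G}, IsTv P A₀ t → IsTv P A₀ u → tvF t (tvE V u) = tvF u (tvE V t) :=
    fun ht hu => h.tv_symm h2 ht hu
  set a1 := a * d * a⁻¹
  set a2 := b * a1 * b⁻¹
  set a3 := c * a2 * c⁻¹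
  set y := d * a3 * d⁻¹
  have h1 : IsTv P A₀ a1 := conj_isTv_iff (h.tv_mem ha) hd
  have h2' : IsTv P A₀ a2 := conj_isTv_iff (h.tv_mem hb) h1
  have h3 : IsTv P A₀ a3 := conj_isTv_iff (h.tv_mem hc) h2'
  have hy : IsTv P A₀ y := conj_isTv_iff (h.tv_mem hd) h3
  have e1 : tvE V a1 = tvE V d * tvE V a := by rw [(h.tv_move h2 hd ha).1, nad, pw_one]
  have e2 : tvE V a2 = tvE V d * tvE V a * tvE V b := by
    rw [(h.tv_move h2 h1 hb).1, e1, mul hb hEd hEa, nbd, sy hb ha, cab, add_zero, pw_one]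
  have e3 : tvE V a3 = tvE V d * tvE V a * tvE V b * tvE V c := by
    rw [(h.tv_move h2 h2' hc).1, e2, mul hc (mul_mem hEd hEa) hEb, mul hc hEd hEa, ncd, sy hc ha, cac,
      sy hc hb, cbc, add_zero, add_zero, pw_one]
  have e4 : tvE V y = tvE V a * tvE V b * tvE V c := by
    rw [(h.tv_move h2 h3 hd).1, e3, mul hd (mul_mem (mul_mem hEd hEa) hEb) hEc, mul hd (mul_mem hEd hEa) hEb,
      mul hd hEd hEa, h.tvF_self hd, sy hd ha, nad, sy hd hb, nbd, sy hd hc, ncd]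
    rw [show (0 : ZMod 2) + 1 + 1 + 1 = 1 by decide, pw_one,
      h.comm_V (mul_mem (mul_mem (mul_mem hEd hEa) hEb) hEc) hEd]
    simp only [← mul_assoc, h.V_sq h2 hEd, one_mul]
  have hfy : ∀ {t : G}, IsTv P A₀ t → tvF t (tvE V y) = tvF t (tvE V a) + tvF t (tvE V b) + tvF t (tvE V c) :=
    fun {t} ht => by rw [e4, mul ht (mul_mem hEa hEb) hEc, mul ht hEa hEb]
  have cay : a * y = y * a := (h.tv_comm_iff h2 ha hy).2 (by rw [hfy ha, h.tvF_self ha, cab, cac]; rfl)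
  have cby : b * y = y * b := (h.tv_comm_iff h2 hb hy).2 (by rw [hfy hb, sy hb ha, cab, h.tvF_self hb, cbc]; rfl)
  have ccy : c * y = y * c := (h.tv_comm_iff h2 hc hy).2
    (by rw [hfy hc, sy hc ha, cac, sy hc hb, cbc, h.tvF_self hc]; rfl)
  have c1 := (h.tv_comm_iff h2 ha hb).2 cab
  have c2 := (h.tv_comm_iff h2 ha hc).2 cac
  have c3 := (h.tv_comm_iff h2 hb hc).2 cbc
  have hya : y ≠ a := fun e => hbc (h.tvE_inj h2 hb hc ?_)
  · obtain ⟨K, k1, -, k3, -⟩ := h.tv_sep h2 (S := {a, b, c, y}) (t := y)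
      (by rintro x (rfl | rfl | rfl | rfl) <;> assumption)
      (by
        rintro x (rfl | rfl | rfl | rfl) z (rfl | rfl | rfl | rfl) <;>
          first | rfl | assumption | (symm; assumption))
      (by simp)
    have hyb : y ≠ b := fun e => hac (h.tvE_inj h2 ha hc (by
      rw [e, h.comm_V hEa hEb, mul_assoc] at e4
      rw [← h.V_inv h2 hEc]; exact eq_inv_of_mul_eq_one_left (left_eq_mul.1 e4)))
    have hyc : y ≠ c := fun e => hab (h.tvE_inj h2 ha hb (by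
      rw [e, h.comm_V (mul_mem hEa hEb) hEc] at e4
      rw [← h.V_inv h2 hEb]; exact eq_inv_of_mul_eq_one_left (left_eq_mul.1 e4)))
    exact k1 (e4 ▸ mul_mem (mul_mem (k3 a (by simp) (Ne.symm hya)) (k3 b (by simp) (Ne.symm hyb)))
      (k3 c (by simp) (Ne.symm hyc)))
  · rw [e, mul_assoc] at e4
    rw [← h.V_inv h2 hEc]; exact eq_inv_of_mul_eq_one_left (left_eq_mul.1 e4)

end Conf
end Cfsg.Lib.Local.PMinOff
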